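import Cfsg.Agent.ExtraEight.A9Action

/-!
The alternating group of degree nine.
-/

set_option autoImplicit false
set_option linter.unusedSectionVars false
set_option linter.style.haveILetI false
set_option maxRecDepth 10000

namespace Cfsg.Lib.ExtraEight

open Subgroup Cfsg.Lib.InvolCalc Cfsg.Lib.HallJankoType

variable {G : Type*} [Group G] [Finite G]

namespace Alt9

variable (A : Alt9 G)

theorem card_inside : Nat.card {y : G // IsConj A.u y ∧ y ∈ A.f.range} ≤ 210 := by
  haveI : Fact (Nat.Prime 2) := ⟨Nat.prime_two⟩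
  set u8 := emb8 uM
  have hC : 96 ≤ Nat.card (centralizer ({u8} : Set (alternatingGroup (Fin 8)))) := by
    obtain ⟨a33, a31, au, -⟩ := a3_facts
    have h32 : 32 ∣ Nat.card (centralizer ({u8} : Set (alternatingGroup (Fin 8)))) := by
      have := card_dvd_of_le (show KA.map emb8 ≤ centralizer ({u8} : Set (alternatingGroup (Fin 8))) by
        rintro _ ⟨m, hm, rfl⟩
        exact mem_centralizer_singleton_iff.2 (by rw [← map_mul, ← map_mul, mem_KA.1 hm]))
      rwa [card_map_of_injective emb8_inj, card_KA] at this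
    haveI : Fact (Nat.Prime 3) := ⟨by norm_num⟩
    have h3 : 3 ∣ Nat.card (centralizer ({u8} : Set (alternatingGroup (Fin 8)))) :=
      orderOf_eq_prime a33 a31 ▸ Subgroup.orderOf_dvd_natCard _ (mem_centralizer_singleton_iff.2 au)
    exact Nat.le_of_dvd Nat.card_pos (Nat.Coprime.mul_dvd_of_dvd_of_dvd (m := 32) (n := 3) (by norm_num) h32 h3)
  have h := card_class_mul u8
  rw [card_A8] at h
  have hle : Nat.card {x // IsConj u8 x} ≤ 210 := by
    have := Nat.mul_le_mul_left (Nat.card {x // IsConj u8 x}) hC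
    omega
  refine le_trans (Nat.card_le_card_of_surjective
    (fun x : {x // IsConj u8 x} => (⟨A.f x, ?_, ⟨x, rfl⟩⟩ : {y : G // IsConj A.u y ∧ y ∈ A.f.range}))
    fun y => ?_) hle
  · obtain ⟨c, hc⟩ := isConj_iff.1 x.2
    exact isConj_iff.2 ⟨A.f c, by rw [← hc, u, ← A.fφ, map_mul, map_mul, map_inv]⟩
  · obtain ⟨c, ⟨c', rfl⟩, hc⟩ := A.inner_U y.2.2 y.2.1
    obtain ⟨a, ha⟩ := y.2.2
    refine ⟨⟨a, isConj_iff.2 ⟨c'⁻¹, A.finj ?_⟩⟩, Subtype.ext ha⟩
    simp only [map_mul, map_inv, inv_inv, u8, A.fφ, ha]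
    show (A.f c')⁻¹ * A.u * A.f c' = (y : G)
    exact ((eq_inv_mul_iff_mul_eq.2 (mul_inv_eq_iff_eq_mul.1 hc)).trans (mul_assoc _ _ _).symm).symm

theorem card_fiber (P : A.Part) (hH : Nat.card (centralizer ({A.u} : Set G)) = 480) (m : MA) :
    Nat.card {y : G // IsConj A.u y ∧ y ∉ A.f.range ∧ pairInvol A.S.t y = A.S.φ m} ≤
      if labA m = 2 then 15 else if labA m = 5 then 8 else 0 := by
  obtain ⟨b1, b2⟩ := A.bound_pairs P hH
  have hmove : ∀ c ∈ A.f.range, ∀ t' : G, c * A.S.t * c⁻¹ = t' → c * A.S.φ m * c⁻¹ = A.u →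
      Nat.card {y : G // IsConj A.u y ∧ y ∉ A.f.range ∧ pairInvol A.S.t y = A.S.φ m} ≤
        Nat.card {y : G // IsConj A.u y ∧ y ∉ A.f.range ∧ pairInvol t' y = A.u} := fun c hc t' ht hz => by
    refine Nat.card_le_card_of_injective (fun y => ⟨c * y.1 * c⁻¹, y.2.1.trans (isConj_iff.2 ⟨c, rfl⟩),
      fun h => y.2.2.1 ?_, by rw [← ht, pairInvol_conj, y.2.2.2, hz]⟩) fun y y' h =>
        Subtype.ext (mul_left_cancel (mul_right_cancel (congrArg Subtype.val h)))
    have := mul_mem (mul_mem (inv_mem hc) h) hc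
    simpa [mul_assoc] using this
  by_cases he : IsEmpty {y : G // IsConj A.u y ∧ y ∉ A.f.range ∧ pairInvol A.S.t y = A.S.φ m}
  · rw [Nat.card_of_isEmpty]; exact Nat.zero_le _
  obtain ⟨y, hy, hyG, hpair⟩ := not_isEmpty_iff.1 he
  have hyo := order_two_of_conj A.u_order hy
  have hev := even_of_not_conj A.S.t_order hyo fun h => A.not_both hy h
  obtain ⟨hzo, -, hzy⟩ := central_spec A.S.t_order hyo hev
  obtain ⟨m1, m2⟩ := A.S.φ_invol (m := m) (by rw [← hpair]; exact hzo)
  have hnT : isT' m = false := Bool.eq_false_iff.2 fun h => hyG (A.cent_le (A.φ_mem m) ((A.isT_φ m1 m2).2 h)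
    (mem_centralizer_singleton_iff.2 (by rw [← hpair]; exact hzy.symm)))
  have hU : isU m = true := by rw [lab_UT m m1 m2, hnT]; rfl
  have hr := A.to_rep m1 m2
  have hct : A.S.φ (cwA m) * A.S.t * (A.S.φ (cwA m))⁻¹ = A.S.t := by
    rw [A.S.φ_comm, mul_inv_cancel_right]
  simp only [isU, Bool.or_eq_true, beq_iff_eq] at hU
  rcases hU with e | e
  · rw [if_pos e]
    rw [e] at hr
    exact (hmove _ (A.φ_mem _) _ hct hr).trans b1
  · rw [if_neg (by omega), if_pos e]
    rw [e] at hr
    obtain ⟨-, -, -, c5, c5t⟩ := cR_facts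
    refine (hmove (A.f cR5 * A.S.φ (cwA m)) (mul_mem ⟨_, rfl⟩ (A.φ_mem _)) (A.S.φ tD) ?_ ?_).trans b2
    · rw [show A.f cR5 * A.S.φ (cwA m) * A.S.t * (A.f cR5 * A.S.φ (cwA m))⁻¹ =
        A.f cR5 * (A.S.φ (cwA m) * A.S.t * (A.S.φ (cwA m))⁻¹) * (A.f cR5)⁻¹ by group, hct]
      exact A.f_conj c5t
    · rw [show A.f cR5 * A.S.φ (cwA m) * A.S.φ m * (A.f cR5 * A.S.φ (cwA m))⁻¹ =
        A.f cR5 * (A.S.φ (cwA m) * A.S.φ m * (A.S.φ (cwA m))⁻¹) * (A.f cR5)⁻¹ by group, hr]
      exact A.f_conj c5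

theorem card_class : Nat.card {y : G // IsConj A.u y} ≤ 396 := by
  classical
  obtain ⟨hH, ⟨P⟩⟩ := A.exists_part
  letI := Fintype.ofFinite G
  let O := fun m : MA => {y : G // IsConj A.u y ∧ y ∉ A.f.range ∧ pairInvol A.S.t y = A.S.φ m}
  have hpre : ∀ y : G, IsConj A.u y → ∃ m, A.S.φ m = pairInvol A.S.t y := fun y hy => A.S.mem_iff.1
    ((central_spec A.S.t_order (order_two_of_conj A.u_order hy)
      (even_of_not_conj A.S.t_order (order_two_of_conj A.u_order hy) fun h => A.not_both hy h)).2.1).eq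
  choose mm hmm using hpre
  let F : {y : G // IsConj A.u y} → {y : G // IsConj A.u y ∧ y ∈ A.f.range} ⊕ (Σ m, O m) := fun y =>
    if h : y.1 ∈ A.f.range then Sum.inl ⟨y.1, y.2, h⟩ else Sum.inr ⟨mm y.1 y.2, ⟨y.1, y.2, h, (hmm _ _).symm⟩⟩
  let back : {y : G // IsConj A.u y ∧ y ∈ A.f.range} ⊕ (Σ m, O m) → G := Sum.elim (fun z => z.1) fun z => z.2.1
  have hback : ∀ y, back (F y) = y.1 := fun y => by
    simp only [F]; split <;> rfl
  have h := Nat.card_le_card_of_injective F fun a b e => Subtype.ext (by rw [← hback, ← hback b, e])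
  rw [Nat.card_sum, Nat.card_sigma] at h
  have h1 := A.card_inside
  have h2 : ∑ m, Nat.card (O m) ≤ 186 := sum_bound ▸ Finset.sum_le_sum fun m _ => A.card_fiber P hH m
  omega

theorem fixed_mem (g : G) (hg : A.S.t • (g : G ⧸ A.f.range) = g) : g ∈ A.f.range := by
  have h1 : g⁻¹ * A.S.t * g ∈ A.f.range := by
    have := QuotientGroup.eq.1 (show ((g : G) : G ⧸ A.f.range) = ((A.S.t * g : G) : G ⧸ A.f.range) from hg.symm)
    rwa [← mul_assoc] at this
  obtain ⟨c, hc, hce⟩ := A.inner_T h1 (isConj_iff.2 ⟨g⁻¹, by rw [inv_inv]⟩)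
  have hcg : c * g⁻¹ ∈ A.f.range := A.cent_t_le (mem_centralizer_singleton_iff.2
    (mul_inv_eq_iff_eq_mul.1 (Eq.trans (by group) hce)))
  have := mul_mem (inv_mem hcg) hc
  simpa using this

theorem perm_injective (hfix : ∀ g : G, A.S.t • (g : G ⧸ A.f.range) = g → g ∈ A.f.range)
    (hn1 : A.f.range.index ≠ 1) : Function.Injective (MulAction.toPermHom G (G ⧸ A.f.range)) := by
  rw [← MonoidHom.ker_eq_bot_iff, ← Subgroup.normalCore_eq_ker]
  haveI := a8_simple
  rcases Subgroup.Normal.eq_bot_or_eq_top (H := A.f.range.normalCore.comap A.f) inferInstance with h | h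
  · rw [eq_bot_iff]
    intro x hx
    obtain ⟨a, rfl⟩ := A.f.range.normalCore_le hx
    have : a ∈ A.f.range.normalCore.comap A.f := hx
    rw [h, mem_bot] at this
    rw [this, map_one]; exact one_mem _
  · exfalso
    refine hn1 (index_eq_one.2 ((eq_top_iff' _).2 fun g => hfix g ?_))
    have ht : A.S.t ∈ A.f.range.normalCore := by
      have : emb8 tA ∈ A.f.range.normalCore.comap A.f := h ▸ mem_top _
      rw [mem_comap, A.fφ] at this
      exact this
    show ((A.S.t * g : G) : G ⧸ A.f.range) = g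
    rw [eq_comm, QuotientGroup.eq, ← mul_assoc]
    have := A.f.range.normalCore_le ((inferInstance : A.f.range.normalCore.Normal).conj_mem _ ht g⁻¹)
    simpa using this

theorem index_eq : A.f.range.index = 9 := by
  classical
  haveI : Fact (Nat.Prime 2) := ⟨Nat.prime_two⟩
  letI := Fintype.ofFinite (G ⧸ A.f.range)
  obtain ⟨hH, -⟩ := A.exists_part
  set n := A.f.range.index with hn
  have hG : Nat.card G = 20160 * n := by
    rw [← A.f.range.card_mul_index, ← Nat.card_congr (MonoidHom.ofInjective A.finj).toEquiv, card_A8]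
  have hcl := card_class_mul A.u
  rw [hH, hG] at hcl
  have hclass := A.card_class
  have hn9 : n ≤ 9 := by omega
  have hfix := A.fixed_mem
  have hfix1 : ∀ g : G, g ∈ A.f.range → A.S.t • (g : G ⧸ A.f.range) = g := fun g hg => by
    show ((A.S.t * g : G) : G ⧸ A.f.range) = g
    rw [QuotientGroup.eq]
    exact mul_mem (inv_mem (mul_mem (A.φ_mem tA) hg)) hg
  have hodd : Odd n := by
    set σ : Equiv.Perm (G ⧸ A.f.range) := MulAction.toPermHom G _ A.S.t
    have h2 : σ ^ 2 ^ 1 = 1 := by rw [pow_one, ← map_pow, pow_two, sq_of_order_two A.S.t_order, map_one]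
    have h := Equiv.Perm.card_compl_support_modEq h2
    have e : σ.supportᶜ = {((1 : G) : G ⧸ A.f.range)} := by
      ext q
      obtain ⟨g, rfl⟩ := QuotientGroup.mk_surjective q
      simp only [Finset.mem_compl, Equiv.Perm.mem_support, not_not, Finset.mem_singleton]
      constructor
      · intro hq
        rw [QuotientGroup.eq]
        simpa using hfix g hq
      · intro hq
        rw [hq]
        exact hfix1 1 (one_mem _)
    rw [e, Finset.card_singleton, ← Nat.card_eq_fintype_card, ← Subgroup.index_eq_card, ← hn] at h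
    rw [Nat.odd_iff]
    exact h.symm
  have hn1 : n ≠ 1 := fun e => A.proper (index_eq_one.1 e)
  have ho := hodd
  rw [Nat.odd_iff] at ho
  rcases (show n = 9 ∨ n = 3 ∨ n = 5 ∨ n = 7 by omega) with h | h | h | h
  · exact h
  all_goals
    exfalso
    have h' := Nat.card_le_card_of_injective _ (A.perm_injective hfix hn1)
    rw [Nat.card_perm, ← Subgroup.index_eq_card, ← hn, hG, h] at h'
    simp [Nat.factorial] at h'

include A in
theorem iso_nine : Nonempty (G ≃* alternatingGroup (Fin 9)) := by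
  classical
  haveI : Fact (Nat.Prime 2) := ⟨Nat.prime_two⟩
  have h9 := A.index_eq
  have hfix := A.fixed_mem
  have hinj := A.perm_injective hfix (by omega)
  let e : G ⧸ A.f.range ≃ Fin 9 := Finite.equivFinOfCardEq (by rw [← index_eq_card]; exact h9)
  let π : G →* Equiv.Perm (Fin 9) := e.permCongrHom.toMonoidHom.comp (MulAction.toPermHom G (G ⧸ A.f.range))
  have hπ : Function.Injective π := e.permCongrHom.injective.comp hinj
  have hidx : π.range.index = 2 := by
    have h := π.range.card_mul_index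
    rw [← Nat.card_congr (MonoidHom.ofInjective hπ).toEquiv, ← A.f.range.card_mul_index,
      ← Nat.card_congr (MonoidHom.ofInjective A.finj).toEquiv, card_A8, h9, Nat.card_perm, Nat.card_fin] at h
    simp [Nat.factorial] at h
    omega
  exact ⟨(MonoidHom.ofInjective hπ).trans (MulEquiv.subgroupCongr (Equiv.Perm.eq_alternatingGroup_of_index_eq_two hidx))⟩

end Alt9

end Cfsg.Lib.ExtraEight
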