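import Cfsg.Agent.InvolCalc.StronglyEmbedded
import Cfsg.Agent.LocalThree.HallJankoType.OrderFormula
import Cfsg.Agent.SolvStruct.AltEight.GLFour

/-!
A strongly closed elementary subgroup of order eight in the centraliser of an involution is normal.
-/

set_option autoImplicit false
set_option linter.unusedSectionVars false
set_option linter.style.haveILetI false

namespace Cfsg.Lib.ExtraEight

open Subgroup Cfsg.Lib.InvolCalc Cfsg.Lib.HallJankoType

variable {G : Type*} [Group G] [Finite G]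

/-- the hypotheses of the lemma -/
structure EightSetting (G : Type*) [Group G] where
  /-- the involution -/
  t : G
  /-- the subgroup of order eight -/
  V : Subgroup G
  ht : orderOf t = 2
  htV : t ∈ V
  cardV : Nat.card V = 8
  sqV : ∀ v ∈ V, v * v = 1
  cardL : Nat.card (centralizer ({t} : Set G)) = 192
  le_norm : ∀ c : G, c * t = t * c → ∀ v ∈ V, c * v * c⁻¹ ∈ V
  self : ∀ c : G, c * t = t * c → (∀ v ∈ V, c * v = v * c) → c ∈ V
  fused : ∀ v ∈ V, v ≠ 1 → IsConj t v
  closed : ∀ x : G, x * t = t * x → IsConj t x → x ∈ V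
  outer : ∃ z : G, orderOf z = 2 ∧ z * t = t * z ∧ z ∉ V

namespace EightSetting

variable (S : EightSetting G)

theorem commV {a b : G} (ha : a ∈ S.V) (hb : b ∈ S.V) : a * b = b * a := by
  have h := S.sqV _ (mul_mem ha hb)
  have hi : ∀ v ∈ S.V, v⁻¹ = v := fun v hv => inv_eq_of_mul_eq_one_right (S.sqV v hv)
  calc a * b = (a * b)⁻¹ := (inv_eq_of_mul_eq_one_right h).symm
    _ = b * a := by rw [mul_inv_rev, hi a ha, hi b hb]

theorem orderV {v : G} (hv : v ∈ S.V) (h1 : v ≠ 1) : orderOf v = 2 := order_two_of_mul_self (S.sqV v hv) h1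

/-- the normaliser -/
def N : Subgroup G := normalizer (S.V : Set G)

theorem mem_N {g : G} (h : ∀ v ∈ S.V, g * v * g⁻¹ ∈ S.V) : g ∈ S.N := by
  have hle : S.V.map (MulAut.conj g).toMonoidHom ≤ S.V := by
    rintro _ ⟨v, hv, rfl⟩; exact h v hv
  have heq : S.V.map (MulAut.conj g).toMonoidHom = S.V := eq_of_le_of_card_ge hle
    (Subgroup.card_map_of_injective (MulAut.conj g).injective).ge
  refine mem_normalizer_iff.2 fun x => ⟨h x, fun hx => ?_⟩
  obtain ⟨v, hv, hve⟩ := (heq.symm ▸ hx : g * x * g⁻¹ ∈ S.V.map (MulAut.conj g).toMonoidHom)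
  have : v = x := by
    have hve' : g * v * g⁻¹ = g * x * g⁻¹ := hve
    exact mul_left_cancel (mul_right_cancel hve')
  exact this ▸ hv

theorem N_conj {g v : G} (hg : g ∈ S.N) (hv : v ∈ S.V) : g * v * g⁻¹ ∈ S.V := (mem_normalizer_iff.1 hg v).1 hv

theorem t_ne : S.t ≠ 1 := ne_one_of_order_two S.ht

theorem mem_of_conj {g : G} (h : g * S.t * g⁻¹ ∈ S.V) : g ∈ S.N := by
  set x := g * S.t * g⁻¹ with hx
  have hVle : ∀ v ∈ S.V, g⁻¹ * v * g ∈ S.V := by
    intro v hv
    rcases eq_or_ne v 1 with rfl | h1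
    · simp
    refine S.closed _ ?_ ((S.fused v hv h1).trans (isConj_iff.2 ⟨g⁻¹, by group⟩))
    calc g⁻¹ * v * g * S.t = g⁻¹ * (v * x) * g := by rw [hx]; group
      _ = g⁻¹ * (x * v) * g := by rw [S.commV h hv]
      _ = _ := by rw [hx]; group
  exact inv_mem_iff.1 (S.mem_N fun v hv => by rw [inv_inv]; exact hVle v hv)

theorem move {g v : G} (hv : v ∈ S.V) (h1 : v ≠ 1) (h : g * v * g⁻¹ ∈ S.V) : g ∈ S.N := by
  obtain ⟨c, hc⟩ := isConj_iff.1 (S.fused v hv h1)
  have hcN : c ∈ S.N := S.mem_of_conj (hc ▸ hv)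
  have hgc : g * c ∈ S.N := S.mem_of_conj (by
    rwa [show g * c * S.t * (g * c)⁻¹ = g * (c * S.t * c⁻¹) * g⁻¹ by group, hc])
  exact (mul_mem_cancel_right hcN).1 hgc

theorem clique {x y : G} (hx : x ∈ S.V) (h1 : x ≠ 1) (hy : IsConj S.t y) (hxy : x * y = y * x) : y ∈ S.V := by
  obtain ⟨c, hc⟩ := isConj_iff.1 (S.fused x hx h1)
  have hcN : c ∈ S.N := S.mem_of_conj (hc ▸ hx)
  have hz : c⁻¹ * y * c ∈ S.V := S.closed _ (by
    calc c⁻¹ * y * c * S.t = c⁻¹ * (y * (c * S.t * c⁻¹)) * c := by group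
      _ = c⁻¹ * ((c * S.t * c⁻¹) * y) * c := by rw [hc, hxy]
      _ = _ := by group) (hy.trans (isConj_iff.2 ⟨c⁻¹, by group⟩))
  have := S.N_conj hcN hz
  rwa [show c * (c⁻¹ * y * c) * c⁻¹ = y by group] at this

theorem even_pair {x y : G} (hx : x ∈ S.V) (h1 : x ≠ 1) (hy : IsConj S.t y) (he : Even (orderOf (x * y))) :
    y ∈ S.V := by
  have hxo := S.orderV hx h1
  have hyo := order_two_of_conj S.ht hy
  obtain ⟨hw, hwx, hwy⟩ := central_spec hxo hyo he
  set k := orderOf (x * y) / 2 with hk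
  set r := x * y with hr
  have hflip : ∀ j : ℕ, x * r ^ j = (r ^ j)⁻¹ * x := fun j => by
    have := flip_zpow hxo hyo (j : ℤ)
    rwa [zpow_neg, zpow_natCast, ← hr] at this
  have hxw : IsConj S.t (x * r ^ k) := by
    obtain ⟨j, hj⟩ | ⟨j, hj⟩ := Nat.even_or_odd k
    · refine (S.fused x hx h1).trans (isConj_iff.2 ⟨(r ^ j)⁻¹, ?_⟩)
      rw [← hflip, inv_inv, hj, pow_add, mul_assoc]
    · refine hy.trans (isConj_iff.2 ⟨(r ^ j)⁻¹, ?_⟩)
      rw [inv_inv, snd_eq hxo (y := y), ← hr, ← mul_assoc, ← hflip, hj, mul_assoc, mul_assoc]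
      congr 1
      rw [← pow_succ', ← pow_add]
      congr 1
      omega
  have hc : x * (x * r ^ k) = (x * r ^ k) * x := by
    rw [mul_assoc x _ x, hwx.eq]
  have hm := S.clique hx h1 hxw hc
  have hwV : r ^ k ∈ S.V := by
    have := mul_mem hx hm
    rwa [← mul_assoc, S.sqV x hx, one_mul] at this
  exact S.clique hwV (ne_one_of_order_two hw) hy hwy.eq

theorem centralizer_le {x : G} (hx : x ∈ S.V) (h1 : x ≠ 1) {c : G} (hc : c * x = x * c) : c ∈ S.N :=
  S.move hx h1 (by rwa [hc, mul_inv_cancel_right])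

theorem mul_mem_N {z : G} (hz : z ∈ S.N) {v : G} (hv : v ∈ S.V) : v * z * v * z⁻¹ ∈ S.V := by
  rw [show v * z * v * z⁻¹ = v * (z * v * z⁻¹) by group]
  exact mul_mem hv (S.N_conj hz hv)

theorem outer_key {z : G} (hz : orderOf z = 2) (hzN : z ∈ S.N) (hzV : z ∉ S.V) :
    (∀ y : G, IsConj S.t y → y * z = z * y → y ∈ S.V) ∧
      ∃ e, e ∈ S.V ∧ e ≠ 1 ∧ e * z = z * e := by
  have hzi := inv_of_order_two hz
  let f : S.V →* S.V :=
    { toFun := fun v => ⟨(v : G) * z * v * z⁻¹, S.mul_mem_N hzN v.2⟩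
      map_one' := Subtype.ext (by simp)
      map_mul' := fun a b => Subtype.ext (by
        show (a : G) * b * z * (a * b) * z⁻¹ = (a : G) * z * a * z⁻¹ * ((b : G) * z * b * z⁻¹)
        have h1 : (b : G) * (z * a * z⁻¹) = (z * a * z⁻¹) * b := S.commV b.2 (S.N_conj hzN a.2)
        calc (a : G) * b * z * (a * b) * z⁻¹ = a * (b * (z * a * z⁻¹)) * (z * b * z⁻¹) := by group
          _ = a * ((z * a * z⁻¹) * b) * (z * b * z⁻¹) := by rw [h1]
          _ = _ := by group) }
  have hker : ∀ v : S.V, v ∈ f.ker ↔ (v : G) * z = z * v := fun v => by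
    rw [MonoidHom.mem_ker, Subtype.ext_iff]
    show (v : G) * z * v * z⁻¹ = 1 ↔ _
    rw [mul_inv_eq_one, ← eq_mul_inv_iff_mul_eq, inv_eq_of_mul_eq_one_right (S.sqV _ v.2)]
  have hrange : f.range ≤ f.ker := by
    rintro _ ⟨v, rfl⟩
    rw [hker]
    show (v : G) * z * v * z⁻¹ * z = z * ((v : G) * z * v * z⁻¹)
    rw [hzi]
    have h1 : (v : G) * (z * v * z) = (z * v * z) * v := by
      have := S.commV v.2 (S.N_conj hzN v.2)
      rwa [hzi] at this
    calc (v : G) * z * v * z * z = v * (z * v * z) * z := by group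
      _ = (z * v * z) * v * z := by rw [h1]
      _ = _ := by group
  have hne : f.ker ≠ ⊤ := by
    intro h
    have hall : ∀ v ∈ S.V, z * v = v * z := fun v hv => ((hker ⟨v, hv⟩).1 (h ▸ mem_top _)).symm
    exact hzV (S.self z (hall S.t S.htV) hall)
  have hidx : f.ker.index = Nat.card f.range := Subgroup.index_ker f
  have h8 := f.ker.card_mul_index
  rw [hidx, S.cardV] at h8
  have hrle := Subgroup.card_le_of_le hrange
  have hklt : Nat.card f.ker < 8 := by
    by_contra hcon
    exact hne (eq_top_of_le_card _ (by rw [S.cardV]; omega))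
  have hk4 : Nat.card f.ker = 4 ∧ Nat.card f.range = 2 := by
    generalize Nat.card f.ker = a at *
    generalize Nat.card f.range = b at *
    have : a ∣ 8 := ⟨b, h8.symm⟩
    have := Nat.le_of_dvd (by norm_num) this
    interval_cases a <;> omega
  classical
  obtain ⟨e0, he0, he0'⟩ : ∃ e ∈ f.range, e ≠ 1 := by
    by_contra hcon
    push Not at hcon
    have : f.range = ⊥ := (eq_bot_iff_forall _).2 hcon
    rw [this, card_bot] at hk4
    omega
  have himg : ∀ v ∈ f.range, v ≠ 1 → v = e0 := by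
    intro v hv hv1
    by_contra hne'
    have hsub : ({1, e0, v} : Set S.V) ⊆ (f.range : Set S.V) := by
      intro w hw
      simp only [Set.mem_insert_iff, Set.mem_singleton_iff] at hw
      rcases hw with h | h | h <;> subst h
      exacts [one_mem _, he0, hv]
    have h3 := Set.ncard_le_ncard hsub (Set.toFinite _)
    rw [Set.ncard_eq_three.2 ⟨1, e0, v, he0'.symm, hv1.symm, Ne.symm hne', rfl⟩, ← Nat.card_coe_set_eq] at h3
    simp only [SetLike.coe_sort_coe] at h3
    omega
  have he0z := (hker e0).1 (hrange he0)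
  obtain ⟨e1, he1, he11, he10⟩ : ∃ e ∈ f.ker, e ≠ 1 ∧ e ≠ e0 := by
    by_contra hcon
    push Not at hcon
    have hsub : (f.ker : Set S.V) ⊆ {1, e0} := fun v hv => by
      by_cases h : v = 1
      · exact Or.inl h
      · exact Or.inr (hcon v hv h)
    have h2 := Set.ncard_le_ncard hsub (Set.toFinite _)
    rw [Set.ncard_pair he0'.symm, ← Nat.card_coe_set_eq] at h2
    simp only [SetLike.coe_sort_coe] at h2
    omega
  have he1z := (hker e1).1 he1
  have hnc : ∀ d : G, d * z = z * d → d * (e1 : G) * d⁻¹ ≠ e0 := by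
    intro d hd he
    have he1' : (e1 : G) ≠ 1 := fun h => he11 (Subtype.ext h)
    have hdN : d ∈ S.N := S.move e1.2 he1' (he ▸ e0.2)
    obtain ⟨v, hv⟩ := he0
    let v' : S.V := ⟨d * v * d⁻¹, S.N_conj hdN v.2⟩
    have h1 : ((f v' : S.V) : G) = d * e0 * d⁻¹ := by
      show d * v * d⁻¹ * z * (d * v * d⁻¹) * z⁻¹ = _
      rw [← hv]
      show _ = d * ((v : G) * z * v * z⁻¹) * d⁻¹
      have hd' : d⁻¹ * z = z * d⁻¹ := (Commute.inv_left (show Commute d z from hd)).eq
      have hd'' : d⁻¹ * z⁻¹ = z⁻¹ * d⁻¹ := (Commute.inv_inv (show Commute d z from hd)).eq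
      calc d * v * d⁻¹ * z * (d * v * d⁻¹) * z⁻¹ = d * v * (d⁻¹ * z) * d * v * (d⁻¹ * z⁻¹) := by group
        _ = d * v * (z * d⁻¹) * d * v * (z⁻¹ * d⁻¹) := by rw [hd', hd'']
        _ = _ := by group
    have h2 : f v' = e0 := himg _ ⟨v', rfl⟩ fun h => he0' (Subtype.ext (by
      have := congrArg Subtype.val h
      rw [h1] at this
      exact conj_eq_one_iff.1 this))
    rw [h2] at h1
    refine he10 (Subtype.ext ?_)
    exact mul_left_cancel (mul_right_cancel (he.trans h1))
  refine ⟨fun y hy hyz => ?_, (e0 : G), e0.2, fun h => he0' (Subtype.ext h), he0z⟩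
  have h0 : (e0 : G) ≠ 1 := fun h => he0' (Subtype.ext h)
  have h1 : (e1 : G) ≠ 1 := fun h => he11 (Subtype.ext h)
  have hyo := order_two_of_conj S.ht hy
  by_cases hev0 : Even (orderOf ((e0 : G) * y))
  · exact S.even_pair e0.2 h0 hy hev0
  by_cases hev1 : Even (orderOf ((e1 : G) * y))
  · exact S.even_pair e1.2 h1 hy hev1
  obtain ⟨d0, hd0, hd0'⟩ := conj_of_odd (S.orderV e0.2 h0) hyo (Nat.not_even_iff_odd.1 hev0)
  obtain ⟨d1, hd1, hd1'⟩ := conj_of_odd (S.orderV e1.2 h1) hyo (Nat.not_even_iff_odd.1 hev1)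
  have hcl : ∀ e : G, e * z = z * e → closure ({e, y} : Set G) ≤ centralizer {z} := fun e he => by
    rw [closure_le]
    rintro w (rfl | rfl)
    exacts [mem_centralizer_singleton_iff.2 he, mem_centralizer_singleton_iff.2 hyz]
  have hc := mul_mem (inv_mem (hcl _ he0z hd0)) (hcl _ he1z hd1)
  refine absurd ?_ (hnc (d0⁻¹ * d1) (mem_centralizer_singleton_iff.1 hc))
  rw [show d0⁻¹ * d1 * (e1 : G) * (d0⁻¹ * d1)⁻¹ = d0⁻¹ * (d1 * e1 * d1⁻¹) * d0 by group, hd1', ← hd0']
  group

theorem centralizer_le_N {z : G} (hz : orderOf z = 2) (hzN : z ∈ S.N) {c : G} (hc : c * z = z * c) : c ∈ S.N := by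
  by_cases hzV : z ∈ S.V
  · exact S.centralizer_le hzV (ne_one_of_order_two hz) hc
  obtain ⟨hT, e, he, he1, hez⟩ := S.outer_key hz hzN hzV
  refine S.move he he1 (hT _ ((S.fused e he he1).trans (isConj_iff.2 ⟨c, rfl⟩)) ?_)
  calc c * e * c⁻¹ * z = c * e * (c⁻¹ * z) := by group
    _ = c * e * (z * c⁻¹) := by rw [(Commute.inv_left (show Commute c z from hc)).eq]
    _ = c * (e * z) * c⁻¹ := by group
    _ = (c * z) * e * c⁻¹ := by rw [hez]; group
    _ = _ := by rw [hc]; group

theorem not_T {z : G} (hz : orderOf z = 2) (hzN : z ∈ S.N) (hzV : z ∉ S.V) : ¬ IsConj S.t z := fun h => by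
  obtain ⟨-, e, he, he1, hez⟩ := S.outer_key hz hzN hzV
  exact hzV (S.clique he he1 h hez)

theorem N_eq_top : S.N = ⊤ := by
  by_contra hne
  have htN : S.t ∈ S.N := le_normalizer S.htV
  have heven : Even (Nat.card S.N) := even_iff_two_dvd.2 (S.ht ▸ Subgroup.orderOf_dvd_natCard _ htN)
  have hSE : Cfsg.IsStronglyEmbedded S.N := by
    refine Cfsg.Lib.StrongEmb.of_conditions hne heven
      (fun z hz hzo c hc => S.centralizer_le_N hzo hz (mem_centralizer_singleton_iff.1 hc))
      fun a ha b hb hao hbo hab => ?_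
    obtain ⟨h, hh⟩ := isConj_iff.1 hab
    refine ⟨h, ?_, hh⟩
    by_cases haV : a ∈ S.V
    · have hTa := S.fused a haV (ne_one_of_order_two hao)
      refine S.move haV (ne_one_of_order_two hao) ?_
      rw [hh]
      by_contra hbV
      exact S.not_T hbo hb hbV (hTa.trans hab)
    · have hbV : b ∉ S.V := fun hbV =>
        S.not_T hao ha haV ((S.fused b hbV (ne_one_of_order_two hbo)).trans hab.symm)
      obtain ⟨-, e, he, he1, hea⟩ := S.outer_key hao ha haV
      refine S.move he he1 ((S.outer_key hbo hb hbV).1 _ ((S.fused e he he1).trans (isConj_iff.2 ⟨h, rfl⟩)) ?_)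
      rw [← hh]
      calc h * e * h⁻¹ * (h * a * h⁻¹) = h * (e * a) * h⁻¹ := by group
        _ = h * (a * e) * h⁻¹ := by rw [hea]
        _ = _ := by group
  obtain ⟨z, hz, hzt, hzV⟩ := S.outer
  have hzN : z ∈ S.N := S.mem_N fun v hv => S.le_norm z hzt v hv
  exact S.not_T hz hzN hzV (Cfsg.Lib.StrongEmb.all_conj hSE S.ht hz)

theorem normal : S.V.Normal := normalizer_eq_top_iff.1 S.N_eq_top

include S in
theorem card_G : Nat.card G = 1344 := by
  have h := card_class_mul S.t
  have hc : Nat.card {x // IsConj S.t x} = 7 := by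
    haveI := S.normal
    have hiff : ∀ x : G, IsConj S.t x ↔ x ∈ S.V ∧ x ≠ 1 := fun x => by
      constructor
      · intro hx
        obtain ⟨g, rfl⟩ := isConj_iff.1 hx
        exact ⟨S.normal.conj_mem _ S.htV g, ne_one_of_order_two (order_two_of_conj S.ht hx)⟩
      · exact fun hx => S.fused x hx.1 hx.2
    rw [Nat.card_congr (Equiv.subtypeEquivRight hiff)]
    have : ({x : G | x ∈ S.V ∧ x ≠ 1} : Set G) = (S.V : Set G) \ {1} := by ext; simp
    show Nat.card ({x : G | x ∈ S.V ∧ x ≠ 1} : Set G) = 7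
    rw [Nat.card_coe_set_eq, this, Set.ncard_sdiff_singleton_of_mem (one_mem _), ← Nat.card_coe_set_eq]
    simp [S.cardV]
  rw [hc, S.cardL] at h
  omega

include S in
theorem conclusion : ∃ (N : Subgroup G) (hN : N.Normal), IsMulCommutative N ∧ (∀ n ∈ N, n ^ 2 = 1) ∧
    Nat.card N = 8 ∧ Nonempty (G ⧸ N ≃* Matrix.ProjectiveSpecialLinearGroup (Fin 3) (ZMod 2)) := by
  haveI := S.normal
  refine ⟨S.V, S.normal, ⟨⟨fun a b => Subtype.ext (S.commV a.2 b.2)⟩⟩, fun n hn => by rw [sq, S.sqV n hn],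
    S.cardV, ?_⟩
  letI : CommGroup S.V := { (inferInstance : Group S.V) with mul_comm := fun a b => Subtype.ext (S.commV a.2 b.2) }
  letI : Module (ZMod 2) (Additive S.V) := AddCommGroup.zmodModule fun v => by
    rw [two_nsmul]; exact Subtype.ext (S.sqV _ v.toMul.2)
  have hfin : Module.finrank (ZMod 2) (Additive S.V) = 3 := by
    have h := Module.natCard_eq_pow_finrank (K := ZMod 2) (V := Additive S.V)
    rw [Nat.card_congr Additive.toMul, S.cardV, Nat.card_zmod, show (8 : ℕ) = 2 ^ 3 by norm_num] at h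
    exact (Nat.pow_right_injective le_rfl h).symm
  let b := (Module.finBasisOfFinrankEq _ _ hfin).equivFun
  let toMat : MulAut S.V →* Matrix (Fin 3) (Fin 3) (ZMod 2) :=
    { toFun := fun α => LinearMap.toMatrix' (b.toLinearMap ∘ₗ
        (AddMonoidHom.toZModLinearMap 2 (MonoidHom.toAdditive α.toMonoidHom)) ∘ₗ b.symm.toLinearMap)
      map_one' := by
        rw [← LinearMap.toMatrix'_id]
        congr 1
        exact LinearMap.ext fun v => b.apply_symm_apply v
      map_mul' := fun α β => by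
        rw [← LinearMap.toMatrix'_comp]
        congr 1
        refine LinearMap.ext fun v => ?_
        show b _ = b (_)
        congr 1
        show Additive.ofMul (α (β _)) = Additive.ofMul (α (b.symm (b _)).toMul)
        rw [b.symm_apply_apply]
        rfl }
  let ψ : G →* GL (Fin 3) (ZMod 2) := toMat.toHomUnits.comp (MulAut.conjNormal (H := S.V))
  have hker : ψ.ker = S.V := by
    refine le_antisymm (fun g hg => ?_) fun g hg => ?_
    · have h1 : toMat (MulAut.conjNormal g) = 1 := congrArg Units.val (MonoidHom.mem_ker.1 hg)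
      have h2 : ∀ v : S.V, MulAut.conjNormal g v = v := by
        intro v
        have h3 := congrArg (fun M => Matrix.toLin' M (b (Additive.ofMul v))) h1
        simp only [Matrix.toLin'_one, LinearMap.id_apply] at h3
        rw [show toMat (MulAut.conjNormal g) = LinearMap.toMatrix' _ from rfl, Matrix.toLin'_toMatrix'] at h3
        have h4 := b.injective h3
        simpa using congrArg Additive.toMul h4
      have hall : ∀ v ∈ S.V, g * v = v * g := fun v hv => by
        have := congrArg Subtype.val (h2 ⟨v, hv⟩)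
        rw [MulAut.conjNormal_apply] at this
        exact mul_inv_eq_iff_eq_mul.1 this
      exact S.self g (hall S.t S.htV) hall
    · have : MulAut.conjNormal (H := S.V) g = 1 := MulEquiv.ext fun v => Subtype.ext (by
        rw [MulAut.conjNormal_apply]
        show g * v * g⁻¹ = v
        rw [S.commV hg v.2, mul_inv_cancel_right])
      show toMat.toHomUnits (MulAut.conjNormal g) = 1
      rw [this, map_one]
  have hcard : Nat.card (G ⧸ S.V) = 168 := by
    have := Subgroup.card_eq_card_quotient_mul_card_subgroup S.V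
    rw [S.card_G, S.cardV] at this
    omega
  have hGL : Nat.card (GL (Fin 3) (ZMod 2)) = 168 := by
    rw [Matrix.card_GL_field, ZMod.card, Fin.prod_univ_three]
    norm_num
  let e := (QuotientGroup.quotientMulEquivOfEq hker.symm).trans (QuotientGroup.quotientKerEquivRange ψ)
  have htop : ψ.range = ⊤ := eq_top_of_card_eq _ (by rw [← Nat.card_congr e.toEquiv, hcard, hGL])
  obtain ⟨f⟩ := Cfsg.Lib.SolvStruct.AltEight.gl_equiv_psl 3
  exact ⟨((e.trans (MulEquiv.subgroupCongr htop)).trans Subgroup.topEquiv).trans f⟩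

end EightSetting

end Cfsg.Lib.ExtraEight
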