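import Cfsg.Agent.ExtraEight.Models
import Cfsg.Agent.ExtraEight.NormalEight
import Cfsg.Agent.M12Cent.Main

/-!
The centraliser of Mathieu type.
-/

set_option autoImplicit false
set_option linter.unusedSectionVars false
set_option linter.style.haveILetI false
set_option maxRecDepth 10000

namespace Cfsg.Lib.ExtraEight

open Subgroup Cfsg.Lib.M12Cent

theorem vm_facts : (Finset.univ.filter fun m : M12Cent.M => inV m = true).card = 8 ∧ inV mu = false ∧
    (∀ m : M12Cent.M, (∀ v : M12Cent.M, inV v = true → m * v = v * m) → inV m = true) ∧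
    (∀ m v : M12Cent.M, inV v = true → inV (m * v * m⁻¹) = true) ∧
    (∀ v : M12Cent.M, inV v = true → v * v = 1) ∧ inV tau = true ∧
    ∀ v : M12Cent.M, inV v = true → v ≠ 1 → isTB false v = true := by decide +kernel

theorem model_noncomm : ∃ a b : M12Cent.M, a * b ≠ b * a := by decide +kernel

variable {G : Type*} [Group G] [Finite G]

namespace Hyp

variable (H : Hyp G)

theorem mathieu_case (φ : M12Cent.M →* G) (hinj : Function.Injective φ) (hrange : φ.range = centralizer {H.s}) :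
    (∃ (N : Subgroup G) (hN : N.Normal), IsMulCommutative N ∧ (∀ n ∈ N, n ^ 2 = 1) ∧ Nat.card N = 8 ∧
      Nonempty (G ⧸ N ≃* Matrix.ProjectiveSpecialLinearGroup (Fin 3) (ZMod 2))) ∨ Cfsg.Spor.IsoM12 G := by
  classical
  obtain ⟨m, hm⟩ : H.s ∈ φ.range := hrange ▸ mem_centralizer_singleton_iff.2 rfl
  have hmt : φ tau = H.s := by
    rcases M12Cent.center_model m (fun y => hinj (by
      rw [map_mul, map_mul, hm]
      exact (mem_centralizer_singleton_iff.1 (hrange ▸ ⟨y, rfl⟩ : φ y ∈ centralizer {H.s})).symm)) with rfl | rfl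
    · rw [map_one] at hm; exact absurd hm.symm H.s_ne
    · exact hm
  obtain ⟨a, b, hab⟩ := model_noncomm
  let S : Setting G := { t := H.s, φ := φ, inj := hinj, range_eq := hrange, map_tau := hmt,
                         noncomm := fun h => hab (hinj (by rw [map_mul, map_mul]; exact h.is_comm.comm _ _)) }
  obtain ⟨g, hgQ, hgs⟩ := H.hnwc
  obtain ⟨u, hu⟩ := S.mem_iff.1 (show g * H.s * g⁻¹ * S.t = S.t * (g * H.s * g⁻¹) from H.s_comm hgQ)
  have hT : S.IsT (S.φ u) := isConj_iff.2 ⟨g, hu.symm⟩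
  obtain ⟨u1, u2⟩ := S.φ_invol (S.isT_order hT)
  have u3 : u ≠ tau := fun e => hgs (by rw [← hu, e]; exact hmt)
  obtain ⟨hl, -⟩ := (lab_invol u u1 u2).resolve_left fun e => u3 e.2
  have h := hT.trans (S.label_conj u u1 u2)
  have h6 : S.IsT (S.φ a6) := by
    rcases hl with e | e | e <;> rw [e] at h
    · exact h
    · exact absurd h S.a12_not_T
    · exact S.a24_a6 h
  obtain ⟨W, hWt⟩ := S.exists_sit_of h6
  by_cases hcs : W.cs = true
  · haveI : Fact (W.cs = true) := ⟨hcs⟩
    obtain ⟨f⟩ := W.iso_M12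
    exact Or.inr ⟨f.symm.trans x12Equiv⟩
  left
  have hcs' : W.cs = false := Bool.eq_false_iff.2 hcs
  obtain ⟨vcard, hmu, vself, vconj, vsq, vtau, vT⟩ := vm_facts
  let V : Subgroup G := VM.map W.φ
  have hmem : ∀ v, W.φ v ∈ V ↔ inV v = true := fun v => Subgroup.mem_map_iff_mem W.inj
  refine EightSetting.conclusion
    { t := W.t, V := V, ht := W.t_order, htV := by rw [← W.map_tau, hmem]; exact vtau,
      cardV := ?_, sqV := ?_, cardL := W.card_Ct, le_norm := ?_, self := ?_, fused := ?_, closed := ?_,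
      outer := ?_ }
  · rw [Subgroup.card_map_of_injective W.inj]
    show Nat.card {x : M12Cent.M // inV x = true} = 8
    rw [Nat.card_eq_fintype_card, Fintype.card_subtype]; exact vcard
  · rintro _ ⟨v, hv, rfl⟩
    rw [← map_mul, vsq v hv, map_one]
  · intro c hc v' hv'
    obtain ⟨v, hv, rfl⟩ := hv'
    obtain ⟨k, rfl⟩ := W.mem_iff.1 hc
    rw [← map_inv, ← map_mul, ← map_mul, hmem]
    exact vconj k v hv
  · intro c hc hall
    obtain ⟨k, rfl⟩ := W.mem_iff.1 hc
    exact (hmem k).2 (vself k fun v hv => W.inj (by rw [map_mul, map_mul]; exact hall _ ((hmem v).2 hv)))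
  · rintro _ ⟨v, hv, rfl⟩ h1
    have h1' : v ≠ 1 := fun e => h1 (by rw [e, map_one])
    refine (W.tb v (vsq v hv) h1').2 ?_
    rw [hcs']; exact vT v hv h1'
  · intro x hx hxT
    obtain ⟨k, rfl⟩ := W.mem_iff.1 hx
    obtain ⟨k1, k2⟩ := W.φ_invol (W.isT_order hxT)
    rw [hmem, inV]
    have := (W.tb k k1 k2).1 hxT
    rw [hcs'] at this
    simp [this]
  · obtain ⟨m1, m2⟩ := lab_zero mu (by rw [lab_reps.2.2.2.2]; norm_num)
    exact ⟨W.φ mu, W.order_φ m1 m2, W.φ_comm mu, fun h => Bool.false_ne_true (hmu.symm.trans ((hmem mu).1 h))⟩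

end Hyp

end Cfsg.Lib.ExtraEight
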