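import Cfsg.Agent.ExtraEight.A9Cent
import Cfsg.Agent.LocalThree.HallJankoType.OrderFormula

/-!
The action of the centraliser on five cosets, and the resulting bound on pairs.
-/

set_option autoImplicit false
set_option linter.unusedSectionVars false
set_option linter.style.haveILetI false
set_option maxRecDepth 10000

namespace Cfsg.Lib.ExtraEight

open Subgroup Cfsg.Lib.InvolCalc Cfsg.Lib.HallJankoType

theorem card_even_invol :
    (Finset.univ.filter fun σ : Equiv.Perm (Fin 5) => σ * σ = 1 ∧ σ ≠ 1 ∧ Equiv.Perm.sign σ = 1).card ≤ 15 := by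
  decide +kernel

theorem card_odd_moving : ∀ p : Fin 5,
    (Finset.univ.filter fun σ : Equiv.Perm (Fin 5) => σ * σ = 1 ∧ Equiv.Perm.sign σ = -1 ∧ σ p ≠ p).card ≤ 4 := by
  decide +kernel

variable {G : Type*} [Group G] [Finite G]

namespace Alt9

variable (A : Alt9 G)

theorem t_conj_u : A.S.t * A.u = A.u * A.S.t := (A.S.φ_comm uM).symm

theorem a3_mem : A.f a3 ∈ centralizer ({A.u} : Set G) := mem_centralizer_singleton_iff.2 (by
  rw [u, ← A.fφ, ← map_mul, ← map_mul, a3_facts.2.2.1])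

/-- the action of the centraliser on five points -/
theorem exists_action (P : A.Part) (hH : Nat.card (centralizer ({A.u} : Set G)) = 480) :
    ∃ (π : centralizer ({A.u} : Set G) →* Equiv.Perm (Fin 5)) (p : Fin 5),
      (∀ x : centralizer ({A.u} : Set G), π x p = p ↔ (x : G) ∈ A.f.range) ∧
      (∀ x : centralizer ({A.u} : Set G), (x : G) ∈ P.X → π x = 1 → x = 1) ∧
      (∀ x : centralizer ({A.u} : Set G), (x : G) ∈ P.X → Equiv.Perm.sign (π x) = 1) ∧
      (∀ x : centralizer ({A.u} : Set G), (x : G) = A.S.φ wM → Equiv.Perm.sign (π x) = -1) ∧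
      (∀ x : centralizer ({A.u} : Set G), (x : G) = A.u → π x = 1) ∧
      (∀ x : centralizer ({A.u} : Set G), (x : G) = A.S.φ (MA.mk 31) → π x = 1) ∧
      (∀ r x : centralizer ({A.u} : Set G), π r = 1 → (x : G) ∈ P.X → r * x = x * r) ∧
      ∀ y : centralizer ({A.u} : Set G), ∃ k ∈ KA, ∃ x : centralizer ({A.u} : Set G),
        (x : G) ∈ P.X ∧ (y : G) = A.S.φ k * x := by
  haveI : Fact (Nat.Prime 2) := ⟨Nat.prime_two⟩
  set H := centralizer ({A.u} : Set G) with hHdef
  set J := A.f.range.subgroupOf H with hJ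
  set X := P.X.subgroupOf H with hX
  haveI hXn : X.Normal := ⟨fun x hx g => P.normal g g.2 x hx⟩
  have hXc : Nat.card X = 60 := by rw [Nat.card_congr (subgroupOfEquivOfLe P.le).toEquiv, P.card]
  set K := A.K.subgroupOf H with hK
  have hKc : Nat.card K = 32 := by rw [Nat.card_congr (subgroupOfEquivOfLe A.K_le).toEquiv, A.card_K]
  have hsup : X ⊔ K = ⊤ := by
    refine eq_top_of_card_eq _ ?_
    have h1 := card_dvd_of_le (le_sup_left : X ≤ X ⊔ K)
    have h2 := card_dvd_of_le (le_sup_right : K ≤ X ⊔ K)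
    rw [hXc] at h1; rw [hKc] at h2
    have h3 : Nat.lcm 60 32 ∣ Nat.card (X ⊔ K : Subgroup H) := Nat.lcm_dvd h1 h2
    have h4 := card_subgroup_dvd_card (X ⊔ K)
    rw [hH] at h4 ⊢
    rw [show Nat.lcm 60 32 = 480 by decide +kernel] at h3
    exact Nat.dvd_antisymm h4 h3
  have hsplit : ∀ y : H, ∃ k ∈ KA, ∃ x : H, (x : G) ∈ P.X ∧ (y : G) = A.S.φ k * x := fun y => by
    have hy : y ∈ ((X ⊔ K : Subgroup H) : Set H) := by rw [hsup]; trivial
    rw [normal_mul] at hy
    obtain ⟨x', hx', k', hk', rfl⟩ := hy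
    obtain ⟨k, hk, hke⟩ := hk'
    refine ⟨k, hk, k'⁻¹ * x' * k', ?_, ?_⟩
    · simpa [hX, mem_subgroupOf] using hXn.conj_mem x' hx' k'⁻¹
    · rw [show (A.S.φ k : G) = (k' : G) from hke, ← Subgroup.coe_mul]
      congr 1; group
  have hJX : ¬ X ≤ J := fun hle => A.not_le fun y hy => by
    obtain ⟨k, -, x, hx, e⟩ := hsplit ⟨y, hy⟩
    have e' : y = A.S.φ k * x := e
    rw [e']
    exact mul_mem (A.φ_mem k) (hle (show x ∈ X from hx))
  have hKJ : K ≤ J := fun x hx => by
    obtain ⟨k, -, hk⟩ := hx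
    exact ⟨emb8 k, (A.fφ k).trans hk⟩
  have ha3 : A.f a3 ∈ H := A.a3_mem
  have ho : orderOf (⟨A.f a3, ha3⟩ : H) = 3 := by
    haveI : Fact (Nat.Prime 3) := ⟨by norm_num⟩
    rw [Subgroup.orderOf_mk, orderOf_injective A.f A.finj, orderOf_eq_prime a3_facts.1 a3_facts.2.1]
  have h96 : 96 ∣ Nat.card J := by
    have h32 := card_dvd_of_le hKJ
    rw [hKc] at h32
    have h3 : 3 ∣ Nat.card J := ho ▸ Subgroup.orderOf_dvd_natCard J ⟨a3, rfl⟩
    exact Nat.Coprime.mul_dvd_of_dvd_of_dvd (m := 32) (n := 3) (by norm_num) h32 h3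
  have hJi : Nat.card (H ⧸ J) = 5 := by
    rw [← index_eq_card]
    have h := J.card_mul_index
    obtain ⟨j, hj⟩ := h96
    rw [hH, hj, mul_assoc] at h
    have h5 : j * J.index = 5 := by omega
    have hd : J.index ∣ 5 := ⟨j, by rw [mul_comm]; exact h5.symm⟩
    rcases (Nat.dvd_prime (by norm_num)).1 hd with e | e
    · exact absurd (le_top.trans (index_eq_one.1 e).ge) hJX
    · exact e
  let e : H ⧸ J ≃ Fin 5 := Finite.equivFinOfCardEq hJi
  let π : H →* Equiv.Perm (Fin 5) := e.permCongrHom.toMonoidHom.comp (MulAction.toPermHom H (H ⧸ J))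
  have hπapp : ∀ (x : H) (q : H ⧸ J), π x (e q) = e (x • q) := fun x q => by
    simp [π, Equiv.permCongrHom]
  have hbase : ∀ x, π x (e ((1 : H) : H ⧸ J)) = e ((1 : H) : H ⧸ J) ↔ (x : G) ∈ A.f.range := fun x => by
    rw [hπapp, e.apply_eq_iff_eq]
    show ((x * 1 : H) : H ⧸ J) = _ ↔ _
    rw [QuotientGroup.eq, mul_one, mul_one, inv_mem_iff]
    rfl
  have hkerJ : π.ker ≤ J := fun x hx => (hbase x).1 (by rw [MonoidHom.mem_ker.1 hx]; rfl)
  haveI : IsSimpleGroup P.X := P.simple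
  haveI : Nontrivial X := Finite.one_lt_card_iff_nontrivial.1 (by omega)
  haveI hXs : IsSimpleGroup X := IsSimpleGroup.isSimpleGroup_of_surjective (subgroupOfEquivOfLe P.le).symm.toMonoidHom
    (subgroupOfEquivOfLe P.le).symm.surjective
  have hinf : π.ker ⊓ X = ⊥ := by
    rcases Subgroup.Normal.eq_bot_or_eq_top (H := π.ker.subgroupOf X) inferInstance with h | h
    · exact disjoint_iff.1 (subgroupOf_eq_bot.1 h)
    · exact absurd ((subgroupOf_eq_top.1 h).trans hkerJ) hJX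
  have hfaith : ∀ x : H, (x : G) ∈ P.X → π x = 1 → x = 1 := fun x hx h1 =>
    mem_bot.1 (hinf.le (mem_inf.2 ⟨MonoidHom.mem_ker.2 h1, hx⟩))
  have hcomm : ∀ r x : H, π r = 1 → (x : G) ∈ P.X → r * x = x * r := fun r x hr hx =>
    commute_of_normal_of_disjoint π.ker X inferInstance hXn (disjoint_iff.2 hinf) r x hr hx
  have hXidx : X.index = 8 := by
    have := X.card_mul_index
    rw [hXc, hH] at this
    omega
  have hR8 : Nat.card π.ker ∣ 8 := by
    rw [← hXidx, index_eq_card]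
    refine card_dvd_of_injective ((QuotientGroup.mk' X).comp π.ker.subtype) ((injective_iff_map_eq_one _).2 fun r hr => ?_)
    have hrX : (r : H) ∈ X := (QuotientGroup.eq_one_iff _).1 hr
    exact Subtype.ext (mem_bot.1 (hinf.le (mem_inf.2 ⟨r.2, hrX⟩)))
  have ha3X : (⟨A.f a3, ha3⟩ : H) ∈ X := by
    have h8 := pow_index_mem X (⟨A.f a3, ha3⟩ : H)
    rw [hXidx] at h8
    have h3 := pow_orderOf_eq_one (⟨A.f a3, ha3⟩ : H)
    rw [ho] at h3
    rw [show (⟨A.f a3, ha3⟩ : H) = ((⟨A.f a3, ha3⟩ : H) ^ 8) * ((⟨A.f a3, ha3⟩ : H) ^ 8)⁻¹ * (⟨A.f a3, ha3⟩ : H) ^ 9 * ((⟨A.f a3, ha3⟩ : H) ^ 8)⁻¹ by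
      group]
    rw [mul_inv_cancel, one_mul, show 9 = 3 * 3 from rfl, pow_mul, h3, one_pow, one_mul]
    exact inv_mem h8
  have hRK : π.ker ≤ K := by
    obtain ⟨i, -, hi⟩ := (Nat.dvd_prime_pow Nat.prime_two).1 (show Nat.card π.ker ∣ 2 ^ 3 from hR8)
    have hp : IsPGroup 2 (π.ker : Subgroup H) := IsPGroup.of_card hi
    have hKp : IsPGroup 2 K := IsPGroup.of_card (n := 5) (by rw [hKc]; norm_num)
    obtain ⟨k, hk⟩ := (IsPGroup.to_sup_of_normal_left hp hKp).exists_card_eq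
    have hle := card_subgroup_dvd_card (π.ker ⊔ K)
    rw [hH, hk] at hle
    have h5 : k ≤ 5 := by
      by_contra hk6
      exact absurd ((pow_dvd_pow 2 (show 6 ≤ k by omega)).trans hle) (by norm_num)
    have : K = π.ker ⊔ K := eq_of_le_of_card_ge le_sup_right (by
      rw [hk, hKc]; exact (Nat.pow_le_pow_right (by norm_num) h5).trans (by norm_num))
    rw [this]; exact le_sup_left
  have hB : ∀ b ∈ BA, A.S.φ b ∈ P.X := fun b hb => P.B_le ⟨b, hb, rfl⟩
  have hRchar : ∀ r ∈ π.ker, ∃ m, inR m = true ∧ A.S.φ m = (r : G) := fun r hr => by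
    obtain ⟨m, hm, hme⟩ := hRK hr
    have hmem : inB (MA.mk 126) = true := by decide +kernel
    have c1 := congrArg Subtype.val (hcomm r ⟨_, P.le (hB _ hmem)⟩ hr (hB _ hmem))
    have c2 := congrArg Subtype.val (hcomm r ⟨A.f a3, ha3⟩ hr ha3X)
    simp only [Subgroup.coe_mul, coe_subtype] at c1 c2 hme
    refine ⟨m, R_char m (mem_KA.1 hm) (A.S.inj (by rw [map_mul, map_mul, hme]; exact c1)) (A.finj ?_), hme⟩
    rw [map_mul, map_mul, A.fφ, hme]
    exact c2.symm
  let RS : Set G := {g | ∃ m, inR m = true ∧ A.S.φ m = g}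
  have hR4 : Nat.card π.ker ≤ 4 := by
    rw [← inR_card, ← Fintype.card_subtype, ← Nat.card_eq_fintype_card]
    choose m hm hme using hRchar
    exact Nat.card_le_card_of_injective (fun r : π.ker => ⟨m r r.2, hm r r.2⟩) fun a b h => by
      have := congrArg A.S.φ (congrArg Subtype.val h)
      simp only [hme] at this
      exact Subtype.ext (Subtype.ext this)
  have hcard : Nat.card π.ker * Nat.card π.range = 480 := by
    rw [← hH, ← index_ker]; exact π.ker.card_mul_index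
  have hperm : Nat.card (Equiv.Perm (Fin 5)) = 120 := by rw [Nat.card_perm, Nat.card_fin]; rfl
  have hrle : Nat.card π.range ≤ 120 := hperm ▸ Finite.card_subtype_le _
  have hR : Nat.card π.ker = 4 ∧ Nat.card π.range = 120 := by
    have h1 : Nat.card π.ker * Nat.card π.range ≤ 4 * Nat.card π.range := Nat.mul_le_mul_right _ hR4
    have h2 : Nat.card π.range = 120 := by omega
    rw [h2] at hcard
    omega
  have hRmem : ∀ m, inR m = true → ∀ x : H, (x : G) = A.S.φ m → π x = 1 := fun m hm x hx => by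
    classical
    choose m' hm' hme using hRchar
    let F : π.ker → {m : MA // inR m = true} := fun r => ⟨m' r r.2, hm' r r.2⟩
    have hFb : Function.Bijective F := by
      rw [Nat.bijective_iff_injective_and_card]
      refine ⟨fun a b h => ?_, ?_⟩
      · have := congrArg A.S.φ (congrArg Subtype.val h)
        simp only [F, hme] at this
        exact Subtype.ext (Subtype.ext this)
      · rw [hR.1, Nat.card_eq_fintype_card (α := {m : MA // inR m = true}), Fintype.card_subtype, inR_card]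
    obtain ⟨r, hr⟩ := hFb.2 ⟨m, hm⟩
    have : (r : H) = x := Subtype.ext (by
      rw [hx, ← show m' r r.2 = m from congrArg Subtype.val hr, hme])
    exact MonoidHom.mem_ker.1 (this ▸ r.2)
  let ε : H →* ℤˣ := Equiv.Perm.sign.comp π
  have hεX : ∀ x : H, (x : G) ∈ P.X → Equiv.Perm.sign (π x) = 1 := fun x hx => by
    rcases Subgroup.Normal.eq_bot_or_eq_top (H := ε.ker.subgroupOf X) inferInstance with h | h
    · exfalso
      have hinj : Function.Injective (ε.comp X.subtype) := (injective_iff_map_eq_one _).2 fun z hz =>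
        mem_bot.1 (h ▸ (show z ∈ ε.ker.subgroupOf X from hz))
      have := Nat.card_le_card_of_injective _ hinj
      rw [hXc, Nat.card_eq_fintype_card, Fintype.card_units_int] at this
      omega
    · exact MonoidHom.mem_ker.1 (subgroupOf_eq_top.1 h hx)
  have hεW : ∀ x : H, ∀ m, inW m = true → (x : G) = A.S.φ m → Equiv.Perm.sign (π x) = 1 := fun x m hm hx => by
    obtain ⟨r, hr, b, hb, rfl⟩ := B_facts.2.2.2 m hm
    obtain ⟨bk, bh⟩ : r * uM = uM * r ∧ b * uM = uM * b := by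
      have : (∀ r : MA, inR r = true → r * uM = uM * r) ∧ ∀ b : MA, inB b = true → b * uM = uM * b := by
        decide +kernel
      exact ⟨this.1 r hr, this.2 b hb⟩
    have hx' : x = ⟨A.S.φ r, A.K_le ⟨r, mem_KA.2 bk, rfl⟩⟩ * ⟨A.S.φ b, A.K_le ⟨b, mem_KA.2 bh, rfl⟩⟩ :=
      Subtype.ext (by rw [hx, map_mul]; rfl)
    rw [hx', map_mul, map_mul, hRmem r hr _ rfl, map_one, one_mul]
    exact hεX _ (hB b hb)
  refine ⟨π, _, hbase, hfaith, hεX, fun x hx => ?_, fun x hx => hRmem uM (by decide +kernel) x hx,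
    fun x hx => hRmem (MA.mk 31) uM_facts.2.2.2.2.2.2.2.2.2.2.2.2.2.2 x hx, hcomm, hsplit⟩
  by_contra hne
  have h1 : Equiv.Perm.sign (π x) = 1 := (Int.units_eq_one_or _).resolve_right hne
  have hall : ∀ y : H, Equiv.Perm.sign (π y) = 1 := fun y => by
    obtain ⟨k, hk, z, hz, e⟩ := hsplit y
    have hy : y = ⟨A.S.φ k, A.K_le ⟨k, hk, rfl⟩⟩ * z := Subtype.ext e
    rw [hy, map_mul, map_mul, hεX z hz, mul_one]
    rcases W_facts.2.2.2.1 k (mem_KA.1 hk) with h | h
    · exact hεW _ k h rfl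
    · have hwk : wM * k * uM = uM * (wM * k) := by
        rw [mul_assoc, mem_KA.1 hk, ← mul_assoc, uM_facts.2.2.2.2.2.2.1, mul_assoc]
      have h2 := hεW (x * ⟨A.S.φ k, A.K_le ⟨k, hk, rfl⟩⟩) (wM * k) h (by rw [coe_mul, hx, map_mul])
      rw [map_mul, map_mul, h1, one_mul] at h2
      exact h2
  have htop : π.range = ⊤ := eq_top_of_card_eq _ (by rw [hR.2, hperm])
  obtain ⟨y, hy⟩ : Equiv.swap (0 : Fin 5) 1 ∈ π.range := htop ▸ mem_top _
  have := hall y
  rw [hy, Equiv.Perm.sign_swap (by decide)] at this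
  exact absurd this (by decide)

theorem bound_pairs (P : A.Part) (hH : Nat.card (centralizer ({A.u} : Set G)) = 480) :
    Nat.card {y : G // IsConj A.u y ∧ y ∉ A.f.range ∧ pairInvol A.S.t y = A.u} ≤ 15 ∧
    Nat.card {y : G // IsConj A.u y ∧ y ∉ A.f.range ∧ pairInvol (A.S.φ tD) y = A.u} ≤ 8 := by
  classical
  haveI : Fact (Nat.Prime 2) := ⟨Nat.prime_two⟩
  set H := centralizer ({A.u} : Set G) with hHdef
  obtain ⟨π, p, hbase, hfaith, hsX, hsw, hu1, h31, hcomm, hsplit⟩ := A.exists_action P hH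
  haveI hXn : (P.X.subgroupOf H).Normal := ⟨fun x hx g => P.normal g g.2 x hx⟩
  let q := QuotientGroup.mk' (P.X.subgroupOf H)
  have hq1 : ∀ x : H, q x = 1 ↔ (x : G) ∈ P.X := fun x => by
    rw [QuotientGroup.mk'_apply, QuotientGroup.eq_one_iff, mem_subgroupOf]
  have hkK : ∀ k ∈ KA, A.S.φ k ∈ H := fun k hk => A.K_le ⟨k, hk, rfl⟩
  have hKX : ∀ k ∈ KA, A.S.φ k ∈ P.X → inB k = true := fun k hk hkX => by
    set Y := A.K ⊓ P.X
    have hBY : BA.map A.S.φ ≤ Y := le_inf (fun g hg => by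
      obtain ⟨b, hb, rfl⟩ := hg
      exact ⟨b, mem_KA.2 (W_facts.1 b (W_facts.2.1 b (W_facts.2.2.1 b hb))), rfl⟩) P.B_le
    have h1 := card_dvd_of_le (inf_le_left : Y ≤ A.K)
    have h2 := card_dvd_of_le (inf_le_right : Y ≤ P.X)
    rw [A.card_K] at h1; rw [P.card] at h2
    have h3 := Nat.le_of_dvd (by norm_num) (Nat.dvd_gcd h1 h2)
    have e := eq_of_le_of_card_ge hBY (by rw [A.card_map, card_BA]; exact h3.trans (by norm_num))
    have : A.S.φ k ∈ BA.map A.S.φ := e ▸ mem_inf.2 ⟨⟨k, hk, rfl⟩, hkX⟩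
    exact (Subgroup.mem_map_iff_mem A.S.inj).1 this
  -- classification of the partners
  have key : ∀ tp : MA, tp ∈ KA → tp * tp = 1 → isT' tp = true → ∀ y : G, IsConj A.u y →
      pairInvol (A.S.φ tp) y = A.u → ∃ k ∈ KA, ∃ x : H, (x : G) ∈ P.X ∧ y = A.S.φ k * x ∧ inB (k * k) = true ∧
        (inB ((tp * k) ^ 4) = true → ∃ d : Fin 4, inB ((tp * k) ^ d.val * uM) = true) := by
    intro tp htp htp2 htpT y hy hpair
    obtain ⟨t1, t2⟩ := lab_zero tp (Or.inr htpT)
    have hto := A.S.order_φ t1 t2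
    have hyo := order_two_of_conj A.u_order hy
    have hev : Even (orderOf (A.S.φ tp * y)) := even_of_not_conj hto hyo fun h =>
      A.not_both hy (IsConj.trans ((A.isT_φ t1 t2).2 htpT) h)
    obtain ⟨-, -, hc⟩ := central_spec hto hyo hev
    have hyH : y ∈ H := mem_centralizer_singleton_iff.2 (by
      rw [← hpair]; exact hc.symm)
    obtain ⟨k, hk, x, hx, e⟩ := hsplit ⟨y, hyH⟩
    have e' : (⟨y, hyH⟩ : H) = ⟨A.S.φ k, hkK k hk⟩ * x := Subtype.ext e
    have hqk : q ⟨y, hyH⟩ = q ⟨A.S.φ k, hkK k hk⟩ := by rw [e', map_mul, (hq1 x).2 hx, mul_one]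
    refine ⟨k, hk, x, hx, e, hKX _ (mul_mem hk hk) ((hq1 ⟨_, hkK _ (mul_mem hk hk)⟩).1 ?_), fun h4 => ?_⟩
    · rw [show (⟨A.S.φ (k * k), hkK _ (mul_mem hk hk)⟩ : H) = ⟨A.S.φ k, hkK k hk⟩ * ⟨A.S.φ k, hkK k hk⟩ from
        Subtype.ext (map_mul _ _ _), map_mul, ← hqk, ← map_mul,
        show (⟨y, hyH⟩ : H) * ⟨y, hyH⟩ = 1 from Subtype.ext (sq_of_order_two hyo), map_one]
    · set d := orderOf (A.S.φ tp * y) / 2
      have hmem : (tp * k) ^ d * uM ∈ KA := mul_mem (pow_mem (mul_mem htp hk) d) (mem_KA.2 rfl)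
      have h := hKX _ hmem ((hq1 ⟨_, hkK _ hmem⟩).1 (by
        rw [show (⟨A.S.φ ((tp * k) ^ d * uM), hkK _ hmem⟩ : H) =
            ((⟨A.S.φ tp, hkK tp htp⟩ : H) * ⟨A.S.φ k, hkK k hk⟩) ^ d * ⟨A.u, hkK _ (mem_KA.2 rfl)⟩ from
          Subtype.ext (by simp [u]), map_mul, map_pow, map_mul, ← hqk, ← map_mul, ← map_pow, ← map_mul,
          show ((⟨A.S.φ tp, hkK tp htp⟩ : H) * ⟨y, hyH⟩) ^ d * ⟨A.u, hkK _ (mem_KA.2 rfl)⟩ = 1 from Subtype.ext (by
            rw [coe_mul, SubmonoidClass.coe_pow]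
            show pairInvol (A.S.φ tp) y * A.u = 1
            rw [hpair, sq_of_order_two A.u_order]), map_one]))
      refine ⟨⟨d % 4, Nat.mod_lt _ (by norm_num)⟩, ?_⟩
      have h4' : ((tp * k) ^ 4) ^ (d / 4) ∈ BA := pow_mem (show (tp * k) ^ 4 ∈ BA from h4) _
      rw [← pow_mul] at h4'
      have h' : (tp * k) ^ (4 * (d / 4)) * ((tp * k) ^ (d % 4) * uM) ∈ BA := by
        rw [← mul_assoc, ← pow_add, Nat.div_add_mod]; exact h
      exact (BA.mul_mem_cancel_left h4').1 h'
  have inj_coset : ∀ c : H, ∀ x x' : H, (x : G) ∈ P.X → (x' : G) ∈ P.X → π (c * x) = π (c * x') → x = x' := by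
    intro c x x' hx hx' h
    refine eq_of_div_eq_one ?_
    refine hfaith _ (div_mem hx hx' : (x : G) / (x' : G) ∈ P.X) ?_
    rw [map_div, div_eq_one]
    simpa using h
  constructor
  · refine le_trans ?_ card_even_invol
    rw [← Fintype.card_subtype, ← Nat.card_eq_fintype_card]
    have hy : ∀ y : {y : G // IsConj A.u y ∧ y ∉ A.f.range ∧ pairInvol A.S.t y = A.u}, y.1 ∈ P.X := fun y => by
      obtain ⟨k, hk, x, hx, e, hk2, hd⟩ := key tA (mem_KA.2 (tA_facts.1 uM)) tA_facts.2.1 (by decide +kernel) _ y.2.1 y.2.2.2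
      obtain ⟨hA, h4⟩ := case_A k (mem_KA.1 hk) hk2
      obtain ⟨d, hd'⟩ := hd h4
      rw [e]
      exact mul_mem (P.B_le ⟨k, hA d hd', rfl⟩) hx
    refine Nat.card_le_card_of_injective (fun y => ⟨π ⟨y.1, P.le (hy y)⟩, ?_, ?_, hsX _ (hy y)⟩) fun y y' h => ?_
    · rw [← map_mul, show (⟨y.1, P.le (hy y)⟩ : H) * ⟨y.1, P.le (hy y)⟩ = 1 from
        Subtype.ext (sq_of_order_two (order_two_of_conj A.u_order y.2.1)), map_one]
    · intro h1
      have := congrArg Subtype.val (hfaith _ (hy y) h1)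
      exact y.2.2.1 (by rw [show y.1 = 1 from this]; exact one_mem _)
    · have := inj_coset 1 ⟨_, P.le (hy y)⟩ ⟨_, P.le (hy y')⟩ (hy y) (hy y') (by
        rw [one_mul, one_mul]; exact congrArg Subtype.val h)
      exact Subtype.ext (Subtype.mk.inj this)
  · let cs : Bool → MA := fun b => if b then uM * wM else wM
    have hcs : ∀ b, cs b ∈ KA ∧ cs b * cs b = 1 := fun b => by
      cases b
      · exact ⟨mem_KA.2 uM_facts.2.2.2.2.2.2.1, uM_facts.2.2.2.2.2.1⟩
      · exact ⟨mul_mem (mem_KA.2 rfl) (mem_KA.2 uM_facts.2.2.2.2.2.2.1), tD_facts.2.2.2.2⟩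
    have hy : ∀ y : {y : G // IsConj A.u y ∧ y ∉ A.f.range ∧ pairInvol (A.S.φ tD) y = A.u},
        ∃ b, ∃ x : H, (x : G) ∈ P.X ∧ y.1 = A.S.φ (cs b) * x := by
      intro y
      obtain ⟨k, hk, x, hx, e, hk2, hd⟩ := key tD (mem_KA.2 tD_facts.1) (lab_zero _ (Or.inr tD_facts.2.1)).1
        tD_facts.2.1 _ y.2.1 y.2.2.2
      obtain ⟨hD, h4⟩ := case_D k (mem_KA.1 hk) hk2
      obtain ⟨d, hd'⟩ := hd h4
      have hsub : ∀ c : MA, c ∈ KA → c * c = 1 → inB (c * k) = true →
          ∃ x' : H, (x' : G) ∈ P.X ∧ y.1 = A.S.φ c * x' := fun c hc hc2 hck => by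
        refine ⟨⟨A.S.φ (c * k), hkK _ (mul_mem hc hk)⟩ * x, ?_, ?_⟩
        · rw [Subgroup.coe_mul]; exact mul_mem (P.B_le ⟨_, hck, rfl⟩) hx
        · rw [e, Subgroup.coe_mul, ← mul_assoc, ← map_mul, ← mul_assoc, hc2, one_mul]
      rcases hD d hd' with h | h | h
      · exact ⟨false, hsub _ (hcs false).1 (hcs false).2 h⟩
      · exact ⟨true, hsub _ (hcs true).1 (hcs true).2 h⟩
      · exfalso
        obtain ⟨x', hx', e'⟩ := hsub (MA.mk 31) (mem_KA.2 tD_facts.2.2.2.1) tD_facts.2.2.1 h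
        set r : H := ⟨A.S.φ (MA.mk 31), hkK _ (mem_KA.2 tD_facts.2.2.2.1)⟩
        have hrx := hcomm r x' (h31 r rfl) hx'
        have hx2 : x' * x' = 1 := by
          have hrr : r * r = 1 := Subtype.ext (by
            show A.S.φ _ * A.S.φ _ = 1; rw [← map_mul, tD_facts.2.2.1, map_one])
          have hyy : (r * x') * (r * x') = 1 := Subtype.ext (by
            rw [Subgroup.coe_mul, Subgroup.coe_mul, ← e']; exact sq_of_order_two (order_two_of_conj A.u_order y.2.1))
          rwa [show (r * x') * (r * x') = r * (x' * r) * x' by group, ← hrx, ← mul_assoc, hrr, one_mul] at hyy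
        by_cases hx1 : x' = 1
        · exact y.2.2.1 (by rw [e', hx1]; simpa using A.φ_mem (MA.mk 31))
        set B := (BA.map A.S.φ).subgroupOf P.X
        have hBc : Nat.card B = 2 ^ (Nat.card P.X).factorization 2 := by
          rw [Nat.card_congr (subgroupOfEquivOfLe P.B_le).toEquiv, A.card_map, card_BA, P.card,
            show (60 : ℕ) = 2 ^ 2 * 15 by norm_num, Nat.factorization_mul (by norm_num) (by norm_num),
            Nat.Prime.factorization_pow Nat.prime_two]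
          simp [Nat.factorization_eq_zero_of_not_dvd (show ¬ 2 ∣ 15 by norm_num)]
        let SB : Sylow 2 P.X := Sylow.ofCard B hBc
        set z : P.X := ⟨x', hx'⟩
        have hzo : orderOf z = 2 := orderOf_eq_prime (by
          rw [pow_two]; exact Subtype.ext (show (x' : G) * x' = 1 from congrArg (fun w : H => (w : G)) hx2))
          fun hz => hx1 (Subtype.ext (show (x' : G) = 1 from congrArg (fun w : P.X => (w : G)) hz))
        obtain ⟨R, hR⟩ := (show IsPGroup 2 (zpowers z) from IsPGroup.of_card (n := 1) (by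
          rw [Nat.card_zpowers, hzo]; norm_num)).exists_le_sylow
        obtain ⟨g, hg⟩ := MulAction.exists_smul_eq P.X R SB
        have hgz : g * z * g⁻¹ ∈ ((g • R : Sylow 2 P.X) : Subgroup P.X) := by
          rw [Sylow.coe_subgroup_smul, Subgroup.mem_pointwise_smul_iff_inv_smul_mem]
          simpa [MulAut.smul_def, mul_assoc] using hR (mem_zpowers z)
        rw [hg] at hgz
        obtain ⟨b, hb, hbe⟩ := hgz
        have hbe' : A.S.φ b = (g : G) * x' * (g : G)⁻¹ := hbe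
        have hb1 : b ≠ 1 := fun h1 => hx1 (Subtype.ext (conj_eq_one_iff.1 (by
          rw [← hbe', h1, map_one])))
        have hrg := congrArg Subtype.val (hcomm r ⟨g, P.le g.2⟩ (h31 r rfl) g.2)
        have hconj : IsConj A.u (A.S.φ (MA.mk 31 * b)) := y.2.1.trans (isConj_iff.2 ⟨g, by
          rw [map_mul, hbe', e']
          calc (g : G) * (A.S.φ (MA.mk 31) * x') * (g : G)⁻¹ = (g * A.S.φ (MA.mk 31)) * x' * (g : G)⁻¹ := by group
            _ = (A.S.φ (MA.mk 31) * g) * x' * (g : G)⁻¹ := by rw [show A.S.φ (MA.mk 31) * (g : G) = g * A.S.φ (MA.mk 31) from hrg]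
            _ = _ := by group⟩)
        have hsq : MA.mk 31 * b * (MA.mk 31 * b) = 1 := A.S.φ_invol (order_two_of_conj A.u_order hconj) |>.1
        exact absurd (A.u_conj_φ hsq hconj) (by rw [B_facts.2.1 b hb hb1]; exact Bool.false_ne_true)
    choose bb xx hxx he using hy
    let c : Bool → H := fun b => ⟨A.S.φ (cs b), hkK _ (hcs b).1⟩
    have hsign : ∀ b, Equiv.Perm.sign (π (c b)) = -1 := fun b => by
      cases b
      · exact hsw _ rfl
      · have e : c true = ⟨A.u, hkK _ (mem_KA.2 rfl)⟩ * c false := Subtype.ext (map_mul A.S.φ uM wM)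
        rw [e, map_mul, map_mul, hu1 _ rfl, map_one, one_mul]
        exact hsw _ rfl
    refine le_trans (Nat.card_le_card_of_injective
      (β := Bool × {σ : Equiv.Perm (Fin 5) // σ * σ = 1 ∧ Equiv.Perm.sign σ = -1 ∧ σ p ≠ p})
      (fun y => (bb y, ⟨π (c (bb y) * xx y), ?_, ?_, ?_⟩)) fun y y' h => ?_) ?_
    · rw [← map_mul, show c (bb y) * xx y * (c (bb y) * xx y) = 1 from Subtype.ext (by
        show A.S.φ (cs (bb y)) * xx y * (A.S.φ (cs (bb y)) * xx y) = 1
        rw [← he y]; exact sq_of_order_two (order_two_of_conj A.u_order y.2.1)), map_one]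
    · rw [map_mul, map_mul, hsign, hsX _ (hxx y), mul_one]
    · intro h
      exact y.2.2.1 (by rw [he y]; exact (hbase _).1 h)
    · obtain ⟨h1, h2⟩ := Prod.mk.inj h
      have h2' := congrArg Subtype.val h2
      simp only at h2'
      rw [h1] at h2'
      have := inj_coset _ _ _ (hxx y) (hxx y') h2'
      exact Subtype.ext (by rw [he y, he y', h1, this])
    · rw [Nat.card_prod, Nat.card_eq_fintype_card (α := Bool), Fintype.card_bool, Nat.card_eq_fintype_card,
        Fintype.card_subtype]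
      have := card_odd_moving p
      omega

end Alt9

end Cfsg.Lib.ExtraEight
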