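import Cfsg.Agent.AltEightType.Core
import Mathlib.GroupTheory.SpecificGroups.Alternating.Simple

/-!
General lemmas for the descent to a simple subgroup.
-/

set_option autoImplicit false
set_option linter.unusedSectionVars false
set_option linter.style.haveILetI false

namespace Cfsg.Lib.ExtraEight

open Subgroup

variable {G : Type*} [Group G] [Finite G]

theorem index_two_of_card {M Y : Subgroup G} (hMY : M ≤ Y) (hc : Nat.card Y = 2 * Nat.card M) :
    (M.subgroupOf Y).index = 2 := by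
  have h := (M.subgroupOf Y).card_mul_index
  rw [Nat.card_congr (subgroupOfEquivOfLe hMY).toEquiv, hc] at h
  exact Nat.eq_of_mul_eq_mul_left Nat.card_pos (by rw [h, mul_comm])

/-- a simple subgroup lies in every subgroup of index two -/
theorem simple_le_of_index_two {X M Y : Subgroup G} (hXY : X ≤ Y) (hMY : M ≤ Y)
    (hc : Nat.card Y = 2 * Nat.card M) (hX : IsSimpleGroup X) (h3 : 2 < Nat.card X) : X ≤ M := by
  have hidx := index_two_of_card hMY hc
  have hiff : ∀ {a b : G}, a ∈ Y → b ∈ Y → (a * b ∈ M ↔ (a ∈ M ↔ b ∈ M)) := fun {a b} ha hb => by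
    simpa [mem_subgroupOf] using Subgroup.mul_mem_iff_of_index_two hidx (a := ⟨a, ha⟩) (b := ⟨b, hb⟩)
  haveI : (M.subgroupOf X).Normal := ⟨fun n hn g => by
    rw [mem_subgroupOf] at hn ⊢
    push_cast
    rw [hiff (mul_mem (hXY g.2) (hXY n.2)) (inv_mem (hXY g.2)), hiff (hXY g.2) (hXY n.2), inv_mem_iff]
    tauto⟩
  rcases Subgroup.Normal.eq_bot_or_eq_top (H := M.subgroupOf X) inferInstance with h | h
  · exfalso
    have hne : ∀ x : X, x ≠ 1 → (x : G) ∉ M := fun x hx hm => by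
      have : x ∈ M.subgroupOf X := hm
      rw [h, mem_bot] at this
      exact hx this
    have hinv : ∀ x y : X, x ≠ 1 → y ≠ 1 → x * y = 1 := fun x y hx hy => by
      by_contra hxy
      have h1 := (hiff (hXY x.2) (hXY y.2)).2 (iff_of_false (hne x hx) (hne y hy))
      exact hne _ hxy h1
    classical
    letI := Fintype.ofFinite X
    haveI : Nontrivial X := Finite.one_lt_card_iff_nontrivial.1 (by omega)
    obtain ⟨x, hx⟩ := exists_ne (1 : X)
    have hsub : (Finset.univ : Finset X) ⊆ {1, x⁻¹} := fun y _ => by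
      by_cases hy : y = 1
      · simp [hy]
      · simp [eq_inv_of_mul_eq_one_right (hinv x y hx hy)]
    have := (Finset.card_le_card hsub).trans Finset.card_le_two
    rw [Finset.card_univ, ← Nat.card_eq_fintype_card] at this
    omega
  · exact subgroupOf_eq_top.1 h

/-- transfer inside a subgroup -/
theorem split (X P Q : Subgroup G) (hPX : P ≤ X) (hQP : Q ≤ P) {n m : ℕ} (hP : Nat.card P = 2 ^ n)
    (hX : Nat.card X = 2 ^ n * m) (hm : Odd m) (hQ : Nat.card P = 2 * Nat.card Q) {u : G} (hu : orderOf u = 2)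
    (huX : u ∈ X) (hfix : ∀ g ∈ X, g⁻¹ * u * g ∉ Q) :
    ∃ M : Subgroup G, M ≤ X ∧ Nat.card X = 2 * Nat.card M ∧ u ∉ M ∧ (∀ g ∈ X, ∀ v ∈ M, g * v * g⁻¹ ∈ M) ∧
      ∀ a ∈ X, a * a = 1 → (∀ g ∈ X, g⁻¹ * a * g ∈ P → g⁻¹ * a * g ∈ Q) → a ∈ M := by
  haveI : Fact (Nat.Prime 2) := ⟨Nat.prime_two⟩
  have hm0 : m ≠ 0 := fun e => by rw [e] at hm; exact Nat.not_odd_zero hm
  have hP' : Nat.card (P.subgroupOf X) = 2 ^ (Nat.card X).factorization 2 := by
    rw [Nat.card_congr (subgroupOfEquivOfLe hPX).toEquiv, hP, hX, Nat.factorization_mul (by simp) hm0,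
      Nat.Prime.factorization_pow Nat.prime_two]
    simp [Nat.factorization_eq_zero_of_not_dvd (show ¬ 2 ∣ m from fun h => by
      rw [Nat.odd_iff] at hm; omega)]
  let S : Sylow 2 X := Sylow.ofCard (P.subgroupOf X) hP'
  obtain ⟨M, hMn, hMi, huM, hall⟩ := Cfsg.Lib.AltEightType.transfer_split S (Q.subgroupOf X)
    (fun x hx => hQP hx) (by
      show (Q.subgroupOf X).relIndex (P.subgroupOf X) = 2
      rw [relIndex_subgroupOf hPX]
      exact index_two_of_card hQP hQ) (u := ⟨u, huX⟩) (by rwa [Subgroup.orderOf_mk])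
    fun g hg => hfix g g.2 hg
  refine ⟨M.map X.subtype, map_subtype_le _, ?_, fun h => huM ?_, ?_, fun a ha haa hc => ?_⟩
  · rw [card_map_of_injective X.subtype_injective, ← hMi, mul_comm, card_mul_index]
  · obtain ⟨y, hy, hyu⟩ := h
    have : y = ⟨u, huX⟩ := Subtype.ext hyu
    exact this ▸ hy
  · rintro g hg _ ⟨v, hv, rfl⟩
    exact ⟨⟨g, hg⟩ * v * ⟨g, hg⟩⁻¹, hMn.conj_mem v hv _, rfl⟩
  · exact ⟨⟨a, ha⟩, hall _ (Subtype.ext haa) fun g hg => hc g g.2 hg, rfl⟩

end Cfsg.Lib.ExtraEight
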