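import Cfsg.Agent.ExtraEight.A9Data
import Cfsg.Agent.ExtraEight.A9Lemmas
import Cfsg.Agent.InvolCalc.StronglyEmbedded
import Cfsg.Agent.LocalThree.HallJankoType.KleinCases

/-!
The centraliser of the second class of involutions.
-/

set_option autoImplicit false
set_option linter.unusedSectionVars false
set_option linter.style.haveILetI false
set_option maxRecDepth 10000

namespace Cfsg.Lib.ExtraEight

open Subgroup Cfsg.Lib.InvolCalc

/-- a proper subgroup of alternating type containing the centraliser -/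
structure Alt9 (G : Type*) [Group G] [Finite G] where
  /-- the setting -/
  S : ASetting G
  hP : S.Pattern
  /-- the embedding -/
  f : alternatingGroup (Fin 8) →* G
  finj : Function.Injective f
  fφ : ∀ x, f (emb8 x) = S.φ x
  proper : f.range ≠ ⊤

variable {G : Type*} [Group G] [Finite G]

namespace Alt9

variable (A : Alt9 G)

/-- the second involution -/
def u : G := A.S.φ uM

theorem u_order : orderOf A.u = 2 := A.S.order_φ uM_facts.2.1 uM_facts.2.2.1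

theorem φ_mem (x : MA) : A.S.φ x ∈ A.f.range := ⟨emb8 x, A.fφ x⟩

theorem cent_t_le : centralizer ({A.S.t} : Set G) ≤ A.f.range := fun c hc => by
  obtain ⟨m, rfl⟩ := A.S.mem_iff.1 (mem_centralizer_singleton_iff.1 hc)
  exact A.φ_mem m

theorem φ_conj (c x : MA) : A.S.φ c * A.S.φ x * (A.S.φ c)⁻¹ = A.S.φ (c * x * c⁻¹) := by
  rw [map_mul, map_mul, map_inv]

theorem f_conj {c : alternatingGroup (Fin 8)} {x y : MA} (h : c * emb8 x = emb8 y * c) :
    A.f c * A.S.φ x * (A.f c)⁻¹ = A.S.φ y := by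
  rw [← A.fφ, ← A.fφ, mul_inv_eq_iff_eq_mul, ← map_mul, ← map_mul, h]

theorem isT_φ {x : MA} (h1 : x * x = 1) (h2 : x ≠ 1) : A.S.IsT (A.S.φ x) ↔ isT' x = true := by
  rw [A.S.isT_iff h1 h2]
  obtain ⟨l1, l2, -⟩ := labA_invol x h1 h2
  obtain ⟨p2, p3, p4, p5, p6⟩ := A.hP
  have p1 : A.S.PT 1 := by
    show IsConj A.S.t (A.S.φ (repA 1))
    rw [show repA 1 = tA from rfl]
    exact IsConj.refl _
  simp only [isT', Bool.or_eq_true, beq_iff_eq]
  rcases (show labA x = 1 ∨ labA x = 2 ∨ labA x = 3 ∨ labA x = 4 ∨ labA x = 5 ∨ labA x = 6 by omega) with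
    e | e | e | e | e | e <;> rw [e] <;> simp [p1, p2, p3, p4, p5, p6]

theorem not_isT_u : ¬ A.S.IsT A.u := fun h => by
  have := (A.isT_φ uM_facts.2.1 uM_facts.2.2.1).1 h
  exact absurd this (by decide +kernel)

theorem not_both {y : G} (h : IsConj A.u y) : ¬ A.S.IsT y := fun hT => A.not_isT_u (IsConj.trans hT h.symm)

theorem to_rep {x : MA} (h1 : x * x = 1) (h2 : x ≠ 1) :
    A.S.φ (cwA x) * A.S.φ x * (A.S.φ (cwA x))⁻¹ = A.S.φ (repA (labA x)) := by
  rw [A.φ_conj, (labA_invol x h1 h2).2.2.1]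

theorem rep_norm {x : MA} (h1 : x * x = 1) (h2 : x ≠ 1) :
    ∃ c ∈ A.f.range, c * A.S.φ x * c⁻¹ = A.S.t ∧ isT' x = true ∨
      c * A.S.φ x * c⁻¹ = A.u ∧ isU x = true := by
  obtain ⟨l1, l2, -⟩ := labA_invol x h1 h2
  have hr := A.to_rep h1 h2
  obtain ⟨c3, c4, c6, c5, -⟩ := cR_facts
  have two : ∀ {k : MA} {c : alternatingGroup (Fin 8)}, c * emb8 (repA (labA x)) = emb8 k * c →
      (A.f c * A.S.φ (cwA x)) * A.S.φ x * (A.f c * A.S.φ (cwA x))⁻¹ = A.S.φ k := fun {k c} h => by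
    rw [← A.f_conj h, ← hr]; group
  have hmem : ∀ c, A.f c * A.S.φ (cwA x) ∈ A.f.range := fun c => mul_mem ⟨c, rfl⟩ (A.φ_mem _)
  rcases (show labA x = 1 ∨ labA x = 2 ∨ labA x = 3 ∨ labA x = 4 ∨ labA x = 5 ∨ labA x = 6 by omega) with
    e | e | e | e | e | e <;> simp only [e] at two hr
  · exact ⟨_, A.φ_mem (cwA x), Or.inl ⟨hr, by simp [isT', e]⟩⟩
  · exact ⟨_, A.φ_mem (cwA x), Or.inr ⟨hr, by simp [isU, e]⟩⟩
  · exact ⟨_, hmem cR3, Or.inl ⟨two c3, by simp [isT', e]⟩⟩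
  · exact ⟨_, hmem cR4, Or.inl ⟨two c4, by simp [isT', e]⟩⟩
  · exact ⟨_, hmem cR5, Or.inr ⟨two c5, by simp [isU, e]⟩⟩
  · exact ⟨_, hmem cR6, Or.inl ⟨two c6, by simp [isT', e]⟩⟩

theorem conj_u_φ {x : MA} (h : isU x = true) : IsConj A.u (A.S.φ x) := by
  obtain ⟨h1, h2⟩ := lab_zero x (Or.inl h)
  obtain ⟨c, -, hc⟩ := A.rep_norm h1 h2
  rcases hc with ⟨-, hT⟩ | ⟨hc, -⟩
  · rw [lab_UT x h1 h2, hT] at h; exact absurd h Bool.false_ne_true
  · exact IsConj.symm (isConj_iff.2 ⟨c, hc⟩)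

theorem u_conj_φ {x : MA} (h1 : x * x = 1) (h : IsConj A.u (A.S.φ x)) : isU x = true := by
  have h2 : x ≠ 1 := fun e => by
    rw [e, map_one] at h
    obtain ⟨c, hc⟩ := isConj_iff.1 h
    exact ne_one_of_order_two A.u_order (conj_eq_one_iff.1 hc)
  rw [lab_UT x h1 h2, Bool.not_eq_true']
  exact Bool.eq_false_iff.2 fun e => A.not_both h ((A.isT_φ h1 h2).2 e)

theorem into_MA (a : alternatingGroup (Fin 8)) (ha : a * a = 1) :
    ∃ c : alternatingGroup (Fin 8), ∃ m : MA, c * a * c⁻¹ = emb8 m := by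
  haveI : Fact (Nat.Prime 2) := ⟨Nat.prime_two⟩
  have hcard : Nat.card (SA.map emb8) = 2 ^ (Nat.card (alternatingGroup (Fin 8))).factorization 2 := by
    rw [card_map_of_injective emb8_inj, card_SA, card_A8, show (20160 : ℕ) = 2 ^ 6 * 315 by norm_num,
      Nat.factorization_mul (by norm_num) (by norm_num), Nat.Prime.factorization_pow Nat.prime_two]
    simp [Nat.factorization_eq_zero_of_not_dvd (show ¬ 2 ∣ 315 by norm_num)]
  let P : Sylow 2 (alternatingGroup (Fin 8)) := Sylow.ofCard (SA.map emb8) hcard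
  obtain ⟨R, hR⟩ := (show IsPGroup 2 (zpowers a) from IsPGroup.of_card (n := (orderOf a).factorization 2) (by
    rw [Nat.card_zpowers]
    have hd : orderOf a ∣ 2 := orderOf_dvd_of_pow_eq_one (by rw [pow_two, ha])
    rcases (Nat.dvd_prime Nat.prime_two).1 hd with e | e <;> simp [e, Nat.Prime.factorization Nat.prime_two])).exists_le_sylow
  obtain ⟨c, hc⟩ := MulAction.exists_smul_eq (alternatingGroup (Fin 8)) R P
  have : c * a * c⁻¹ ∈ ((c • R : Sylow 2 _) : Subgroup (alternatingGroup (Fin 8))) := by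
    rw [Sylow.coe_subgroup_smul, Subgroup.mem_pointwise_smul_iff_inv_smul_mem]
    simpa [MulAut.smul_def, mul_assoc] using hR (mem_zpowers a)
  rw [hc] at this
  obtain ⟨m, -, hm⟩ := this
  exact ⟨c, m, hm.symm⟩

theorem inner {y : G} (hy : y ∈ A.f.range) (ho : orderOf y = 2) :
    ∃ c ∈ A.f.range, c * y * c⁻¹ = A.S.t ∨ c * y * c⁻¹ = A.u := by
  obtain ⟨a, rfl⟩ := hy
  have ha : a * a = 1 := A.finj (by rw [map_mul, map_one]; exact sq_of_order_two ho)
  obtain ⟨c, m, hm⟩ := into_MA a ha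
  have hcm : A.f c * A.f a * (A.f c)⁻¹ = A.S.φ m := by rw [← A.fφ, ← hm, map_mul, map_mul, map_inv]
  have ho' : orderOf (A.S.φ m) = 2 := by
    rw [← hcm, ← ho]; exact MulEquiv.orderOf_eq (MulAut.conj (A.f c)) _
  obtain ⟨m1, m2⟩ := A.S.φ_invol ho'
  obtain ⟨d, hd, hd'⟩ := A.rep_norm m1 m2
  refine ⟨d * A.f c, mul_mem hd ⟨c, rfl⟩, ?_⟩
  have e : d * A.f c * A.f a * (d * A.f c)⁻¹ = d * A.S.φ m * d⁻¹ := by rw [← hcm]; group
  rw [e]
  rcases hd' with ⟨h, -⟩ | ⟨h, -⟩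
  exacts [Or.inl h, Or.inr h]

theorem inner_T {y : G} (hy : y ∈ A.f.range) (hT : A.S.IsT y) : ∃ c ∈ A.f.range, c * y * c⁻¹ = A.S.t := by
  obtain ⟨c, hc, h | h⟩ := A.inner hy (A.S.isT_order hT)
  · exact ⟨c, hc, h⟩
  · exact absurd (IsConj.trans hT (isConj_iff.2 ⟨c, h⟩)) A.not_isT_u

theorem inner_U {y : G} (hy : y ∈ A.f.range) (hU : IsConj A.u y) : ∃ c ∈ A.f.range, c * y * c⁻¹ = A.u := by
  obtain ⟨c, hc, h | h⟩ := A.inner hy (Cfsg.Lib.HallJankoType.order_two_of_conj A.u_order hU)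
  · exact absurd (IsConj.symm (IsConj.trans hU (isConj_iff.2 ⟨c, h⟩))) A.not_isT_u
  · exact ⟨c, hc, h⟩

theorem cent_le {y : G} (hy : y ∈ A.f.range) (hT : A.S.IsT y) : centralizer ({y} : Set G) ≤ A.f.range := by
  obtain ⟨c, hc, hcy⟩ := A.inner_T hy hT
  intro x hx
  have hx' := mem_centralizer_singleton_iff.1 hx
  have : c * x * c⁻¹ ∈ A.f.range := A.cent_t_le (mem_centralizer_singleton_iff.2 (by
    rw [← hcy, show c * x * c⁻¹ * (c * y * c⁻¹) = c * (x * y) * c⁻¹ by group, hx']; group))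
  have h := mul_mem (mul_mem (inv_mem hc) this) hc
  simpa [mul_assoc] using h

theorem not_le : ¬ centralizer ({A.u} : Set G) ≤ A.f.range := by
  intro hu
  have hcent : ∀ y ∈ A.f.range, orderOf y = 2 → centralizer ({y} : Set G) ≤ A.f.range := fun y hy ho => by
    obtain ⟨c, hc, h | h⟩ := A.inner hy ho
    · exact A.cent_le hy (IsConj.symm (isConj_iff.2 ⟨c, h⟩))
    · intro x hx
      have hx' := mem_centralizer_singleton_iff.1 hx
      have : c * x * c⁻¹ ∈ A.f.range := hu (mem_centralizer_singleton_iff.2 (by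
        rw [← h, show c * x * c⁻¹ * (c * y * c⁻¹) = c * (x * y) * c⁻¹ by group, hx']; group))
      simpa [mul_assoc] using mul_mem (mul_mem (inv_mem hc) this) hc
  have hS : Cfsg.IsStronglyEmbedded A.f.range := by
    refine Cfsg.Lib.StrongEmb.of_conditions A.proper ?_ hcent fun a ha b hb hao hbo hab => ?_
    · rw [← Nat.card_congr (MonoidHom.ofInjective A.finj).toEquiv, card_A8]; decide
    obtain ⟨c, hc, hca⟩ := A.inner ha hao
    obtain ⟨d, hd, hdb⟩ := A.inner hb hbo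
    have hmem : d⁻¹ * c ∈ A.f.range := mul_mem (inv_mem hd) hc
    have hcomb : ∀ z : G, c * a * c⁻¹ = z → d * b * d⁻¹ = z → ∃ h ∈ A.f.range, h * a * h⁻¹ = b :=
      fun z h1 h2 => ⟨_, hmem, by
        rw [show d⁻¹ * c * a * (d⁻¹ * c)⁻¹ = d⁻¹ * (c * a * c⁻¹) * d by group, h1, ← h2]; group⟩
    rcases hca with h1 | h1 <;> rcases hdb with h2 | h2
    · exact hcomb _ h1 h2
    · exact absurd (((isConj_iff.2 ⟨c, h1⟩).symm.trans hab).trans (isConj_iff.2 ⟨d, h2⟩)) A.not_isT_u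
    · exact absurd (((isConj_iff.2 ⟨c, h1⟩).symm.trans hab).trans (isConj_iff.2 ⟨d, h2⟩)).symm A.not_isT_u
    · exact hcomb _ h1 h2
  exact A.not_isT_u (Cfsg.Lib.StrongEmb.all_conj hS A.S.t_order A.u_order)

/-- the subgroup of the model commuting with the second involution -/
def K : Subgroup G := KA.map A.S.φ

theorem card_K : Nat.card A.K = 32 := by rw [K, card_map_of_injective A.S.inj, card_KA]

theorem mem_K {x : G} : x ∈ A.K ↔ x ∈ centralizer ({A.u} : Set G) ∧ x * A.S.t = A.S.t * x := by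
  constructor
  · rintro ⟨m, hm, rfl⟩
    refine ⟨mem_centralizer_singleton_iff.2 ?_, A.S.φ_comm m⟩
    rw [u, ← map_mul, ← map_mul, mem_KA.1 hm]
  · rintro ⟨h1, h2⟩
    obtain ⟨m, rfl⟩ := A.S.mem_iff.1 h2
    refine ⟨m, mem_KA.2 (A.S.inj ?_), rfl⟩
    rw [map_mul, map_mul]
    exact mem_centralizer_singleton_iff.1 h1

theorem K_le : A.K ≤ centralizer ({A.u} : Set G) := fun _ hx => (A.mem_K.1 hx).1

theorem t_fixed_of {Y : Subgroup G} {n : G} (hn : n ∈ Y) (hY : Y ≤ centralizer ({A.u} : Set G))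
    (h : n * A.S.t * n⁻¹ ∈ A.K)
    (hkey : ∀ m ∈ KA, A.S.φ m = n * A.S.t * n⁻¹ → isT' m = true → m = tA) : n ∈ A.K := by
  obtain ⟨m, hm, hme⟩ := h
  have hT : A.S.IsT (A.S.φ m) := isConj_iff.2 ⟨n, hme.symm⟩
  obtain ⟨m1, m2⟩ := A.S.φ_invol (A.S.isT_order hT)
  have := hkey m hm hme ((A.isT_φ m1 m2).1 hT)
  subst this
  exact A.mem_K.2 ⟨hY hn, mul_inv_eq_iff_eq_mul.1 hme.symm⟩

theorem exists_odd : ∃ m, Odd m ∧ Nat.card (centralizer ({A.u} : Set G)) = 32 * m := by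
  haveI : Fact (Nat.Prime 2) := ⟨Nat.prime_two⟩
  set H := centralizer ({A.u} : Set G)
  obtain ⟨m, hm⟩ := A.card_K ▸ card_dvd_of_le A.K_le
  refine ⟨m, ?_, hm⟩
  by_contra hodd
  obtain ⟨j, hj⟩ := Nat.not_odd_iff_even.1 hodd
  obtain ⟨Y, hY, hKY⟩ := Sylow.exists_subgroup_card_pow_succ (G := H) (p := 2) (n := 5)
    ⟨j, by rw [hm, hj]; ring⟩ (H := A.K.subgroupOf H)
    (by rw [Nat.card_congr (subgroupOfEquivOfLe A.K_le).toEquiv, A.card_K]; norm_num)
  have hidx : ((A.K.subgroupOf H).subgroupOf Y).index = 2 := index_two_of_card hKY (by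
    rw [hY, Nat.card_congr (subgroupOfEquivOfLe A.K_le).toEquiv, A.card_K]; norm_num)
  have hnorm := Subgroup.normal_of_index_eq_two hidx
  have hle : Y ≤ A.K.subgroupOf H := by
    intro y hy
    have hc : ∀ k ∈ A.K, (y : G) * k * (y : G)⁻¹ ∈ A.K := fun k hk => by
      have := hnorm.conj_mem (⟨⟨k, A.K_le hk⟩, hKY hk⟩ : Y) hk ⟨y, hy⟩
      simpa [mem_subgroupOf] using this
    have ht : A.S.t ∈ A.K := A.mem_K.2 ⟨mem_centralizer_singleton_iff.2 (A.S.φ_comm uM).symm, rfl⟩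
    refine A.t_fixed_of (Y := H) y.2 le_rfl (hc _ ht) fun m' hm' hme hT => centre_KA m' (mem_KA.1 hm') (fun z hz => ?_) hT
    refine A.S.inj ?_
    rw [map_mul, map_mul, hme]
    simp only [Subgroup.coe_subtype]
    have hz' : (y : G)⁻¹ * A.S.φ z * y ∈ A.K := by
      have h2 := hnorm.conj_mem (⟨⟨A.S.φ z, A.K_le ⟨z, mem_KA.2 hz, rfl⟩⟩, hKY ⟨z, mem_KA.2 hz, rfl⟩⟩ : Y)
        ⟨z, mem_KA.2 hz, rfl⟩ (⟨y, hy⟩ : Y)⁻¹
      simpa [mem_subgroupOf] using h2
    have e := (A.mem_K.1 hz').2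
    calc (y : G) * A.S.t * (y : G)⁻¹ * A.S.φ z = y * (A.S.t * ((y : G)⁻¹ * A.S.φ z * y)) * (y : G)⁻¹ := by group
      _ = y * ((y : G)⁻¹ * A.S.φ z * y * A.S.t) * (y : G)⁻¹ := by rw [e]
      _ = _ := by group
  have h := card_dvd_of_le hle
  rw [hY, Nat.card_congr (subgroupOfEquivOfLe A.K_le).toEquiv, A.card_K] at h
  norm_num at h

theorem outer_not_conj {x : MA} (hx : x * uM = uM * x) (hxW : inW x = false) (hx2 : x * x = 1) {g : G}
    (hg : g ∈ centralizer ({A.u} : Set G)) : g⁻¹ * A.S.φ x * g ∉ WA.map A.S.φ := by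
  rintro ⟨w, hw, hwe⟩
  haveI : Fact (Nat.Prime 2) := ⟨Nat.prime_two⟩
  obtain ⟨hcard, honly⟩ := outer_facts x hx hxW hx2
  set C := centralizer ({A.u} : Set G) ⊓ centralizer ({A.S.φ x} : Set G) with hC
  let CX : Subgroup MA := KA ⊓ centralizer {x}
  let X := CX.map A.S.φ
  have hXC : X ≤ C := by
    rintro _ ⟨m, ⟨hm1, hm2⟩, rfl⟩
    exact ⟨A.K_le ⟨m, hm1, rfl⟩, mem_centralizer_singleton_iff.2 (by
      rw [← map_mul, ← map_mul, mem_centralizer_singleton_iff.1 hm2])⟩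
  have hXcard : Nat.card X = 8 := by
    rw [show X = CX.map A.S.φ from rfl, card_map_of_injective A.S.inj, ← hcard,
      ← Fintype.card_subtype, ← Nat.card_eq_fintype_card]
    exact Nat.card_congr (Equiv.subtypeEquivRight fun y => by
      rw [mem_inf, mem_KA, mem_centralizer_singleton_iff])
  have hgi : g⁻¹ ∈ centralizer ({A.u} : Set G) := inv_mem hg
  let F : WA →* C := MonoidHom.mk' (fun v => ⟨g * A.S.φ v * g⁻¹, by
      obtain ⟨vW, vC⟩ := W_facts.1, W_facts.2.2.2.2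
      refine ⟨mul_mem (mul_mem hg (A.K_le ⟨v, mem_KA.2 (W_facts.1 _ v.2), rfl⟩)) hgi,
        mem_centralizer_singleton_iff.2 ?_⟩
      have e : A.S.φ x = g * A.S.φ w * g⁻¹ := by rw [hwe]; group
      rw [e, show g * A.S.φ v * g⁻¹ * (g * A.S.φ w * g⁻¹) = g * A.S.φ (v * w) * g⁻¹ by rw [map_mul]; group,
        W_facts.2.2.2.2 _ v.2 _ hw, map_mul]
      group⟩) fun a b => Subtype.ext (by
        show g * A.S.φ ((a * b : WA) : MA) * g⁻¹ = g * A.S.φ a * g⁻¹ * (g * A.S.φ b * g⁻¹)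
        rw [coe_mul, map_mul]; group)
  have hF : Function.Injective F := fun a b h =>
    Subtype.ext (A.S.inj (mul_left_cancel (mul_right_cancel (congrArg Subtype.val h))))
  have h16 : 2 ^ (3 + 1) ∣ Nat.card C := by
    have := Subgroup.card_dvd_of_injective F hF
    rwa [card_WA] at this
  obtain ⟨Y, hY, hXY⟩ := Sylow.exists_subgroup_card_pow_succ (G := C) h16 (H := X.subgroupOf C)
    (by rw [Nat.card_congr (subgroupOfEquivOfLe hXC).toEquiv, hXcard]; norm_num)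
  have hidx : ((X.subgroupOf C).subgroupOf Y).index = 2 := index_two_of_card hXY (by
    rw [hY, Nat.card_congr (subgroupOfEquivOfLe hXC).toEquiv, hXcard]; norm_num)
  have hnorm := Subgroup.normal_of_index_eq_two hidx
  have htX : A.S.t ∈ X := ⟨tA, ⟨mem_KA.2 (tA_facts.1 uM), mem_centralizer_singleton_iff.2 (tA_facts.1 x)⟩, rfl⟩
  have hle : Y ≤ X.subgroupOf C := by
    intro y hy
    have hc : (y : G) * A.S.t * (y : G)⁻¹ ∈ X := by
      have := hnorm.conj_mem (⟨⟨A.S.t, hXC htX⟩, hXY htX⟩ : Y) htX ⟨y, hy⟩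
      simpa [mem_subgroupOf] using this
    obtain ⟨m, ⟨hm1, hm2⟩, hme⟩ := hc
    have hyK : (y : G) ∈ A.K := A.t_fixed_of (Y := C) y.2 inf_le_left ⟨m, hm1, hme⟩ fun m' _ hme' hT => by
      rw [show m' = m from A.S.inj (hme'.trans hme.symm)] at hT ⊢
      exact honly m (mem_KA.1 hm1) (mem_centralizer_singleton_iff.1 hm2) hT
    obtain ⟨k, hk, hke⟩ := hyK
    refine ⟨k, ⟨hk, mem_centralizer_singleton_iff.2 (A.S.inj ?_)⟩, hke⟩
    rw [map_mul, map_mul, hke]
    exact mem_centralizer_singleton_iff.1 y.2.2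
  have h := card_dvd_of_le hle
  rw [hY, Nat.card_congr (subgroupOfEquivOfLe hXC).toEquiv, hXcard] at h
  norm_num at h

theorem card_map (X : Subgroup MA) : Nat.card (X.map A.S.φ) = Nat.card X := card_map_of_injective A.S.inj

theorem conj_invol {x : MA} {g : G} (h1 : x * x = 1) {y : MA} (hy : A.S.φ y = g⁻¹ * A.S.φ x * g) : y * y = 1 :=
  A.S.inj (by
    rw [map_mul, map_one, hy, show g⁻¹ * A.S.φ x * g * (g⁻¹ * A.S.φ x * g) = g⁻¹ * (A.S.φ x * A.S.φ x) * g by group,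
      ← map_mul, h1, map_one]; group)

theorem pred_conj {x y : MA} {g : G} (hg : g ∈ centralizer ({A.u} : Set G))
    (hx : x * x = 1) (hxu : x * uM = uM * x) (hy : A.S.φ y = g⁻¹ * A.S.φ x * g) :
    (isU x = true → isU y = true) ∧ (isU (uM * x) = true → isU (uM * y) = true) ∧
      (isT' (uM * x) = true → isT' (uM * y) = true) := by
  have hgu := mem_centralizer_singleton_iff.1 hg
  have hug : g⁻¹ * A.u * g = A.u := by rw [mul_assoc, ← hgu, inv_mul_cancel_left]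
  have hc : A.S.φ (uM * y) = g⁻¹ * A.S.φ (uM * x) * g := by
    rw [map_mul, map_mul, hy, ← u]
    calc A.u * (g⁻¹ * A.S.φ x * g) = g⁻¹ * A.u * g * (g⁻¹ * A.S.φ x * g) := by rw [hug]
      _ = _ := by group
  have hx2 : uM * x * (uM * x) = 1 := by
    rw [show uM * x * (uM * x) = uM * (x * uM) * x by group, hxu, ← mul_assoc, uM_facts.2.1, one_mul, hx]
  have hconj : ∀ {a b : MA}, A.S.φ b = g⁻¹ * A.S.φ a * g → IsConj (A.S.φ a) (A.S.φ b) := fun h =>
    isConj_iff.2 ⟨g⁻¹, by rw [inv_inv]; exact h.symm⟩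
  refine ⟨fun h => A.u_conj_φ (A.conj_invol hx hy) ((A.conj_u_φ h).trans (hconj hy)),
    fun h => A.u_conj_φ (A.conj_invol hx2 hc) ((A.conj_u_φ h).trans (hconj hc)), fun h => ?_⟩
  obtain ⟨a1, a2⟩ := lab_zero _ (Or.inr h)
  have hT := IsConj.trans ((A.isT_φ a1 a2).2 h) (hconj hc)
  obtain ⟨b1, b2⟩ := A.S.φ_invol (A.S.isT_order hT)
  exact (A.isT_φ b1 b2).1 hT

theorem cent_two_group {x : G} (hx : x ∈ centralizer ({A.u} : Set G)) {b : MA} (hb : inB b = true) (hb1 : b ≠ 1)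
    (hxb : x * A.S.φ b = A.S.φ b * x) : x ^ 4 = 1 := by
  obtain ⟨bU, bT⟩ := split_two.2.2 b hb hb1
  obtain ⟨a1, a2⟩ := lab_zero _ (Or.inr bT)
  have hxu := mem_centralizer_singleton_iff.1 hx
  obtain ⟨a, rfl⟩ : x ∈ A.f.range := A.cent_le (A.φ_mem _) ((A.isT_φ a1 a2).2 bT)
    (mem_centralizer_singleton_iff.2 (by
      rw [map_mul, ← mul_assoc, ← u, hxu, mul_assoc, hxb, mul_assoc]))
  have ha1 : a * emb8 uM = emb8 uM * a := A.finj (by rw [map_mul, map_mul, A.fφ]; exact hxu)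
  have ha2 : a * emb8 b = emb8 b * a := A.finj (by rw [map_mul, map_mul, A.fφ]; exact hxb)
  obtain ⟨-, -, au, a67, a85⟩ := a3_facts
  obtain ⟨c, cu, cb⟩ : ∃ c : alternatingGroup (Fin 8), c * emb8 uM = emb8 uM * c ∧
      c * emb8 b = emb8 (MA.mk 126) * c := by
    simp only [inB, Bool.or_eq_true, beq_iff_eq] at hb
    rcases hb with ((h | h) | h) | h
    · exact absurd h hb1
    · exact ⟨1, by group, by rw [h]; group⟩
    · exact ⟨a3, au, by rw [h]; exact a67⟩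
    · exact ⟨a3⁻¹, ((Commute.inv_left au : Commute a3⁻¹ (emb8 uM))), by rw [h]; exact a85⟩
  have key : ∀ {z z' : alternatingGroup (Fin 8)}, c * z = z' * c → a * z = z * a →
      c * a * c⁻¹ * z' = z' * (c * a * c⁻¹) := fun {z z'} h1 h2 => by
    have e : z' = c * z * c⁻¹ := by rw [h1]; group
    rw [e, show c * a * c⁻¹ * (c * z * c⁻¹) = c * (a * z) * c⁻¹ by group, h2]; group
  have k1 := key cu ha1
  have k2 := key cb ha2
  have kt : A.f (c * a * c⁻¹) * A.S.t = A.S.t * A.f (c * a * c⁻¹) := by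
    have e : A.S.t = A.f (emb8 uM * emb8 (MA.mk 126)) := by
      rw [← map_mul, A.fφ]
      exact congrArg A.S.φ (show tA = uM * MA.mk 126 by decide +kernel)
    rw [e, ← map_mul A.f, ← map_mul A.f, ← mul_assoc, k1, mul_assoc, k2, ← mul_assoc]
  obtain ⟨m, hm⟩ := A.S.mem_iff.1 kt
  rw [← A.fφ] at hm
  have hm' := A.finj hm
  have hmK : m * uM = uM * m := emb8_inj (by rw [map_mul, map_mul, hm']; exact k1)
  have h4 : (c * a * c⁻¹) ^ 4 = 1 := by rw [← hm', ← map_pow, B_facts.2.2.1 m hmK, map_one]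
  rw [← map_pow, show a ^ 4 = 1 from conj_eq_one_iff.1 (by rw [← conj_pow]; exact h4), map_one]

/-- the simple part of the centraliser -/
structure Part where
  /-- the subgroup -/
  X : Subgroup G
  le : X ≤ centralizer ({A.u} : Set G)
  B_le : BA.map A.S.φ ≤ X
  card : Nat.card X = 60
  simple : IsSimpleGroup X
  normal : ∀ g ∈ centralizer ({A.u} : Set G), ∀ x ∈ X, g * x * g⁻¹ ∈ X

theorem exists_part : Nat.card (centralizer ({A.u} : Set G)) = 480 ∧ Nonempty A.Part := by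
  haveI : Fact (Nat.Prime 2) := ⟨Nat.prime_two⟩
  set H := centralizer ({A.u} : Set G) with hH
  obtain ⟨m, hm, hcard⟩ := A.exists_odd
  obtain ⟨uMr, u2, u1, uW, wW, w2, wu, uU, uB, tu, xW, xQ, xU, uxU, -⟩ := uM_facts
  obtain ⟨WK, QW, BQ, Kcase, Wcomm⟩ := W_facts
  obtain ⟨s1, s2, s3⟩ := split_two
  have hWK : WA.map A.S.φ ≤ A.K := by
    rintro _ ⟨v, hv, rfl⟩; exact ⟨v, mem_KA.2 (WK v hv), rfl⟩
  obtain ⟨N, NH, Nc, Nw, Nn, Nall⟩ := split H A.K (WA.map A.S.φ) A.K_le hWK (n := 5) (m := m)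
    (by rw [A.card_K]; norm_num) (by rw [hcard]; norm_num) hm
    (by rw [A.card_K, A.card_map, card_WA]) (u := A.S.φ wM)
    (A.S.order_φ w2 fun e => by rw [e] at wW; exact absurd wW (by decide +kernel))
    (A.K_le ⟨wM, mem_KA.2 wu, rfl⟩) (fun g hg => A.outer_not_conj wu wW w2 hg)
  have WN : WA.map A.S.φ ≤ N := by
    rintro _ ⟨v, hv, rfl⟩
    obtain ⟨a, ha⟩ := mem_WA.1 hv
    refine Nall _ (A.K_le (hWK ⟨v, hv, rfl⟩)) (by rw [← map_mul, ← ha, el_sq, map_one]) fun g hg hK => ?_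
    obtain ⟨k, hk, hke⟩ := hK
    by_contra hkW
    have hkW' : inW k = false := Bool.eq_false_iff.2 fun h => hkW ⟨k, h, hke⟩
    exact A.outer_not_conj (mem_KA.1 hk) hkW' (A.conj_invol (by rw [← ha, el_sq]) hke) (inv_mem hg)
      ⟨v, hv, by rw [hke]; group⟩
  have hN : Nat.card N = 2 ^ 4 * m := by rw [hcard] at Nc; omega
  have hQW : Q8A.map A.S.φ ≤ WA.map A.S.φ := map_mono fun v hv => QW v hv
  obtain ⟨M, MN, Mc, -, Mn, Mall⟩ := split N (WA.map A.S.φ) (Q8A.map A.S.φ) WN hQW (n := 4) (m := m)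
    (by rw [A.card_map, card_WA]; norm_num) hN hm (by rw [A.card_map, A.card_map, card_WA, card_Q8A])
    (u := A.S.φ (MA.mk 1)) (A.S.order_φ (lab_zero _ (Or.inl xU)).1 (lab_zero _ (Or.inl xU)).2)
    (WN ⟨_, xW, rfl⟩) fun g hg h => by
      obtain ⟨q, hq, hqe⟩ := h
      obtain ⟨p1, p2, -⟩ := A.pred_conj (NH hg) (lab_zero _ (Or.inl xU)).1 (WK _ xW) hqe
      exact s1 q hq ⟨p1 xU, p2 uxU⟩
  have hu1 : ∀ g ∈ N, g⁻¹ * A.u * g = A.u := fun g hg => by
    rw [mul_assoc, ← mem_centralizer_singleton_iff.1 (NH hg), inv_mul_cancel_left]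
  have uQ : inQ8 uM = true := by decide +kernel
  have uM' : A.u ∈ M := Mall _ (WN ⟨uM, uW, rfl⟩) (sq_of_order_two A.u_order) fun g hg _ => by
    rw [hu1 g hg]; exact ⟨uM, uQ, rfl⟩
  have bQ : ∀ b, inB b = true → ∀ g ∈ H, g⁻¹ * A.S.φ b * g ∈ WA.map A.S.φ →
      g⁻¹ * A.S.φ b * g ∈ BA.map A.S.φ := fun b hb g hg h => by
    by_cases hb1 : b = 1
    · rw [hb1, map_one, mul_one, inv_mul_cancel]; exact one_mem _
    obtain ⟨q, hq, hqe⟩ := h
    obtain ⟨bU, bT⟩ := s3 b hb hb1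
    obtain ⟨p1, -, p3⟩ := A.pred_conj hg (lab_zero _ (Or.inl bU)).1 (WK _ (QW _ (BQ _ hb))) hqe
    exact ⟨q, s2 q hq (p1 bU) (p3 bT), hqe⟩
  have hBQ : BA.map A.S.φ ≤ Q8A.map A.S.φ := map_mono fun v hv => BQ v hv
  have bsq : ∀ b, inB b = true → A.S.φ b * A.S.φ b = 1 := fun b hb => by
    obtain ⟨a, rfl⟩ := mem_WA.1 (show b ∈ WA from QW _ (BQ _ hb))
    rw [← map_mul, el_sq, map_one]
  have BM : ∀ b, inB b = true → A.S.φ b ∈ M := fun b hb =>
    Mall _ (WN ⟨b, QW _ (BQ _ hb), rfl⟩) (bsq b hb) fun g hg h => hBQ (bQ b hb g (NH hg) h)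
  have QM : Q8A.map A.S.φ ≤ M := by
    rintro _ ⟨q, hq, rfl⟩
    rcases Bool.or_eq_true_iff.1 (show inQ8 q = true from hq) with h | h
    · exact BM q h
    · have := mul_mem uM' (BM _ h)
      rwa [u, ← map_mul, ← mul_assoc, u2, one_mul] at this
  have hM : Nat.card M = 2 ^ 3 * m := by omega
  obtain ⟨X, XM, Xc, -, Xn, Xall⟩ := split M (Q8A.map A.S.φ) (BA.map A.S.φ) QM hBQ (n := 3) (m := m)
    (by rw [A.card_map, card_Q8A]; norm_num) hM hm (by rw [A.card_map, A.card_map, card_Q8A, card_BA])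
    (u := A.u) A.u_order uM' fun g hg h => by
      rw [hu1 g (MN hg)] at h
      obtain ⟨q, hq, hqe⟩ := h
      have : inB q = true := hq
      rw [A.S.inj hqe, uB] at this
      exact Bool.false_ne_true this
  have BX : BA.map A.S.φ ≤ X := by
    rintro _ ⟨b, hb, rfl⟩
    exact Xall _ (BM b hb) (bsq b hb) fun g hg h => bQ b hb g (NH (MN hg)) (hQW h)
  have hX : Nat.card X = 4 * m := by omega
  have hXH : X ≤ H := XM.trans (MN.trans NH)
  set V := (BA.map A.S.φ).subgroupOf X with hV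
  have hV4 : Nat.card V = 4 := by rw [Nat.card_congr (subgroupOfEquivOfLe BX).toEquiv, A.card_map, card_BA]
  have hVi : V.index = m := by
    have := V.card_mul_index
    rw [hV4, hX] at this
    omega
  have hcent : ∀ v ∈ V, v ≠ 1 → ∀ x : X, Commute x v → x ∈ V := by
    intro v hv hv1 x hx
    obtain ⟨b, hb, hbe⟩ := hv
    have hb1 : b ≠ 1 := fun e => hv1 (Subtype.ext (by rw [← X.coe_subtype, ← hbe, e, map_one]; rfl))
    have hxb : (x : G) * A.S.φ b = A.S.φ b * x := by rw [hbe]; exact congrArg Subtype.val hx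
    set Y := centralizer ({v} : Set X) with hY
    have hYp : IsPGroup 2 Y := fun y => ⟨2, Subtype.ext (Subtype.ext (by
      have := A.cent_two_group (hXH (y : X).2) hb hb1 (by
        rw [hbe]; exact congrArg Subtype.val (mem_centralizer_singleton_iff.1 y.2))
      simpa using this))⟩
    have hVY : V ≤ Y := fun z hz => by
      obtain ⟨c, hc, hce⟩ := hz
      refine mem_centralizer_singleton_iff.2 (Subtype.ext ?_)
      show (z : G) * (v : G) = (v : G) * (z : G)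
      rw [show (z : G) = A.S.φ c from hce.symm, show (v : G) = A.S.φ b from hbe.symm, ← map_mul, ← map_mul,
        Wcomm c (QW _ (BQ _ hc)) b (QW _ (BQ _ hb))]
    obtain ⟨k, hk⟩ := hYp.exists_card_eq
    have hd : Nat.card Y ∣ 4 := by
      have h1 := card_subgroup_dvd_card Y
      rw [hX, hk] at h1
      rw [hk]
      exact Nat.Coprime.dvd_of_dvd_mul_right (Nat.Coprime.pow_left k (Nat.coprime_two_left.2 hm)) h1
    have : V = Y := eq_of_le_of_card_ge hVY (by rw [hV4]; exact Nat.le_of_dvd (by norm_num) hd)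
    rw [this]
    exact mem_centralizer_singleton_iff.2 hx
  have hge : 6 ≤ m := by
    set J := A.f.range ⊓ H
    have h96 : 96 ∣ Nat.card J := by
      obtain ⟨a33, a31, au, -⟩ := a3_facts
      have hK : A.K ≤ J := le_inf (by rintro _ ⟨k, -, rfl⟩; exact A.φ_mem k) A.K_le
      have h32 := card_dvd_of_le hK
      rw [A.card_K] at h32
      haveI : Fact (Nat.Prime 3) := ⟨by norm_num⟩
      have h3 : 3 ∣ Nat.card J := by
        have ho : orderOf (A.f a3) = 3 := by rw [orderOf_injective A.f A.finj, orderOf_eq_prime a33 a31]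
        have hmem : A.f a3 ∈ J := mem_inf.2 ⟨⟨a3, rfl⟩, mem_centralizer_singleton_iff.2 (by
          rw [u, ← A.fφ, ← map_mul, ← map_mul, au])⟩
        exact ho ▸ Subgroup.orderOf_dvd_natCard _ hmem
      exact Nat.Coprime.mul_dvd_of_dvd_of_dvd (m := 32) (n := 3) (by norm_num) h32 h3
    have hJH : J ≤ H := inf_le_right
    have hne : J ≠ H := fun e => A.not_le (e.ge.trans inf_le_left)
    obtain ⟨j, hj⟩ := card_dvd_of_le hJH
    have hj1 : j ≠ 1 := fun e => hne (eq_of_le_of_card_ge hJH (by rw [hj, e, mul_one]))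
    have hj0 : j ≠ 0 := fun e => by rw [e, mul_zero] at hj; exact Nat.card_pos.ne' hj
    have := Nat.le_of_dvd Nat.card_pos h96
    rw [hcard] at hj
    have : 96 * 2 ≤ Nat.card J * j := Nat.mul_le_mul this (by omega)
    omega
  rcases Cfsg.Lib.HallJankoType.four_cases (K := X) hV4 (fun v hv => by
      obtain ⟨b, hb, hbe⟩ := hv
      exact Subtype.ext (show (v : G) * (v : G) = 1 by rw [show (v : G) = A.S.φ b from hbe.symm, bsq b hb]))
      (by rw [hVi]; rw [Nat.odd_iff] at hm; omega) hcent with h | h | ⟨⟨e⟩⟩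
  · rw [h, index_top] at hVi; omega
  · have := h.1; omega
  have h60 : Nat.card X = 60 := by
    rw [Nat.card_congr e.toEquiv, nat_card_alternatingGroup, Nat.card_fin]; rfl
  haveI : IsSimpleGroup (alternatingGroup (Fin 5)) := alternatingGroup.isSimpleGroup (by simp)
  haveI : Nontrivial X := Finite.one_lt_card_iff_nontrivial.1 (by omega)
  have hsimp : IsSimpleGroup X := IsSimpleGroup.isSimpleGroup_of_surjective e.symm.toMonoidHom e.symm.surjective
  refine ⟨by omega, ⟨⟨X, hXH, BX, h60, hsimp, fun g hg x hx => ?_⟩⟩⟩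
  let e' := Subgroup.equivMapOfInjective X (MulAut.conj g).toMonoidHom (MulAut.conj g).injective
  set Xg := X.map (MulAut.conj g).toMonoidHom
  haveI : Nontrivial Xg := e'.symm.toEquiv.nontrivial
  have hs' : IsSimpleGroup Xg := IsSimpleGroup.isSimpleGroup_of_surjective e'.toMonoidHom e'.surjective
  have hc' : 2 < Nat.card Xg := by rw [← Nat.card_congr e'.toEquiv, h60]; norm_num
  have hgN : Xg ≤ N := by
    rintro _ ⟨z, hz, rfl⟩
    exact Nn g hg z (MN (XM hz))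
  have hgM : Xg ≤ M := simple_le_of_index_two hgN MN Mc hs' hc'
  exact simple_le_of_index_two hgM XM Xc hs' hc' ⟨x, hx, rfl⟩

end Alt9

end Cfsg.Lib.ExtraEight
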