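import Cfsg.Agent.ExtraEight.Concrete

/-!
Finite facts for the alternating group of degree nine.
-/

set_option autoImplicit false
set_option maxRecDepth 100000
set_option maxHeartbeats 4000000

namespace Cfsg.Lib.ExtraEight

open Equiv

/-- the chosen involution of the second class -/
def uM : MA := MA.mk 30
/-- an involution outside the abelian subgroup -/
def wM : MA := MA.mk 60
/-- the second position of the central involution -/
def tD : MA := MA.mk 127
/-- the fused class of the first involution -/
def isT' (x : MA) : Bool := labA x == 1 || labA x == 3 || labA x == 4 || labA x == 6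
/-- the other class -/
def isU (x : MA) : Bool := labA x == 2 || labA x == 5
/-- the second four-group -/
def inB (x : MA) : Bool := x == 1 || x == MA.mk 126 || x == MA.mk 67 || x == MA.mk 85
/-- the first four-group -/
def inR (x : MA) : Bool := x == 1 || x == MA.mk 30 || x == MA.mk 1 || x == MA.mk 31
/-- the subgroup of order eight -/
def inQ8 (x : MA) : Bool := inB x || inB (uM * x)

/-- the four-group as a subgroup -/
def BA : Subgroup MA where
  carrier := {x | inB x = true}
  one_mem' := by decide +kernel
  mul_mem' := fun {x y} hx hy => by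
    have : ∀ x : MA, inB x = true → ∀ y : MA, inB y = true → inB (x * y) = true := by decide +kernel
    exact this x hx y hy
  inv_mem' := fun {x} hx => by
    have : ∀ x : MA, inB x = true → inB x⁻¹ = true := by decide +kernel
    exact this x hx

/-- the subgroup of order eight as a subgroup -/
def Q8A : Subgroup MA where
  carrier := {x | inQ8 x = true}
  one_mem' := by decide +kernel
  mul_mem' := fun {x y} hx hy => by
    have : ∀ x : MA, inQ8 x = true → ∀ y : MA, inQ8 y = true → inQ8 (x * y) = true := by decide +kernel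
    exact this x hx y hy
  inv_mem' := fun {x} hx => by
    have : ∀ x : MA, inQ8 x = true → inQ8 x⁻¹ = true := by decide +kernel
    exact this x hx

/-- the centraliser in the model -/
def KA : Subgroup MA := Subgroup.centralizer {uM}

theorem mem_KA {x : MA} : x ∈ KA ↔ x * uM = uM * x := Subgroup.mem_centralizer_singleton_iff

theorem card_BA : Nat.card BA = 4 := by
  show Nat.card {x : MA // inB x = true} = 4
  rw [Nat.card_eq_fintype_card, Fintype.card_subtype]
  decide +kernel

theorem card_Q8A : Nat.card Q8A = 8 := by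
  show Nat.card {x : MA // inQ8 x = true} = 8
  rw [Nat.card_eq_fintype_card, Fintype.card_subtype]
  decide +kernel

theorem card_KA : Nat.card KA = 32 := by
  rw [Nat.card_congr (Equiv.subtypeEquivRight (fun x => mem_KA) : KA ≃ {x : MA // x * uM = uM * x}),
    Nat.card_eq_fintype_card, Fintype.card_subtype]
  decide +kernel

theorem uM_facts : uM = repA 2 ∧ uM * uM = 1 ∧ uM ≠ 1 ∧ inW uM = true ∧ inW wM = false ∧ wM * wM = 1 ∧
    wM * uM = uM * wM ∧ isU uM = true ∧ inB uM = false ∧ tA * uM = uM * tA ∧ inW (MA.mk 1) = true ∧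
    inQ8 (MA.mk 1) = false ∧ isU (MA.mk 1) = true ∧ isU (uM * MA.mk 1) = true ∧ inR (MA.mk 31) = true := by
  decide +kernel

theorem W_facts : (∀ x : MA, inW x = true → x * uM = uM * x) ∧ (∀ x : MA, inQ8 x = true → inW x = true) ∧
    (∀ x : MA, inB x = true → inQ8 x = true) ∧ (∀ x : MA, x * uM = uM * x → inW x = true ∨ inW (wM * x) = true) ∧
    (∀ x : MA, inW x = true → ∀ y : MA, inW y = true → x * y = y * x) := by
  decide +kernel

theorem outer_facts : ∀ x : MA, x * uM = uM * x → inW x = false → x * x = 1 →
    (Finset.univ.filter fun y : MA => y * uM = uM * y ∧ y * x = x * y).card = 8 ∧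
      ∀ y : MA, y * uM = uM * y → y * x = x * y → isT' y = true → y = tA := by decide +kernel

theorem centre_KA : ∀ x : MA, x * uM = uM * x → (∀ y : MA, y * uM = uM * y → x * y = y * x) →
    isT' x = true → x = tA := by decide +kernel

theorem lab_UT : ∀ x : MA, x * x = 1 → x ≠ 1 → isU x = !isT' x := by decide +kernel

theorem lab_zero : ∀ x : MA, isU x = true ∨ isT' x = true → x * x = 1 ∧ x ≠ 1 := by decide +kernel

theorem split_two : (∀ x : MA, inQ8 x = true → ¬ (isU x = true ∧ isU (uM * x) = true)) ∧
    (∀ x : MA, inW x = true → isU x = true → isT' (uM * x) = true → inB x = true) ∧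
    (∀ x : MA, inB x = true → x ≠ 1 → isU x = true ∧ isT' (uM * x) = true) := by decide +kernel

theorem B_facts : (∀ k : MA, k * uM = uM * k → ∀ b : MA, inB b = true → inB (k * b * k⁻¹) = true) ∧
    (∀ b : MA, inB b = true → b ≠ 1 → isU (MA.mk 31 * b) = false) ∧
    (∀ x : MA, x * uM = uM * x → x ^ 4 = 1) ∧
    (∀ x : MA, inW x = true → ∃ r : MA, inR r = true ∧ ∃ b : MA, inB b = true ∧ r * b = x) := by decide +kernel

theorem case_A : ∀ k : MA, k * uM = uM * k → inB (k * k) = true →
    (∀ d : Fin 4, inB ((tA * k) ^ d.val * uM) = true → inB k = true) ∧ inB ((tA * k) ^ 4) = true := by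
  decide +kernel

theorem case_D : ∀ k : MA, k * uM = uM * k → inB (k * k) = true →
    (∀ d : Fin 4, inB ((tD * k) ^ d.val * uM) = true →
      inB (wM * k) = true ∨ inB (uM * wM * k) = true ∨ inB (MA.mk 31 * k) = true) ∧ inB ((tD * k) ^ 4) = true := by
  decide +kernel

theorem tD_facts : tD * uM = uM * tD ∧ isT' tD = true ∧ MA.mk 31 * MA.mk 31 = 1 ∧ MA.mk 31 * uM = uM * MA.mk 31 ∧
    (uM * wM) * (uM * wM) = 1 := by decide +kernel

theorem sum_bound :
    (∑ m : MA, if labA m = 2 then 15 else if labA m = 5 then 8 else 0) = 186 := by decide +kernel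

/-- three-cycle fixing the chosen involution -/
def a3 : alternatingGroup (Fin 8) := ⟨swap 5 6 * swap 5 7, Equiv.Perm.mem_alternatingGroup.2 (by decide +kernel)⟩
/-- conjugators of the representatives -/
def cR3 : alternatingGroup (Fin 8) := ⟨swap 1 2 * swap 5 6, Equiv.Perm.mem_alternatingGroup.2 (by decide +kernel)⟩
/-- conjugators of the representatives -/
def cR4 : alternatingGroup (Fin 8) := ⟨swap 1 3 * swap 5 6, Equiv.Perm.mem_alternatingGroup.2 (by decide +kernel)⟩
/-- conjugators of the representatives -/
def cR6 : alternatingGroup (Fin 8) := ⟨swap 1 3 * swap 1 2, Equiv.Perm.mem_alternatingGroup.2 (by decide +kernel)⟩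
/-- conjugators of the representatives -/
def cR5 : alternatingGroup (Fin 8) := ⟨swap 1 2 * swap 6 7, Equiv.Perm.mem_alternatingGroup.2 (by decide +kernel)⟩

theorem a3_facts : a3 ^ 3 = 1 ∧ a3 ≠ 1 ∧ a3 * emb8 uM = emb8 uM * a3 ∧
    a3 * emb8 (MA.mk 67) = emb8 (MA.mk 126) * a3 ∧ a3⁻¹ * emb8 (MA.mk 85) = emb8 (MA.mk 126) * a3⁻¹ := by
  decide +kernel

theorem cR_facts : cR3 * emb8 (repA 3) = emb8 (repA 1) * cR3 ∧ cR4 * emb8 (repA 4) = emb8 (repA 1) * cR4 ∧
    cR6 * emb8 (repA 6) = emb8 (repA 1) * cR6 ∧ cR5 * emb8 (repA 5) = emb8 (repA 2) * cR5 ∧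
    cR5 * emb8 tA = emb8 tD * cR5 := by decide +kernel

theorem R_char : ∀ x : MA, x * uM = uM * x → x * MA.mk 126 = MA.mk 126 * x → a3 * emb8 x = emb8 x * a3 →
    inR x = true := by decide +kernel

theorem inR_card : (Finset.univ.filter fun x : MA => inR x = true).card = 4 := by decide +kernel

end Cfsg.Lib.ExtraEight
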