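/-! Words in the three generators (machine generated). -/

set_option autoImplicit false

namespace Cfsg.Lib.ExtraEight

def genWords : List (List Nat) := [[], [0], [2], [2, 0], [2, 2], [0, 2], [4], [4, 0], [4, 2], [4, 2, 0], [4, 2, 2], [4, 0, 2], [2, 4, 2, 2], [2, 4, 0, 2], [2, 4], [2, 4, 0], [2, 4, 2], [2, 4, 2, 0], [2, 2, 4, 2], [2, 2, 4, 2, 0], [4, 2, 4], [4, 2, 4, 0], [2, 2, 4], [2, 2, 4, 0], [0, 4, 0, 4, 4], [0, 4, 4, 4], [0, 4, 0, 2, 4, 4], [0, 4, 2, 2, 4, 4], [0, 4, 2, 0, 4, 4], [0, 4, 2, 4, 4], [0, 4, 0, 4, 4, 4], [4, 0, 4, 4, 4], [0, 4, 0, 4, 2, 4, 4], [4, 0, 4, 2, 2, 4, 4], [4, 0, 4, 2, 0, 4, 4], [4, 0, 4, 2, 4, 4], [4, 0, 4, 2, 0, 4, 2], [2, 4, 0, 2, 4, 4, 4], [0, 4, 0, 2,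 4, 4, 4], [0, 4, 0, 2, 4, 0, 4, 4], [4, 0, 4, 2, 0, 4], [2, 4, 0, 4, 2, 2, 4], [2, 4, 0, 2, 4, 0, 4], [2, 4, 2, 2, 4, 0, 4], [0, 4, 0, 4, 2, 4, 4, 4], [0, 4, 0, 4, 2, 4, 0, 4, 4], [0, 4, 2, 0, 4, 4, 4], [0, 4, 2, 0, 4, 0, 4, 4], [0, 2, 4, 2, 2, 4, 0], [0, 2, 4, 2, 2, 4], [2, 0, 4, 0, 4, 4], [2, 0, 4, 4, 4], [0, 4, 2, 4, 0, 4, 4], [0, 4, 2, 4, 4, 4], [0, 2, 4, 2, 2, 4, 0, 4], [4, 0, 2, 4, 2, 2, 4], [4, 2, 0, 4, 0, 4, 4], [4, 2, 0, 4, 4, 4], [4, 0, 4, 2, 4, 0, 4, 4], [4, 0, 4, 2, 4, 4, 4], [2, 4, 0, 4, 2, 0, 4, 4], [2, 4, 0, 4, 2, 4, 4], [2, 0, 4, 0, 4, 4, 4], [2, 4, 0, 4, 4, 4], [4, 0, 4, 2, 4, 0, 4], [2, 4, 0, 4, 2, 2, 4, 4], [2, 4, 0, 4, 2, 0, 4], [0, 2, 4, 0, 4, 2, 0, 4], [2, 4, 0,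 4, 2, 0, 4, 2], [4, 2, 4, 0, 4, 4, 4], [0, 4, 2, 4, 0, 4, 4, 4], [0, 2, 4, 0, 4, 2, 0, 4, 2], [0, 2, 4, 0, 2, 4, 4], [0, 4, 2, 2, 4, 2], [0, 4, 2, 2, 4, 0], [0, 4, 2, 2, 4], [0, 2, 4, 0, 4, 4], [0, 2, 4, 4, 4], [0, 2, 4, 0, 2, 4, 4, 4], [4, 0, 4, 2, 2, 4, 2], [4, 0, 4, 2, 2, 4, 0], [4, 0, 4, 2, 2, 4], [4, 0, 2, 4, 0, 4, 4], [4, 0, 2, 4, 4, 4], [4, 0, 2, 4, 0, 4, 2], [0, 4, 0, 2, 4, 0, 4, 2], [0, 4, 2, 2, 4, 0, 4], [0, 4, 0, 2, 4, 0, 4], [4, 0, 2, 4, 0, 4], [4, 2, 2, 4, 0, 4], [0, 2, 4, 0, 4, 2, 4, 4], [0, 2, 4, 0, 4, 2, 0, 4, 4], [4, 0, 4, 2, 2, 4, 0, 4], [0, 4, 0, 4, 2, 4, 0, 4], [0, 2, 4, 0, 4, 4, 4], [2, 2, 4, 0, 4, 4, 4], [4, 4], [0, 4, 4], [2, 4, 4], [2, 0, 4, 4], [2, 2, 4, 4],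 [0, 2, 4, 4], [4, 4, 4], [4, 0, 4, 4], [4, 2, 4, 4], [4, 2, 0, 4, 4], [4, 2, 2, 4, 4], [4, 0, 2, 4, 4], [4, 2, 2, 4, 2], [2, 4, 0, 2, 4, 4], [2, 4, 4, 4], [2, 4, 0, 4, 4], [4, 2, 2, 4], [4, 2, 2, 4, 0], [2, 4, 2, 2, 4], [2, 4, 2, 2, 4, 0], [4, 2, 4, 4, 4], [4, 2, 4, 0, 4, 4], [2, 2, 4, 4, 4], [2, 2, 4, 0, 4, 4], [0, 4, 0], [0, 4], [0, 4, 0, 2], [0, 4, 2, 2], [0, 4, 2, 0], [0, 4, 2], [0, 4, 0, 4], [4, 0, 4], [0, 4, 0, 4, 2], [4, 0, 4, 2, 2], [4, 0, 4, 2, 0], [4, 0, 4, 2], [2, 4, 0, 2, 4, 0], [2, 4, 0, 2, 4], [0, 4, 0, 2, 4], [0, 4, 0, 2, 4, 0], [0, 4, 0, 2, 4, 2], [2, 4, 0, 2, 4, 2], [0, 4, 2, 0, 4, 2], [2, 2, 4, 2, 0, 4], [0, 4, 0, 4, 2, 4], [0, 4, 0, 4, 2, 4, 0], [0, 4, 2, 0, 4], [0,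 4, 2, 0, 4, 0], [2, 0, 4, 2, 0], [2, 0, 4, 2], [2, 0, 4, 0], [2, 0, 4], [0, 4, 2, 4, 0], [0, 4, 2, 4], [2, 0, 4, 2, 0, 4], [4, 2, 0, 4, 2], [4, 2, 0, 4, 0], [4, 2, 0, 4], [4, 0, 4, 2, 4, 0], [4, 0, 4, 2, 4], [2, 4, 0, 4, 2, 0], [2, 4, 0, 4, 2], [2, 0, 4, 0, 4], [2, 4, 0, 4], [2, 0, 4, 0, 4, 2], [2, 4, 0, 4, 2, 2], [0, 4, 2, 4, 0, 4, 2], [4, 2, 4, 0, 4, 2], [4, 2, 0, 4, 0, 4], [4, 2, 4, 0, 4], [0, 4, 2, 4, 0, 4], [0, 4, 2, 0, 4, 0, 4], [0, 2, 4, 0, 2], [0, 2, 4, 2, 2], [0, 2, 4, 2, 0], [0, 2, 4, 2], [0, 2, 4, 0], [0, 2, 4], [0, 2, 4, 0, 2, 4], [4, 0, 2, 4, 2, 2], [4, 0, 2, 4, 2, 0], [4, 0, 2, 4, 2], [4, 0, 2, 4, 0], [4, 0, 2, 4], [0, 2, 4, 0, 4, 2, 4], [2, 4, 0, 4, 2, 4], [0, 2, 4, 2,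 0, 4], [2, 4, 2, 0, 4, 2], [2, 4, 2, 0, 4, 0], [2, 4, 2, 0, 4], [0, 2, 4, 0, 4, 2], [0, 2, 4, 0, 4, 2, 0], [0, 2, 4, 0, 4, 2, 2], [2, 2, 4, 0, 4, 2], [0, 2, 4, 0, 4], [2, 2, 4, 0, 4]]

end Cfsg.Lib.ExtraEight
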