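import Cfsg.Agent.ExtraEight.Pres
import Cfsg.Agent.ExtraEight.Words
import Mathlib.GroupTheory.SpecificGroups.Alternating.Simple

/-!
The alternating group of degree eight satisfies the relations.
-/

set_option autoImplicit false
set_option linter.unusedSectionVars false
set_option linter.style.haveILetI false
set_option maxRecDepth 100000
set_option maxHeartbeats 1000000

namespace Cfsg.Lib.ExtraEight

open Subgroup

/-- image of a point -/
def embPt (x : MA) (i : Fin 8) : Fin 8 := ⟨get embTab 3 (x.val * 8 + i.val) % 8, Nat.mod_lt _ (by norm_num)⟩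

theorem embPt_inv : ∀ x : MA, ∀ i : Fin 8, embPt x⁻¹ (embPt x i) = i ∧ embPt x (embPt x⁻¹ i) = i := by decide +kernel

/-- the permutation of an element -/
def embPerm (x : MA) : Equiv.Perm (Fin 8) :=
  ⟨embPt x, embPt x⁻¹, fun i => (embPt_inv x i).1, fun i => (embPt_inv x i).2⟩

theorem embPt_mul : ∀ x y : MA, ∀ i : Fin 8, embPt (x * y) i = embPt x (embPt y i) := by decide +kernel

theorem embPt_faith : ∀ x : MA, (∀ i : Fin 8, embPt x i = i) → x = 1 := by decide +kernel

theorem embPerm_sign : ∀ x : MA, Equiv.Perm.sign (embPerm x) = 1 := by decide +kernel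

/-- the model in the alternating group -/
def emb8 : MA →* alternatingGroup (Fin 8) :=
  MonoidHom.mk' (fun x => ⟨embPerm x, Equiv.Perm.mem_alternatingGroup.2 (embPerm_sign x)⟩)
    fun x y => Subtype.ext (Equiv.ext fun i => embPt_mul x y i)

theorem emb8_inj : Function.Injective emb8 := (injective_iff_map_eq_one _).2 fun x hx => embPt_faith x fun i => by
  have := congrArg (fun σ : alternatingGroup (Fin 8) => (σ : Equiv.Perm (Fin 8)) i) hx
  exact this

/-- a point function as a map -/
def listPt (l : List ℕ) (i : Fin 8) : Fin 8 := ⟨l.getD i.val 0 % 8, Nat.mod_lt _ (by norm_num)⟩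

theorem g8_invol : ∀ i : Fin 8, listPt g8List (listPt g8List i) = i ∧ listPt h8List (listPt h8List i) = i := by
  decide +kernel

/-- first swap -/
def g8P : Equiv.Perm (Fin 8) := ⟨listPt g8List, listPt g8List, fun i => (g8_invol i).1, fun i => (g8_invol i).1⟩
/-- second swap -/
def h8P : Equiv.Perm (Fin 8) := ⟨listPt h8List, listPt h8List, fun i => (g8_invol i).2, fun i => (g8_invol i).2⟩

theorem gh8_sign : Equiv.Perm.sign g8P = 1 ∧ Equiv.Perm.sign h8P = 1 := by decide +kernel

/-- first swap -/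
def g8 : alternatingGroup (Fin 8) := ⟨g8P, Equiv.Perm.mem_alternatingGroup.2 gh8_sign.1⟩
/-- second swap -/
def h8 : alternatingGroup (Fin 8) := ⟨h8P, Equiv.Perm.mem_alternatingGroup.2 gh8_sign.2⟩

theorem g8_k : ∀ x : MA, x * uS false = uS false * x → ∀ i : Fin 8,
    g8P (embPt x (g8P i)) = embPt (imgS false x) i := by decide +kernel

theorem h8_k : ∀ x : MA, x * uS true = uS true * x → ∀ i : Fin 8,
    h8P (embPt x (h8P i)) = embPt (imgS true x) i := by decide +kernel

/-- the generators in the alternating group -/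
def gen8 : Gen (alternatingGroup (Fin 8)) where
  ψ := emb8
  g := g8
  h := h8
  gg := Subtype.ext (Equiv.ext fun i => (g8_invol i).1)
  hh := Subtype.ext (Equiv.ext fun i => (g8_invol i).2)
  gk := fun x hx => Subtype.ext (Equiv.ext fun i => g8_k x hx i)
  hk := fun x hx => Subtype.ext (Equiv.ext fun i => h8_k x hx i)

theorem gen8_rels : (gen8.g * gen8.h) ^ 3 = 1 ∧ (gen8.g * gen8.ψ (nS false)) ^ 3 = 1 ∧
    (gen8.h * gen8.ψ (nS true)) ^ 3 = 1 ∧ (gen8.g * gen8.ψ mA * gen8.h) ^ 2 = 1 := by decide +kernel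

theorem gen8_orders : orderOf ([2, 7, 6].map gen8.im).prod = 5 ∧ orderOf ([2, 6].map gen8.im).prod = 7 := by
  haveI : Fact (Nat.Prime 5) := ⟨by norm_num⟩
  haveI : Fact (Nat.Prime 7) := ⟨by norm_num⟩
  exact ⟨orderOf_eq_prime (by decide +kernel) (by decide +kernel), orderOf_eq_prime (by decide +kernel) (by decide +kernel)⟩

theorem gen_words : ∀ x : MA, lowA (genWords.getD x.val []) = true ∧ evA (genWords.getD x.val []) = x := by
  decide +kernel

theorem closure_gens : closure ({MA.mk 1, MA.mk 2, MA.mk 6} : Set MA) = ⊤ := by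
  refine (eq_top_iff' _).2 fun x => ?_
  rw [← (gen_words x).2, evA]
  refine list_prod_mem fun y hy => ?_
  obtain ⟨j, hj, rfl⟩ := List.mem_map.1 hy
  have h := (gen_words x).1
  simp only [lowA, List.all_eq_true, decide_eq_true_eq] at h
  have hj6 := h j hj
  have h1 : ∀ z, z ∈ ({MA.mk 1, MA.mk 2, MA.mk 6} : Set MA) → z ∈ closure ({MA.mk 1, MA.mk 2, MA.mk 6} : Set MA) :=
    fun z hz => subset_closure hz
  interval_cases j
  exacts [h1 _ (Or.inl rfl), inv_mem (h1 _ (Or.inl rfl)), h1 _ (Or.inr (Or.inl rfl)), inv_mem (h1 _ (Or.inr (Or.inl rfl))),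
    h1 _ (Or.inr (Or.inr rfl)), inv_mem (h1 _ (Or.inr (Or.inr rfl)))]

theorem a8_simple : IsSimpleGroup (alternatingGroup (Fin 8)) := alternatingGroup.isSimpleGroup (by simp)

theorem card_A8 : Nat.card (alternatingGroup (Fin 8)) = 20160 := by
  rw [nat_card_alternatingGroup, Nat.card_fin]
  rfl

theorem top_of_index {X : Subgroup (alternatingGroup (Fin 8))} (h : 6720 ∣ Nat.card X) : X = ⊤ := by
  haveI := a8_simple
  by_contra hX
  have hidx : X.index ≤ 3 := by
    have := X.card_mul_index
    rw [card_A8] at this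
    obtain ⟨k, hk⟩ := h
    rw [hk] at this
    rcases Nat.eq_zero_or_pos k with rfl | hk0
    · simp at this
    nlinarith
  rcases Subgroup.Normal.eq_bot_or_eq_top (H := X.normalCore) inferInstance with hc | hc
  · let π := MulAction.toPermHom (alternatingGroup (Fin 8)) (alternatingGroup (Fin 8) ⧸ X)
    have hinj : Function.Injective π := by
      rw [← MonoidHom.ker_eq_bot_iff, ← Subgroup.normalCore_eq_ker]; exact hc
    have h2 := Nat.card_le_card_of_injective π hinj
    rw [card_A8, Nat.card_perm, ← Subgroup.index_eq_card] at h2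
    have := Nat.factorial_le hidx
    norm_num [Nat.factorial] at this
    omega
  · exact hX (top_le_iff.1 (hc ▸ X.normalCore_le))

theorem gen8_top : gen8.L = ⊤ := by
  refine top_of_index ?_
  have hmem : ∀ l, l < 8 → gen8.im l ∈ gen8.L := fun l hl => subset_closure ⟨l, hl, rfl⟩
  have h64 : 192 ∣ Nat.card gen8.L := by
    have hle : emb8.range ≤ gen8.L := by
      rintro _ ⟨x, rfl⟩
      have hgen : ∀ x : MA, ∃ w : List ℕ, lowA w = true ∧ evA w = x := fun x => ⟨_, gen_words x⟩
      obtain ⟨w, hw, rfl⟩ := hgen x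
      rw [show emb8 (evA w) = (w.map fun j => emb8 (gsA.getD j 1)).prod by
        simp [evA, map_list_prod, List.map_map, Function.comp_def]]
      refine list_prod_mem fun y hy => ?_
      obtain ⟨j, hj, rfl⟩ := List.mem_map.1 hy
      have hj6 : j < 6 := by
        simp only [lowA, List.all_eq_true, decide_eq_true_eq] at hw
        exact hw j hj
      have := hmem j (by omega)
      interval_cases j <;> exact this
    have := Subgroup.card_dvd_of_le hle
    rwa [← Nat.card_congr (MonoidHom.ofInjective emb8_inj).toEquiv, card_MA] at this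
  have hord : ∀ w : List ℕ, (∀ l ∈ w, l < 8) → orderOf (w.map gen8.im).prod ∣ Nat.card gen8.L := fun w hw =>
    Subgroup.orderOf_dvd_natCard _ (list_prod_mem fun y hy => by
      obtain ⟨j, hj, rfl⟩ := List.mem_map.1 hy
      exact hmem j (hw j hj))
  obtain ⟨o5, o7⟩ := gen8_orders
  have h5 := o5 ▸ hord [2, 7, 6] (by simp)
  have h7 := o7 ▸ hord [2, 6] (by simp)
  exact Nat.Coprime.mul_dvd_of_dvd_of_dvd (m := 35) (n := 192) (by norm_num)
    (Nat.Coprime.mul_dvd_of_dvd_of_dvd (by norm_num) h5 h7) h64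

variable {G : Type*} [Group G] [Finite G]

namespace ASetting

variable (S : ASetting G)

/-- the alternating subgroup containing the centraliser -/
theorem exists_alt (hP : S.Pattern) :
    ∃ f : alternatingGroup (Fin 8) →* G, Function.Injective f ∧ ∀ x, f (emb8 x) = S.φ x := by
  obtain ⟨g, h, hg, hh, hgh⟩ := S.exists_pair hP
  obtain ⟨i, hi⟩ := S.square_eq hg hh
  let B : Gen G := ⟨S.φ, g, h, hg.1, hh.1, hg.2, hh.2⟩
  have hout : B.g ∉ B.ψ.range := by
    rintro ⟨m, hm⟩
    have h1 := hg.el_img 1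
    have hz : app (actS false) 1 = 8 := by decide +kernel
    rw [hz, el_zero.2] at h1
    change g * S.t * g = _ at h1
    rw [← show S.φ m = g from hm, S.φ_comm, show S.φ m = g from hm, mul_assoc, hg.1, mul_one] at h1
    exact absurd (S.inj h1) (by decide +kernel)
  obtain ⟨g1, h1, rfl⟩ := B.closed_case hgh (S.cube_eq hg) (S.cube_eq hh) hi hout
  rw [show MA.mk (w2C.getD (0 : Fin 4).val 0) = 1 from rfl, map_one] at hi
  obtain ⟨q1, q2, q3, q4⟩ := gen8_rels
  let A : Gen (alternatingGroup (Fin 8) × G) :=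
    { ψ := emb8.prod S.φ
      g := (g8, g)
      h := (h8, h)
      gg := Prod.ext gen8.gg hg.1
      hh := Prod.ext gen8.hh hh.1
      gk := fun x hx => Prod.ext (gen8.gk x hx) (hg.2 x hx)
      hk := fun x hx => Prod.ext (gen8.hk x hx) (hh.2 x hx) }
  have hcard : Nat.card A.L ≤ 20160 :=
    A.card_L (Prod.ext q1 hgh) (Prod.ext q2 g1) (Prod.ext q3 h1) (Prod.ext q4 hi)
  let p : A.L →* alternatingGroup (Fin 8) := (MonoidHom.fst _ G).comp A.L.subtype
  have him : ∀ l, l < 8 → (A.im l).1 = gen8.im l := fun l hl => by interval_cases l <;> rfl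
  have hp : Function.Surjective p := by
    rw [← MonoidHom.range_eq_top, MonoidHom.range_comp, range_subtype, eq_top_iff, ← gen8_top, Gen.L, closure_le]
    rintro _ ⟨l, hl, rfl⟩
    exact ⟨A.im l, subset_closure ⟨l, hl, rfl⟩, him l hl⟩
  have hge := Nat.card_le_card_of_surjective p hp
  rw [card_A8] at hge
  have hpb : Function.Bijective p :=
    (Nat.bijective_iff_surjective_and_card p).2 ⟨hp, by rw [card_A8]; omega⟩
  let q : alternatingGroup (Fin 8) ≃* A.L := (MulEquiv.ofBijective p hpb).symm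
  let f : alternatingGroup (Fin 8) →* G := (MonoidHom.snd _ G).comp (A.L.subtype.comp q.toMonoidHom)
  have hmemψ : ∀ x, (emb8 x, S.φ x) ∈ A.L := by
    have hle : closure ({MA.mk 1, MA.mk 2, MA.mk 6} : Set MA) ≤ A.L.comap A.ψ := by
      rw [closure_le]
      rintro y (rfl | rfl | rfl)
      exacts [subset_closure ⟨0, by norm_num, rfl⟩, subset_closure ⟨2, by norm_num, rfl⟩,
        subset_closure ⟨4, by norm_num, rfl⟩]
    exact fun x => hle (closure_gens ▸ mem_top x)
  have hf : ∀ x, f (emb8 x) = S.φ x := fun x => by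
    have hq : q (emb8 x) = ⟨_, hmemψ x⟩ := (MulEquiv.ofBijective p hpb).symm_apply_eq.2 rfl
    show ((q (emb8 x) : A.L) : alternatingGroup (Fin 8) × G).2 = _
    rw [hq]
  refine ⟨f, ?_, hf⟩
  haveI := a8_simple
  rw [← MonoidHom.ker_eq_bot_iff]
  refine (Subgroup.Normal.eq_bot_or_eq_top (H := f.ker) inferInstance).resolve_right fun hk => ?_
  have h0 : f (emb8 tA) = 1 := MonoidHom.mem_ker.1 (hk ▸ mem_top _)
  rw [hf] at h0
  exact Cfsg.Lib.InvolCalc.ne_one_of_order_two S.t_order h0

end ASetting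

end Cfsg.Lib.ExtraEight
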