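import Cfsg.Agent.ExtraEight.FusionFacts
import Cfsg.Agent.ExtraEight.NormalEight

/-!
Fusion in the centraliser of alternating type.
-/

set_option autoImplicit false
set_option linter.unusedSectionVars false
set_option linter.style.haveILetI false
set_option maxRecDepth 10000

namespace Cfsg.Lib.ExtraEight

open Subgroup

/-- the setting of alternating type -/
structure ASetting (G : Type*) [Group G] where
  /-- the centraliser -/
  φ : MA →* G
  inj : Function.Injective φ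
  range_eq : φ.range = centralizer {φ tA}

/-- the subgroup of order sixteen of the model -/
def WA : Subgroup MA where
  carrier := {x | inW x = true}
  one_mem' := List.any_eq_true.2 ⟨0, List.mem_finRange _, by simp [el_zero.1]⟩
  mul_mem' := fun {x y} hx hy => by
    obtain ⟨a, -, ha⟩ := List.any_eq_true.1 hx
    obtain ⟨b, -, hb⟩ := List.any_eq_true.1 hy
    exact List.any_eq_true.2 ⟨vadd a b, List.mem_finRange _, by
      simp only [beq_iff_eq] at ha hb ⊢; rw [el_xor, ha, hb]⟩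
  inv_mem' := fun {x} hx => by
    obtain ⟨a, -, ha⟩ := List.any_eq_true.1 hx
    exact List.any_eq_true.2 ⟨a, List.mem_finRange _, by
      simp only [beq_iff_eq] at ha ⊢; rw [← ha]; exact (inv_eq_of_mul_eq_one_right (el_sq a)).symm⟩

theorem mem_WA {x : MA} : x ∈ WA ↔ ∃ m, el m = x := by
  show inW x = true ↔ _
  simp [inW]

theorem card_WA : Nat.card WA = 16 := by
  rw [← Nat.card_fin 16]
  exact (Nat.card_congr (Equiv.ofBijective (fun m : Fin 16 => (⟨el m, mem_WA.2 ⟨m, rfl⟩⟩ : WA))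
    ⟨fun a b h => el_inj a b (congrArg Subtype.val h), fun x => by
      obtain ⟨m, hm⟩ := mem_WA.1 x.2; exact ⟨m, Subtype.ext hm⟩⟩)).symm

/-- the Sylow subgroup of the model -/
def SA : Subgroup MA where
  carrier := {x | inSA x = true}
  one_mem' := inSA_closed.1
  mul_mem' := fun {x y} hx hy => inSA_closed.2.1 x hx y hy
  inv_mem' := fun {x} hx => inSA_closed.2.2.1 x hx

theorem card_SA : Nat.card SA = 64 := by
  show Nat.card {x : MA // inSA x = true} = 64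
  rw [Nat.card_eq_fintype_card, Fintype.card_subtype]
  exact inSA_closed.2.2.2

/-- the Sylow subgroup of the model, bundled -/
noncomputable def PA : Sylow 2 MA :=
  haveI : Fact (Nat.Prime 2) := ⟨Nat.prime_two⟩
  Sylow.ofCard SA (by
    rw [card_SA, card_MA, show (192 : ℕ) = 2 ^ 6 * 3 by norm_num, Nat.factorization_mul (by norm_num) (by norm_num),
      Nat.Prime.factorization_pow Nat.prime_two, Nat.Prime.factorization Nat.prime_three]
    simp)

theorem conj_into_W (K : Subgroup MA) (hK : Nat.card K = 16) (hK2 : ∀ x ∈ K, x * x = 1) :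
    ∃ l : MA, ∀ x ∈ K, l * x * l⁻¹ ∈ WA := by
  haveI : Fact (Nat.Prime 2) := ⟨Nat.prime_two⟩
  obtain ⟨P, hP⟩ := (IsPGroup.of_card (p := 2) (G := K) (n := 4) (by rw [hK]; norm_num)).exists_le_sylow
  obtain ⟨l, hl⟩ := MulAction.exists_smul_eq MA P PA
  refine ⟨l, fun x hx => ?_⟩
  have hS : ∀ y ∈ K, inSA (l * y * l⁻¹) = true := fun y hy => by
    have : l * y * l⁻¹ ∈ ((l • P : Sylow 2 MA) : Subgroup MA) := by
      rw [Sylow.coe_subgroup_smul, Subgroup.mem_pointwise_smul_iff_inv_smul_mem]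
      simpa [MulAut.smul_def, mul_assoc] using hP hy
    rw [hl] at this
    exact this
  by_contra hW
  have hW' : inW (l * x * l⁻¹) = false := Bool.eq_false_iff.2 hW
  have hsq : ∀ y ∈ K, l * y * l⁻¹ * (l * y * l⁻¹) = 1 := fun y hy => by
    rw [show l * y * l⁻¹ * (l * y * l⁻¹) = l * (y * y) * l⁻¹ by group, hK2 y hy]; group
  have h := w_unique _ (hS x hx) (hsq x hx) hW'
  have hle : 16 ≤ (Finset.univ.filter fun z : MA =>
      inSA z = true ∧ z * z = 1 ∧ z * (l * x * l⁻¹) = l * x * l⁻¹ * z).card := by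
    rw [← hK, ← Fintype.card_subtype, ← Nat.card_eq_fintype_card]
    refine Nat.card_le_card_of_injective (fun y : K => ⟨l * y * l⁻¹, hS _ y.2, hsq _ y.2, ?_⟩) fun a b hab => ?_
    · have hxy : (y : MA) * x = x * y := by
        have hi : ∀ z ∈ K, z⁻¹ = z := fun z hz => inv_eq_of_mul_eq_one_right (hK2 z hz)
        calc (y : MA) * x = ((y : MA) * x)⁻¹ := (hi _ (mul_mem y.2 hx)).symm
          _ = x * y := by rw [mul_inv_rev, hi x hx, hi y y.2]
      calc l * y * l⁻¹ * (l * x * l⁻¹) = l * (y * x) * l⁻¹ := by group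
        _ = l * (x * y) * l⁻¹ := by rw [hxy]
        _ = _ := by group
    · exact Subtype.ext (mul_left_cancel (mul_right_cancel (congrArg Subtype.val hab)))
  omega

theorem el_bitv (b : Bool) (a : Fin 16) : el (bitv b a) = if b then el a else 1 := by
  cases b <;> simp [bitv, el_zero.1]

theorem el_app (g : L4) (m : Fin 16) : el (app g m) =
    (if m.val.testBit 0 then el g.1 else 1) * (if m.val.testBit 1 then el g.2.1 else 1) *
      (if m.val.testBit 2 then el g.2.2.1 else 1) * (if m.val.testBit 3 then el g.2.2.2 else 1) := by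
  simp only [app, el_xor, el_bitv]

variable {G : Type*} [Group G] [Finite G]

namespace ASetting

variable (S : ASetting G)

/-- the involution -/
def t : G := S.φ tA

theorem mem_iff {x : G} : x * S.t = S.t * x ↔ ∃ m, S.φ m = x := by
  have h : x ∈ S.φ.range ↔ ∃ m, S.φ m = x := Iff.rfl
  rw [← h, S.range_eq, mem_centralizer_singleton_iff]
  rfl

theorem φ_comm (m : MA) : S.φ m * S.t = S.t * S.φ m := by
  rw [t, ← map_mul, ← map_mul, tA_facts.1 m]

theorem order_φ {m : MA} (h1 : m * m = 1) (h2 : m ≠ 1) : orderOf (S.φ m) = 2 :=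
  Cfsg.Lib.InvolCalc.order_two_of_mul_self (by rw [← map_mul, h1, map_one])
    fun e => h2 (S.inj (e.trans (map_one _).symm))

theorem t_order : orderOf S.t = 2 := S.order_φ tA_facts.2.1 tA_facts.2.2.1

/-- conjugate to the involution -/
def IsT (x : G) : Prop := IsConj S.t x

theorem φ_invol {m : MA} (hm : orderOf (S.φ m) = 2) : m * m = 1 ∧ m ≠ 1 :=
  ⟨S.inj (by rw [map_mul, map_one]; exact Cfsg.Lib.InvolCalc.sq_of_order_two hm),
    fun h => Cfsg.Lib.InvolCalc.ne_one_of_order_two hm (by rw [h, map_one])⟩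

theorem isT_order {x : G} (h : S.IsT x) : orderOf x = 2 :=
  Cfsg.Lib.HallJankoType.order_two_of_conj S.t_order h

/-- the class of a label is the class of the involution -/
def PT (k : ℕ) : Prop := S.IsT (S.φ (repA k))

theorem isT_iff {x : MA} (h1 : x * x = 1) (h2 : x ≠ 1) : S.IsT (S.φ x) ↔ S.PT (labA x) := by
  obtain ⟨-, -, hc, -, -⟩ := labA_invol x h1 h2
  have : IsConj (S.φ x) (S.φ (repA (labA x))) :=
    isConj_iff.2 ⟨S.φ (cwA x), by rw [← map_inv, ← map_mul, ← map_mul, hc]⟩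
  exact ⟨fun h => h.trans this, fun h => IsConj.trans h this.symm⟩

/-- realised by conjugation -/
def Real (g : L4) : Prop :=
  ∃ n : G, ∀ m : Fin 16, n * S.φ (el m) * n⁻¹ = S.φ (el (app g m))

theorem real_basis {n : G} {g : L4} (h1 : n * S.φ (el 1) * n⁻¹ = S.φ (el g.1))
    (h2 : n * S.φ (el 2) * n⁻¹ = S.φ (el g.2.1)) (h3 : n * S.φ (el 4) * n⁻¹ = S.φ (el g.2.2.1))
    (h4 : n * S.φ (el 8) * n⁻¹ = S.φ (el g.2.2.2)) : S.Real g := by
  refine ⟨n, fun m => ?_⟩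
  let ψ : MA →* G := (MulAut.conj n).toMonoidHom.comp S.φ
  have e : el m = el (app idL m) := by rw [app_id]
  show ψ (el m) = _
  rw [e, el_app, el_app, map_mul, map_mul, map_mul, map_mul, map_mul, map_mul]
  have hb : ∀ (b : Bool) (a a' : Fin 16), n * S.φ (el a) * n⁻¹ = S.φ (el a') →
      ψ (if b then el a else 1) = S.φ (if b then el a' else 1) := fun b a a' h => by
    cases b
    · simp
    · exact h
  simp only [idL]
  rw [hb _ _ _ h1, hb _ _ _ h2, hb _ _ _ h3, hb _ _ _ h4]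

theorem real_id : S.Real idL := ⟨1, fun m => by rw [app_id]; simp⟩

theorem real_comp {g h : L4} (hg : S.Real g) (hh : S.Real h) : S.Real (comp g h) := by
  obtain ⟨n, hn⟩ := hg
  obtain ⟨k, hk⟩ := hh
  have key : ∀ j a, app h j = a → n * k * S.φ (el j) * (n * k)⁻¹ = S.φ (el (app g a)) := fun j a e => by
    rw [← hn, ← e, ← hk]; group
  have hb : app h 1 = h.1 ∧ app h 2 = h.2.1 ∧ app h 4 = h.2.2.1 ∧ app h 8 = h.2.2.2 := by
    obtain ⟨a, b, c, d⟩ := h
    have hz : ∀ x : Fin 16, vadd 0 x = x ∧ vadd x 0 = x := by decide +kernel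
    refine ⟨?_, ?_, ?_, ?_⟩ <;> simp [app, bitv, Nat.testBit, hz]
  exact S.real_basis (n := n * k) (key 1 _ hb.1) (key 2 _ hb.2.1) (key 4 _ hb.2.2.1) (key 8 _ hb.2.2.2)

theorem real_sbar {g : L4} (hg : g ∈ sbar) : S.Real g := by
  obtain ⟨i, hi, rfl⟩ := List.getElem_of_mem hg
  obtain ⟨w1, w2, w3, w4⟩ := sbar_wit ⟨i, sbar_len ▸ hi⟩
  rw [List.getD_eq_getElem _ _ hi] at w1 w2 w3 w4
  exact S.real_basis (n := S.φ (MA.mk (sbarWit.getD i 0))) (by rw [← map_inv, ← map_mul, ← map_mul, w1])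
    (by rw [← map_inv, ← map_mul, ← map_mul, w2]) (by rw [← map_inv, ← map_mul, ← map_mul, w3])
    (by rw [← map_inv, ← map_mul, ← map_mul, w4])

theorem real_inj {g : L4} (hg : S.Real g) {m : Fin 16} (hm : app g m = 0) : m = 0 := by
  obtain ⟨n, hn⟩ := hg
  refine el_inj m 0 ?_
  have := hn m
  rw [hm, el_zero.1, map_one, conj_eq_one_iff, ← map_one S.φ] at this
  rw [el_zero.1]
  exact S.inj this

theorem real_kill {g : L4} (hg : S.Real g) : killB g = false := by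
  rw [Bool.eq_false_iff]
  intro hk
  simp only [killB, Bool.and_eq_true, beq_iff_eq, Bool.not_eq_true', List.contains_iff_mem] at hk
  obtain ⟨h1, h2⟩ := hk
  obtain ⟨n, hn⟩ := hg
  have hb : app g 1 = g.1 ∧ app g 2 = g.2.1 ∧ app g 4 = g.2.2.1 ∧ app g 8 = g.2.2.2 := by
    obtain ⟨a, b, c, d⟩ := g
    have hz : ∀ x : Fin 16, vadd 0 x = x ∧ vadd x 0 = x := by decide +kernel
    refine ⟨?_, ?_, ?_, ?_⟩ <;> simp [app, bitv, Nat.testBit, hz]
  obtain ⟨l, hl⟩ := S.mem_iff.1 (show n * S.t = S.t * n by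
    have := hn 1
    rw [hb.1, h1, el_zero.2] at this
    exact mul_inv_eq_iff_eq_mul.1 this)
  have hv : ∀ j a, app g j = a → l * el j * l⁻¹ = el a := fun j a e => S.inj (by
    rw [map_mul, map_mul, map_inv, hl, hn, e])
  have hw : ∀ a, inW (el a) = true := fun a => mem_WA.2 ⟨a, rfl⟩
  have h := w_stab l (by rw [hv 1 _ hb.1]; exact hw _) (by rw [hv 2 _ hb.2.1]; exact hw _)
    (by rw [hv 4 _ hb.2.2.1]; exact hw _) (by rw [hv 8 _ hb.2.2.2]; exact hw _)
  obtain ⟨s, hs, hse⟩ := List.any_eq_true.1 h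
  simp only [Bool.and_eq_true, beq_iff_eq] at hse
  obtain ⟨⟨⟨e1, e2⟩, e3⟩, e4⟩ := hse
  have heq : g = s := by
    obtain ⟨a, b, c, d⟩ := g
    obtain ⟨a', b', c', d'⟩ := s
    rw [hv 1 _ hb.1] at e1
    rw [hv 2 _ hb.2.1] at e2
    rw [hv 4 _ hb.2.2.1] at e3
    rw [hv 8 _ hb.2.2.2] at e4
    exact (Prod.ext (el_inj _ _ e1) (Prod.ext (el_inj _ _ e2) (Prod.ext (el_inj _ _ e3) (el_inj _ _ e4)))).symm
  exact absurd (List.contains_iff_mem.2 (heq ▸ hs)) (by simpa using h2)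

theorem real_eval {gens : List L4} (h : ∀ g ∈ gens, S.Real g) (w : List ℕ) : S.Real (evalW gens w) := by
  unfold evalW
  have : ∀ (w : List ℕ) (r : L4), S.Real r → S.Real (w.foldl (fun r i => comp r (gens.getD i idL)) r) := by
    intro w
    induction w with
    | nil => intro r hr; exact hr
    | cons i w ih =>
      intro r hr
      refine ih _ (S.real_comp hr ?_)
      rcases lt_or_ge i gens.length with hi | hi
      · rw [List.getD_eq_getElem _ _ hi]; exact h _ (List.getElem_mem hi)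
      · rw [List.getD_eq_default _ _ hi]; exact S.real_id
  exact this w _ S.real_id

theorem real_fused {g : L4} (hg : S.Real g) (h0 : g.1 ≠ 0) : S.PT (labV g.1) := by
  obtain ⟨a1, a2⟩ := labA_zero (el g.1) (by have := (labV_pos g.1 h0).1; unfold labV at this; omega)
  obtain ⟨n, hn⟩ := hg
  refine (S.isT_iff a1 a2).1 (isConj_iff.2 ⟨n, ?_⟩)
  have := hn 1
  rw [el_zero.2] at this
  rw [show g.1 = app g 1 by
    have hz : ∀ x : Fin 16, vadd 0 x = x ∧ vadd x 0 = x := by decide +kernel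
    obtain ⟨a, b, c, d⟩ := g
    simp [app, bitv, Nat.testBit, hz]]
  exact this

theorem exists_norm {a : Fin 16} (hT : S.IsT (S.φ (el a))) :
    ∃ g : L4, g.1 = a ∧ S.Real g := by
  obtain ⟨g, hg⟩ := isConj_iff.1 hT
  have hpre : ∀ w ∈ WA, ∃ k, S.φ k = g⁻¹ * S.φ w * g := fun w hw => by
    obtain ⟨b, rfl⟩ := mem_WA.1 hw
    refine S.mem_iff.1 ?_
    have hc : S.φ (el b) * S.φ (el a) = S.φ (el a) * S.φ (el b) := by rw [← map_mul, el_comm, map_mul]
    rw [← hg] at hc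
    calc g⁻¹ * S.φ (el b) * g * S.t = g⁻¹ * (S.φ (el b) * (g * S.t * g⁻¹)) * g := by group
      _ = g⁻¹ * (g * S.t * g⁻¹ * S.φ (el b)) * g := by rw [hc]
      _ = _ := by group
  choose f hf using hpre
  let F : WA →* MA := MonoidHom.mk' (fun w => f w w.2) fun u v => S.inj (by
    rw [map_mul, hf, hf, hf, Subgroup.coe_mul, map_mul]; group)
  have hF : Function.Injective F := fun u v h => Subtype.ext (S.inj (by
    have := congrArg S.φ h
    simp only [F, MonoidHom.mk'_apply, hf] at this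
    exact mul_left_cancel (mul_right_cancel this)))
  obtain ⟨l, hl⟩ := conj_into_W F.range (by rw [← card_WA]; exact (Nat.card_congr (MonoidHom.ofInjective hF).toEquiv).symm) (by
    rintro _ ⟨⟨w, hw⟩, rfl⟩
    obtain ⟨b, rfl⟩ := mem_WA.1 hw
    rw [← map_mul, show (⟨el b, hw⟩ * ⟨el b, hw⟩ : WA) = 1 from Subtype.ext (el_sq b), map_one])
  have hback : ∀ b : Fin 16, ∃ c : Fin 16, g * (S.φ l)⁻¹ * S.φ (el b) * (g * (S.φ l)⁻¹)⁻¹ = S.φ (el c) := by
    let τ : WA → WA := fun w => ⟨l * F w * l⁻¹, hl _ ⟨w, rfl⟩⟩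
    have hτ : Function.Surjective τ := Finite.injective_iff_surjective.1 fun u v h => hF
      (mul_left_cancel (mul_right_cancel (congrArg Subtype.val h)))
    intro b
    obtain ⟨⟨w, hw⟩, hwb⟩ := hτ ⟨el b, mem_WA.2 ⟨b, rfl⟩⟩
    obtain ⟨c, rfl⟩ := mem_WA.1 hw
    refine ⟨c, ?_⟩
    have hwb' : el b = l * f (el c) hw * l⁻¹ := (congrArg Subtype.val hwb).symm
    rw [hwb', map_mul, map_mul, map_inv, hf]
    group
  choose c hc using hback
  refine ⟨(c 1, c 2, c 4, c 8), ?_, S.real_basis (hc 1) (hc 2) (hc 4) (hc 8)⟩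
  refine el_inj _ _ (S.inj ?_)
  show S.φ (el (c 1)) = _
  rw [← hc, el_zero.2, ← hg]
  show g * (S.φ l)⁻¹ * S.t * (g * (S.φ l)⁻¹)⁻¹ = _
  calc g * (S.φ l)⁻¹ * S.t * (g * (S.φ l)⁻¹)⁻¹ = g * ((S.φ l)⁻¹ * (S.t * S.φ l)) * g⁻¹ := by group
    _ = _ := by rw [← S.φ_comm, inv_mul_cancel_left]

theorem exists_cand (c : Fin 5) (h : S.PT (c.val + 2)) : ∃ g ∈ cand c, S.Real g := by
  obtain ⟨g, hg0, hg⟩ := S.exists_norm (a := uV c) (by rw [(uV_spec c).1]; exact h)
  obtain ⟨g0, g1, g2, g3⟩ := g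
  obtain rfl : g0 = uV c := hg0
  have hne : ∀ m : Fin 16, m ≠ 0 → app (uV c, g1, g2, g3) m ≠ 0 := fun m hm e => hm (S.real_inj hg e)
  have hz : ∀ x : Fin 16, vadd 0 x = x ∧ vadd x 0 = x := by decide +kernel
  have n1 : g1 ≠ 0 := by simpa [app, bitv, Nat.testBit, hz] using hne 2 (by decide)
  have n2 : g2 ≠ 0 := by simpa [app, bitv, Nat.testBit, hz] using hne 4 (by decide)
  have n3 : g3 ≠ 0 := by simpa [app, bitv, Nat.testBit, hz] using hne 8 (by decide)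
  have hv : ∀ x : Fin 16, x ≠ 0 → 1 ≤ x.val := fun x hx => Nat.pos_of_ne_zero fun e => hx (Fin.ext e)
  obtain ⟨a, ha⟩ : ∃ a : Fin 15, Fin.ofNat 16 (a.val + 1) = g1 :=
    ⟨⟨g1.val - 1, by omega⟩, Fin.ext (by have := hv _ n1; simp [Fin.ofNat]; omega)⟩
  obtain ⟨b, hb⟩ : ∃ a : Fin 15, Fin.ofNat 16 (a.val + 1) = g2 :=
    ⟨⟨g2.val - 1, by omega⟩, Fin.ext (by have := hv _ n2; simp [Fin.ofNat]; omega)⟩
  obtain ⟨d, hd⟩ : ∃ a : Fin 15, Fin.ofNat 16 (a.val + 1) = g3 :=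
    ⟨⟨g3.val - 1, by omega⟩, Fin.ext (by have := hv _ n3; simp [Fin.ofNat]; omega)⟩
  have h1 := single_ok c a b d
  simp only [singleOK, ha, hb, hd, Bool.or_eq_true] at h1
  rcases h1 with h1 | h1
  · obtain ⟨m, -, hm⟩ := List.any_eq_true.1 h1
    simp only [Bool.and_eq_true, bne_iff_ne, beq_iff_eq] at hm
    exact absurd hm.2 (hne m hm.1)
  have hr := S.real_eval (gens := (uV c, g1, g2, g3) :: sbar.tail) (fun x hx => by
    rcases List.mem_cons.1 hx with rfl | hx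
    exacts [hg, S.real_sbar (List.mem_of_mem_tail hx)])
    (decode 12 (get (((singleTab.getD c.val []).getD a.val 0)) 20 (b.val * 15 + d.val)))
  rcases h1 with h1 | h1
  · rw [S.real_kill hr] at h1; exact absurd h1 Bool.false_ne_true
  · exact ⟨_, List.contains_iff_mem.1 h1, hr⟩

theorem pair_fact {c d : Fin 5} {cert : List (List ℕ)} {good : ℕ → Bool} (hok : pairOK c d cert good = true)
    (hc : S.PT (c.val + 2)) (hd : S.PT (d.val + 2)) : ∃ k, good k = true ∧ S.PT k := by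
  obtain ⟨g, hg, hgr⟩ := S.exists_cand c hc
  obtain ⟨h, hh, hhr⟩ := S.exists_cand d hd
  obtain ⟨i, hi, rfl⟩ := List.getElem_of_mem hg
  obtain ⟨j, hj, rfl⟩ := List.getElem_of_mem hh
  simp only [pairOK, List.all_eq_true, List.mem_range, Bool.or_eq_true] at hok
  have h1 := hok i hi j hj
  rw [List.getD_eq_getElem _ _ hi, List.getD_eq_getElem _ _ hj] at h1
  set r := evalW ((cand c)[i] :: (cand d)[j] :: sbar.tail) (cert.getD (i * (cand d).length + j) [])
  have hr : S.Real r := S.real_eval (fun x hx => by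
    rcases List.mem_cons.1 hx with rfl | hx
    · exact hgr
    rcases List.mem_cons.1 hx with rfl | hx
    exacts [hhr, S.real_sbar (List.mem_of_mem_tail hx)]) _
  rcases h1 with h1 | h1
  · rw [S.real_kill hr] at h1; exact absurd h1 Bool.false_ne_true
  refine ⟨_, h1, S.real_fused hr fun e => ?_⟩
  have hz : ∀ x : Fin 16, vadd 0 x = x ∧ vadd x 0 = x := by decide +kernel
  have : app r 1 = 0 := by rw [← e]; simp [app, bitv, Nat.testBit, hz]
  exact absurd (S.real_inj hr this) (by decide)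

theorem not_three : ¬ (S.PT 2 ∧ S.PT 3 ∧ S.PT 4) := by
  rintro ⟨ha, hb, hc⟩
  obtain ⟨g, hg, hgr⟩ := S.exists_cand 0 ha
  obtain ⟨h, hh, hhr⟩ := S.exists_cand 1 hb
  obtain ⟨k, hk, hkr⟩ := S.exists_cand 2 hc
  obtain ⟨i, hi, rfl⟩ := List.getElem_of_mem hg
  obtain ⟨j, hj, rfl⟩ := List.getElem_of_mem hh
  obtain ⟨l, hl, rfl⟩ := List.getElem_of_mem hk
  obtain ⟨hok, l0, l1, l2⟩ := triple_ok
  simp only [tripleOK, List.all_eq_true, List.mem_range] at hok
  have h1 := hok i (l0 ▸ hi) j (l1 ▸ hj) l (l2 ▸ hl)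
  rw [List.getD_eq_getElem _ _ hi, List.getD_eq_getElem _ _ hj, List.getD_eq_getElem _ _ hl, S.real_kill] at h1
  · exact Bool.false_ne_true h1
  refine S.real_eval (fun x hx => ?_) _
  rcases List.mem_cons.1 hx with rfl | hx
  · exact hgr
  rcases List.mem_cons.1 hx with rfl | hx
  · exact hhr
  rcases List.mem_cons.1 hx with rfl | hx
  exacts [hkr, S.real_sbar (List.mem_of_mem_tail hx)]

theorem fusion_facts : (S.PT 2 → S.PT 5 ∨ S.PT 6 → S.PT 3 ∨ S.PT 4) ∧ (S.PT 3 → S.PT 5 ∨ S.PT 6 → S.PT 2 ∨ S.PT 4) ∧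
    (S.PT 4 → S.PT 5 ∨ S.PT 6 → S.PT 2 ∨ S.PT 3) ∧
    (S.PT 2 ∧ S.PT 3 ∨ S.PT 2 ∧ S.PT 4 ∨ S.PT 3 ∧ S.PT 4 → S.PT 5 ∨ S.PT 6) ∧ ¬ (S.PT 5 ∧ S.PT 6) := by
  obtain ⟨p1, p2, p3, p4, p5, p6, p7, p8, p9, p10⟩ := pair_ok
  have two : ∀ {a b k : ℕ}, (k == a || k == b) = true → S.PT k → S.PT a ∨ S.PT b := fun h hk => by
    simp only [Bool.or_eq_true, beq_iff_eq] at h
    rcases h with rfl | rfl
    exacts [Or.inl hk, Or.inr hk]
  refine ⟨?_, ?_, ?_, ?_, ?_⟩
  · rintro h (h' | h')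
    · obtain ⟨k, e, hk⟩ := S.pair_fact p1 h h'; exact two e hk
    · obtain ⟨k, e, hk⟩ := S.pair_fact p2 h h'; exact two e hk
  · rintro h (h' | h')
    · obtain ⟨k, e, hk⟩ := S.pair_fact p3 h h'; exact two e hk
    · obtain ⟨k, e, hk⟩ := S.pair_fact p4 h h'; exact two e hk
  · rintro h (h' | h')
    · obtain ⟨k, e, hk⟩ := S.pair_fact p5 h h'; exact two e hk
    · obtain ⟨k, e, hk⟩ := S.pair_fact p6 h h'; exact two e hk
  · rintro (⟨h, h'⟩ | ⟨h, h'⟩ | ⟨h, h'⟩)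
    · obtain ⟨k, e, hk⟩ := S.pair_fact p7 h h'; exact two e hk
    · obtain ⟨k, e, hk⟩ := S.pair_fact p8 h h'; exact two e hk
    · obtain ⟨k, e, hk⟩ := S.pair_fact p9 h h'; exact two e hk
  · rintro ⟨h, h'⟩
    obtain ⟨k, e, -⟩ := S.pair_fact p10 h h'
    exact Bool.false_ne_true e

theorem some_six {x : MA} (hx6 : x.val % 6 = 0) (hxt : x ≠ tA) (hx : S.IsT (S.φ x)) :
    S.PT 2 ∨ S.PT 3 ∨ S.PT 4 := by
  obtain ⟨h1, h2⟩ := S.φ_invol (S.isT_order hx)
  obtain ⟨k1, -, -, k4, k5⟩ := labA_invol x h1 h2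
  have h := (S.isT_iff h1 h2).1 hx
  have := k5 hx6
  rcases (show labA x = 1 ∨ labA x = 2 ∨ labA x = 3 ∨ labA x = 4 by omega) with e | e | e | e
  · exact absurd (k4 e) hxt
  all_goals rw [e] at h
  exacts [Or.inl h, Or.inr (Or.inl h), Or.inr (Or.inr h)]

/-- composition with an automorphism of the model -/
noncomputable def relabel (α : MA → MA) (hα : ∀ x y, α (x * y) = α x * α y) (hi : ∀ x, α x = 1 → x = 1)
    (ht : α tA = tA) : ASetting G :=
  let a : MA →* MA := MonoidHom.mk' α hα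
  have ai : Function.Injective a := (injective_iff_map_eq_one a).2 hi
  have asu : Function.Surjective a := Finite.injective_iff_surjective.1 ai
  have hr : (S.φ.comp a).range = S.φ.range := by
    refine le_antisymm ?_ ?_
    · rintro _ ⟨x, rfl⟩; exact ⟨a x, rfl⟩
    · rintro _ ⟨x, rfl⟩; obtain ⟨y, rfl⟩ := asu x; exact ⟨y, rfl⟩
  { φ := S.φ.comp a
    inj := S.inj.comp ai
    range_eq := by
      rw [hr, S.range_eq]
      show _ = centralizer {S.φ (α tA)}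
      rw [ht] }

theorem relabel_PT (α : MA → MA) (hα : ∀ x y, α (x * y) = α x * α y) (hi : ∀ x, α x = 1 → x = 1)
    (ht : α tA = tA) {k : ℕ} (h1 : repA k * repA k = 1) (h2 : repA k ≠ 1) :
    (S.relabel α hα hi ht).PT k ↔ S.PT (labA (α (repA k))) := by
  show IsConj (S.φ (α tA)) (S.φ (α (repA k))) ↔ _
  rw [ht]
  exact S.isT_iff (by rw [← hα, h1]; exact mul_eq_left.1 ((hα 1 1).symm.trans (by rw [one_mul])))
    fun e => h2 (hi _ e)

theorem reps_invol : ∀ c : Fin 5, repA (c.val + 2) * repA (c.val + 2) = 1 ∧ repA (c.val + 2) ≠ 1 := by decide +kernel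

theorem cyc_PT : let S' := S.relabel cyc auto_facts.1 auto_inj.1 auto_facts.2.2.1
    (S'.PT 2 ↔ S.PT 3) ∧ (S'.PT 3 ↔ S.PT 4) ∧ (S'.PT 4 ↔ S.PT 2) ∧ (S'.PT 5 ↔ S.PT 5) ∧ (S'.PT 6 ↔ S.PT 6) := by
  intro S'
  obtain ⟨a2, a3, a4, a5, a6, -⟩ := auto_labs
  have h : ∀ c : Fin 5, S'.PT (c.val + 2) ↔ S.PT (labA (cyc (repA (c.val + 2)))) := fun c =>
    S.relabel_PT _ _ _ _ (reps_invol c).1 (reps_invol c).2
  exact ⟨a2 ▸ h 0, a3 ▸ h 1, a4 ▸ h 2, a5 ▸ h 3, a6 ▸ h 4⟩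

theorem flp_PT : let S' := S.relabel flp auto_facts.2.1 auto_inj.2 auto_facts.2.2.2
    (S'.PT 2 ↔ S.PT 2) ∧ (S'.PT 3 ↔ S.PT 3) ∧ (S'.PT 4 ↔ S.PT 4) ∧ (S'.PT 5 ↔ S.PT 6) ∧ (S'.PT 6 ↔ S.PT 5) := by
  intro S'
  obtain ⟨-, -, -, -, -, a2, a3, a4, a5, a6⟩ := auto_labs
  have h : ∀ c : Fin 5, S'.PT (c.val + 2) ↔ S.PT (labA (flp (repA (c.val + 2)))) := fun c =>
    S.relabel_PT _ _ _ _ (reps_invol c).1 (reps_invol c).2
  exact ⟨a2 ▸ h 0, a3 ▸ h 1, a4 ▸ h 2, a5 ▸ h 3, a6 ▸ h 4⟩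

theorem relabel_t (α : MA → MA) (hα : ∀ x y, α (x * y) = α x * α y) (hi : ∀ x, α x = 1 → x = 1)
    (ht : α tA = tA) : (S.relabel α hα hi ht).t = S.t := by
  show S.φ (α tA) = S.φ tA
  rw [ht]

theorem eight_case (h2 : S.PT 2) (hn : ∀ k, 3 ≤ k → k ≤ 6 → ¬ S.PT k) :
    ∃ (N : Subgroup G) (hN : N.Normal), IsMulCommutative N ∧ (∀ n ∈ N, n ^ 2 = 1) ∧ Nat.card N = 8 ∧
      Nonempty (G ⧸ N ≃* Matrix.ProjectiveSpecialLinearGroup (Fin 3) (ZMod 2)) := by
  classical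
  obtain ⟨vcard, vt, v1, vmul, vsq, vconj, vself, vout⟩ := v8_facts
  let VA : Subgroup MA :=
    { carrier := {x | inV8 x = true}
      one_mem' := v1
      mul_mem' := fun {x y} hx hy => vmul x hx y hy
      inv_mem' := fun {x} hx => by
        show inV8 x⁻¹ = true
        rw [inv_eq_of_mul_eq_one_right (vsq x hx)]; exact hx }
  have hmem : ∀ v, S.φ v ∈ VA.map S.φ ↔ inV8 v = true := fun v => Subgroup.mem_map_iff_mem S.inj
  refine EightSetting.conclusion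
    { t := S.t, V := VA.map S.φ, ht := S.t_order, htV := (hmem tA).2 vt, cardV := ?_, sqV := ?_, cardL := ?_,
      le_norm := ?_, self := ?_, fused := ?_, closed := ?_, outer := ?_ }
  · rw [Subgroup.card_map_of_injective S.inj]
    show Nat.card {x : MA // inV8 x = true} = 8
    rw [Nat.card_eq_fintype_card, Fintype.card_subtype]; exact vcard
  · rintro _ ⟨v, hv, rfl⟩
    rw [← map_mul, vsq v hv, map_one]
  · show Nat.card (centralizer ({S.φ tA} : Set G)) = 192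
    rw [← S.range_eq, ← card_MA]
    exact (Nat.card_congr (MonoidHom.ofInjective S.inj).toEquiv).symm
  · intro c hc v' hv'
    obtain ⟨v, hv, rfl⟩ := hv'
    obtain ⟨k, rfl⟩ := S.mem_iff.1 hc
    rw [← map_inv, ← map_mul, ← map_mul, hmem]
    exact vconj k v hv
  · intro c hc hall
    obtain ⟨k, rfl⟩ := S.mem_iff.1 hc
    exact (hmem k).2 (vself k fun v hv => S.inj (by rw [map_mul, map_mul]; exact hall _ ((hmem v).2 hv)))
  · rintro _ ⟨v, hv, rfl⟩ h1
    have hv1 : v ≠ 1 := fun e => h1 (by rw [e, map_one])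
    refine (S.isT_iff (vsq v hv) hv1).2 ?_
    have hv' : inV8 v = true := hv
    simp only [inV8, Bool.or_eq_true, beq_iff_eq, hv1, false_or] at hv'
    rcases hv' with e | e <;> rw [e]
    · show IsConj S.t (S.φ (repA 1))
      rw [show repA 1 = tA from rfl]; exact IsConj.refl _
    · exact h2
  · intro x hx hxT
    obtain ⟨k, rfl⟩ := S.mem_iff.1 hx
    obtain ⟨k1, k2⟩ := S.φ_invol (S.isT_order hxT)
    obtain ⟨l1, l2, -⟩ := labA_invol k k1 k2
    have hP := (S.isT_iff k1 k2).1 hxT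
    rw [hmem]
    rcases (show labA k = 1 ∨ labA k = 2 ∨ 3 ≤ labA k by omega) with e | e | e
    · simp [inV8, e]
    · simp [inV8, e]
    · exact absurd hP (hn _ e l2)
  · obtain ⟨m1, m2⟩ := reps_invol 3
    exact ⟨S.φ (repA 5), S.order_φ m1 m2, S.φ_comm _, fun h => Bool.false_ne_true (vout.symm.trans ((hmem _).1 h))⟩

/-- the normalised pattern of fusion -/
def Pattern : Prop := ¬ S.PT 2 ∧ S.PT 3 ∧ S.PT 4 ∧ ¬ S.PT 5 ∧ S.PT 6

theorem dichotomy (h6 : S.PT 2 ∨ S.PT 3 ∨ S.PT 4) :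
    (∃ (N : Subgroup G) (hN : N.Normal), IsMulCommutative N ∧ (∀ n ∈ N, n ^ 2 = 1) ∧ Nat.card N = 8 ∧
      Nonempty (G ⧸ N ≃* Matrix.ProjectiveSpecialLinearGroup (Fin 3) (ZMod 2))) ∨
    ∃ S' : ASetting G, S'.t = S.t ∧ S'.Pattern := by
  have hflip : ∀ T : ASetting G, ¬ T.PT 2 → T.PT 3 → T.PT 4 → ∃ S' : ASetting G, S'.t = T.t ∧ S'.Pattern := by
    intro T h2 h3 h4
    obtain ⟨-, -, -, f4, f5⟩ := T.fusion_facts
    rcases f4 (Or.inr (Or.inr ⟨h3, h4⟩)) with h5 | h6'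
    · obtain ⟨g2, g3, g4, g5, g6⟩ := T.flp_PT
      exact ⟨_, T.relabel_t _ _ _ _, mt g2.1 h2, g3.2 h3, g4.2 h4, fun h => f5 ⟨h5, g5.1 h⟩, g6.2 h5⟩
    · exact ⟨T, rfl, h2, h3, h4, fun h => f5 ⟨h, h6'⟩, h6'⟩
  have hone : ∀ T : ASetting G, T.PT 2 → ¬ T.PT 3 → ¬ T.PT 4 → ∀ k, 3 ≤ k → k ≤ 6 → ¬ T.PT k := by
    intro T h2 h3 h4 k k1 k2
    obtain ⟨f1, -⟩ := T.fusion_facts
    rcases (show k = 3 ∨ k = 4 ∨ k = 5 ∨ k = 6 by omega) with rfl | rfl | rfl | rfl
    exacts [h3, h4, fun h => (f1 h2 (Or.inl h)).elim h3 h4, fun h => (f1 h2 (Or.inr h)).elim h3 h4]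
  set C : ASetting G → ASetting G := fun T => T.relabel cyc auto_facts.1 auto_inj.1 auto_facts.2.2.1 with hC
  have hCt : ∀ T, (C T).t = T.t := fun T => T.relabel_t _ _ _ _
  obtain ⟨c2, c3, c4, -, -⟩ := S.cyc_PT
  obtain ⟨d2, d3, d4, -, -⟩ := (C S).cyc_PT
  by_cases p2 : S.PT 2 <;> by_cases p3 : S.PT 3 <;> by_cases p4 : S.PT 4
  · exact absurd ⟨p2, p3, p4⟩ S.not_three
  · obtain ⟨S', e, h⟩ := hflip (C (C S)) (fun h => p4 (c3.1 (d2.1 h))) (d3.2 (c4.2 p2)) (d4.2 (c2.2 p3))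
    exact Or.inr ⟨S', e.trans ((hCt _).trans (hCt _)), h⟩
  · obtain ⟨S', e, h⟩ := hflip (C S) (fun h => p3 (c2.1 h)) (c3.2 p4) (c4.2 p2)
    exact Or.inr ⟨S', e.trans (hCt _), h⟩
  · exact Or.inl (S.eight_case p2 (hone S p2 p3 p4))
  · obtain ⟨S', e, h⟩ := hflip S p2 p3 p4
    exact Or.inr ⟨S', e, h⟩
  · exact Or.inl ((C S).eight_case (c2.2 p3) (hone _ (c2.2 p3) (fun h => p4 (c3.1 h)) fun h => p2 (c4.1 h)))
  · exact Or.inl ((C (C S)).eight_case (d2.2 (c3.2 p4))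
      (hone _ (d2.2 (c3.2 p4)) (fun h => p2 (c4.1 (d3.1 h))) fun h => p3 (c2.1 (d4.1 h))))
  · rcases h6 with h | h | h <;> contradiction

end ASetting

end Cfsg.Lib.ExtraEight
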