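import Cfsg.Agent.ExtraEight.Models
import Cfsg.Agent.ExtraEight.FusionData

/-!
Finite facts for the fusion in the subgroup of order sixteen.
-/

set_option autoImplicit false
set_option maxRecDepth 20000
set_option maxHeartbeats 4000000

namespace Cfsg.Lib.ExtraEight

/-- a linear map by the images of a basis -/
abbrev L4 : Type := Fin 16 × Fin 16 × Fin 16 × Fin 16

/-- the elements of the subgroup of order sixteen -/
def el (m : Fin 16) : MA := MA.mk (elList.getD m.val 0)

/-- sum of two vectors -/
def vadd (a b : Fin 16) : Fin 16 := ⟨(a.val ^^^ b.val) % 16, Nat.mod_lt _ (by norm_num)⟩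

/-- a scalar times a vector -/
def bitv (b : Bool) (a : Fin 16) : Fin 16 := if b then a else 0

/-- value of a linear map -/
def app (g : L4) (m : Fin 16) : Fin 16 :=
  vadd (vadd (vadd (bitv (m.val.testBit 0) g.1) (bitv (m.val.testBit 1) g.2.1)) (bitv (m.val.testBit 2) g.2.2.1))
    (bitv (m.val.testBit 3) g.2.2.2)

/-- composition -/
def comp (g h : L4) : L4 := (app g h.1, app g h.2.1, app g h.2.2.1, app g h.2.2.2)

/-- identity -/
def idL : L4 := (1, 2, 4, 8)

/-- from raw data -/
def mkL (p : Nat × Nat × Nat × Nat) : L4 :=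
  (Fin.ofNat 16 p.1, Fin.ofNat 16 p.2.1, Fin.ofNat 16 p.2.2.1, Fin.ofNat 16 p.2.2.2)

/-- the maps of the centraliser -/
def sbar : List L4 := sbarRaw.map mkL

/-- label: `1` centre, `2`, `3`, `4` the three classes of length six, `5`, `6` the classes of length twelve -/
def labA (x : MA) : ℕ := get labATab 3 x.val
/-- conjugator to the representative -/
def cwA (x : MA) : MA := MA.mk (get cwATab 8 x.val)
/-- representative -/
def repA (k : ℕ) : MA := MA.mk (repList.getD k 0)
/-- in the subgroup of order sixteen -/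
def inW (x : MA) : Bool := (List.finRange 16).any fun m => el m == x
/-- in the Sylow subgroup -/
def inSA (x : MA) : Bool := x.val % 6 < 2
/-- the involution -/
def tA : MA := MA.mk 96
/-- outer automorphism cycling the three classes -/
def cyc (x : MA) : MA := MA.mk (get cycleTab 8 x.val)
/-- outer automorphism exchanging the classes of length twelve -/
def flp (x : MA) : MA := MA.mk (get flipTab 8 x.val)
/-- the chosen vector of a class -/
def uV (c : Fin 5) : Fin 16 := Fin.ofNat 16 (uList.getD c.val 0)
/-- the normal forms of a swap -/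
def cand (c : Fin 5) : List L4 := (candRaw.getD c.val []).map mkL

/-- product of a word -/
def evalW (gens : List L4) (w : List ℕ) : L4 := w.foldl (fun r i => comp r (gens.getD i idL)) idL

/-- digits of a code -/
def decode : ℕ → ℕ → List ℕ
  | 0, _ => []
  | f + 1, n => if n ≤ 1 then [] else (n % 4) :: decode f (n / 4)

/-- the label of a vector -/
def labV (m : Fin 16) : ℕ := labA (el m)

/-- contradicts the stabiliser -/
def killB (g : L4) : Bool := g.1 == 1 && !(sbar.contains g)

/-- certificate for a single map -/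
def singleOK (c : Fin 5) (a b d : Fin 15) : Bool :=
  let g : L4 := (uV c, Fin.ofNat 16 (a.val + 1), Fin.ofNat 16 (b.val + 1), Fin.ofNat 16 (d.val + 1))
  ((List.finRange 16).any fun m => m != 0 && app g m == 0) ||
    let r := evalW (g :: sbar.tail)
      (decode 12 (get (((singleTab.getD c.val []).getD a.val 0)) 20 (b.val * 15 + d.val)))
    killB r || (cand c).contains r

/-- certificates for two maps -/
def pairOK (c d : Fin 5) (cert : List (List ℕ)) (good : ℕ → Bool) : Bool :=
  (List.range (cand c).length).all fun i => (List.range (cand d).length).all fun j =>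
    let r := evalW ((cand c).getD i idL :: (cand d).getD j idL :: sbar.tail)
      (cert.getD (i * (cand d).length + j) [])
    killB r || good (labV r.1)

/-- certificates for three maps -/
def tripleOK : Bool :=
  (List.range 4).all fun i => (List.range 4).all fun j => (List.range 4).all fun k =>
    killB (evalW ((cand 0).getD i idL :: (cand 1).getD j idL :: (cand 2).getD k idL :: sbar.tail)
      (certABC.getD (i * 16 + j * 4 + k) []))

theorem el_xor : ∀ a b : Fin 16, el (vadd a b) = el a * el b := by decide +kernel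

theorem el_inj : ∀ a b : Fin 16, el a = el b → a = b := by decide +kernel

theorem el_zero : el 0 = 1 ∧ el 1 = tA := by decide +kernel

theorem app_id : ∀ m : Fin 16, app idL m = m := by decide +kernel

theorem app_basis : ∀ g : L4, app g 0 = 0 := by
  intro g
  simp [app, bitv]
  decide +kernel

theorem el_comm : ∀ a b : Fin 16, el a * el b = el b * el a := by decide +kernel

theorem el_sq : ∀ a : Fin 16, el a * el a = 1 := by decide +kernel

theorem tA_facts : (∀ x : MA, tA * x = x * tA) ∧ tA * tA = 1 ∧ tA ≠ 1 ∧ labA tA = 1 := by decide +kernel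

theorem inSA_closed : inSA 1 = true ∧ (∀ x : MA, inSA x = true → ∀ y : MA, inSA y = true → inSA (x * y) = true) ∧
    (∀ x : MA, inSA x = true → inSA x⁻¹ = true) ∧
    (Finset.univ.filter fun x : MA => inSA x = true).card = 64 := by decide +kernel

theorem w_unique : ∀ k : MA, inSA k = true → k * k = 1 → inW k = false →
    (Finset.univ.filter fun x : MA => inSA x = true ∧ x * x = 1 ∧ x * k = k * x).card < 16 := by decide +kernel

theorem w_stab : ∀ l : MA, inW (l * el 1 * l⁻¹) = true → inW (l * el 2 * l⁻¹) = true →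
    inW (l * el 4 * l⁻¹) = true → inW (l * el 8 * l⁻¹) = true → (sbar.any fun g =>
      el g.1 == l * el 1 * l⁻¹ && el g.2.1 == l * el 2 * l⁻¹ && el g.2.2.1 == l * el 4 * l⁻¹ &&
        el g.2.2.2 == l * el 8 * l⁻¹) = true := by decide +kernel

theorem sbar_wit : ∀ i : Fin 4,
    MA.mk (sbarWit.getD i.val 0) * el 1 * (MA.mk (sbarWit.getD i.val 0))⁻¹ = el (sbar.getD i.val idL).1 ∧
    MA.mk (sbarWit.getD i.val 0) * el 2 * (MA.mk (sbarWit.getD i.val 0))⁻¹ = el (sbar.getD i.val idL).2.1 ∧
    MA.mk (sbarWit.getD i.val 0) * el 4 * (MA.mk (sbarWit.getD i.val 0))⁻¹ = el (sbar.getD i.val idL).2.2.1 ∧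
    MA.mk (sbarWit.getD i.val 0) * el 8 * (MA.mk (sbarWit.getD i.val 0))⁻¹ = el (sbar.getD i.val idL).2.2.2 := by
  decide +kernel

theorem sbar_len : sbar.length = 4 := by decide +kernel

theorem labA_invol : ∀ x : MA, x * x = 1 → x ≠ 1 → 1 ≤ labA x ∧ labA x ≤ 6 ∧
    cwA x * x * (cwA x)⁻¹ = repA (labA x) ∧ (labA x = 1 → x = tA) ∧ (x.val % 6 = 0 → labA x ≤ 4) := by
  decide +kernel

theorem labA_zero : ∀ x : MA, labA x ≠ 0 → x * x = 1 ∧ x ≠ 1 := by decide +kernel

theorem uV_spec : ∀ c : Fin 5, el (uV c) = repA (c.val + 2) ∧ labA (repA (c.val + 2)) = c.val + 2 := by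
  decide +kernel

theorem labV_pos : ∀ m : Fin 16, m ≠ 0 → 1 ≤ labV m ∧ labV m ≤ 6 := by decide +kernel

theorem single_ok : ∀ c : Fin 5, ∀ a b d : Fin 15, singleOK c a b d = true := by decide +kernel

theorem triple_ok : tripleOK = true ∧ (cand 0).length = 4 ∧ (cand 1).length = 4 ∧ (cand 2).length = 4 := by
  decide +kernel

theorem pair_ok : pairOK 0 3 certAD (fun k => k == 3 || k == 4) = true ∧
    pairOK 0 4 certAE (fun k => k == 3 || k == 4) = true ∧
    pairOK 1 3 certBD (fun k => k == 2 || k == 4) = true ∧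
    pairOK 1 4 certBE (fun k => k == 2 || k == 4) = true ∧
    pairOK 2 3 certCD (fun k => k == 2 || k == 3) = true ∧
    pairOK 2 4 certCE (fun k => k == 2 || k == 3) = true ∧
    pairOK 0 1 certAB (fun k => k == 5 || k == 6) = true ∧
    pairOK 0 2 certAC (fun k => k == 5 || k == 6) = true ∧
    pairOK 1 2 certBC (fun k => k == 5 || k == 6) = true ∧
    pairOK 3 4 certDE (fun _ => false) = true := by decide +kernel

theorem auto_facts : (∀ x y : MA, cyc (x * y) = cyc x * cyc y) ∧ (∀ x y : MA, flp (x * y) = flp x * flp y) ∧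
    cyc tA = tA ∧ flp tA = tA := by decide +kernel

theorem auto_inj : (∀ x : MA, cyc x = 1 → x = 1) ∧ (∀ x : MA, flp x = 1 → x = 1) := by decide +kernel

theorem auto_labs : labA (cyc (repA 2)) = 3 ∧ labA (cyc (repA 3)) = 4 ∧ labA (cyc (repA 4)) = 2 ∧
    labA (cyc (repA 5)) = 5 ∧ labA (cyc (repA 6)) = 6 ∧ labA (flp (repA 2)) = 2 ∧ labA (flp (repA 3)) = 3 ∧
    labA (flp (repA 4)) = 4 ∧ labA (flp (repA 5)) = 6 ∧ labA (flp (repA 6)) = 5 := by decide +kernel

/-- the elementary subgroup of order eight -/
def inV8 (x : MA) : Bool := x == 1 || labA x == 1 || labA x == 2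

theorem v8_facts : (Finset.univ.filter fun x : MA => inV8 x = true).card = 8 ∧ inV8 tA = true ∧ inV8 1 = true ∧
    (∀ x : MA, inV8 x = true → ∀ y : MA, inV8 y = true → inV8 (x * y) = true) ∧
    (∀ v : MA, inV8 v = true → v * v = 1) ∧
    (∀ m v : MA, inV8 v = true → inV8 (m * v * m⁻¹) = true) ∧
    (∀ m : MA, (∀ v : MA, inV8 v = true → m * v = v * m) → inV8 m = true) ∧ inV8 (repA 5) = false := by
  decide +kernel

end Cfsg.Lib.ExtraEight
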