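import Cfsg.Agent.ExtraEight.Structure

/-!
The centraliser is one of the two extensions.
-/

set_option autoImplicit false
set_option linter.unusedSectionVars false
set_option maxRecDepth 10000

namespace Cfsg.Lib.ExtraEight

open Subgroup

theorem code_exists : ∀ e : Bool, ∀ u v : Fin 4, ∃ q : Fin 32, eOf q = e ∧ uOf q = u ∧ vOf q = v := by
  decide +kernel

theorem sq_ne : ∀ sw : Bool, ∀ q : Fin 32, qmul q (tq sw q) ≠ 16 := by decide +kernel

theorem sq_codes : ∀ p q : Fin 32, qmul (qmul p q) (qmul p q) = 0 ∨ qmul (qmul p q) (qmul p q) = 16 := by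
  decide +kernel

theorem pair_codes : ∀ u : Fin 32, qmul u u = 0 → u ≠ 0 → u ≠ 16 → ∃ y z : Fin 32,
    qmul y y = 0 ∧ y ≠ 0 ∧ qmul z z = 0 ∧ z ≠ 0 ∧ qmul y u = qmul u y ∧ qmul z u = qmul u z ∧
      qmul (qmul y z) (qmul y z) = 16 := by decide +kernel

variable {G : Type*} [Group G] [Finite G]

namespace Hyp

variable (H : Hyp G)

theorem square_line {a b c d : G} (ha : a ∈ H.Q) (hc : c ∈ H.Q) (hT : Tri H.s H.x a b) (hT' : Tri H.s H.x c d)
    (hac : a * c = c * a) (had : a * d = d * a) (hbc : b * c = c * b) (hbd : b * d = d * b)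
    {q : G} (hq : q ∈ H.Q) (h2 : q * q = H.s) :
    ∃ e v, v ≠ 0 ∧ (q = H.sgn e * units a b v ∨ q = H.sgn e * units c d v) := by
  obtain ⟨e, u, v, rfl⟩ := H.span ha hc hT hT' hac had hbc hbd hq
  have hb : b ∈ H.Q := hT.xa ▸ H.conj_Q H.x_L ha
  have hd : d ∈ H.Q := hT'.xa ▸ H.conj_Q H.x_L hc
  by_cases hu : u = 0
  · refine ⟨e, v, fun hv => H.s_ne ?_, Or.inr (by rw [hu]; simp [units])⟩
    rw [← h2, hu, hv]
    cases e <;> simp [units, sgn, H.ss]
  by_cases hv : v = 0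
  · exact ⟨e, u, hu, Or.inl (by rw [hv]; simp [units])⟩
  exfalso
  refine H.s_ne ?_
  have hU : units a b u * units a b u = H.s := by
    fin_cases u
    exacts [absurd rfl hu, hT.aa, hT.bb, (hT.rotate H.ss).bb]
  have hV : units c d v * units c d v = H.s := by
    fin_cases v
    exacts [absurd rfl hv, hT'.aa, hT'.bb, (hT'.rotate H.ss).bb]
  have hUV : Commute (units c d v) (units a b u) := by
    have hA : ∀ w, Commute w a → Commute w b → Commute w (units a b u) := fun w p1 p2 => by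
      fin_cases u
      exacts [Commute.one_right _, p1, p2, p1.mul_right p2]
    refine (show Commute (units a b u) (units c d v) from ?_).symm
    fin_cases v
    exacts [Commute.one_right _, (hA c hac.symm hbc.symm).symm, (hA d had.symm hbd.symm).symm,
      ((hA c hac.symm hbc.symm).symm).mul_right (hA d had.symm hbd.symm).symm]
  have hE : ∀ w ∈ H.Q, Commute (H.sgn e) w := fun w hw => by
    cases e
    · exact Commute.one_left _
    · exact (H.s_comm hw).symm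
  have hEE : H.sgn e * H.sgn e = 1 := by cases e <;> simp [sgn, H.ss]
  set E := H.sgn e
  set U := units a b u
  set V := units c d v
  have hUQ : U ∈ H.Q := H.units_mem ha hb u
  have hVQ : V ∈ H.Q := H.units_mem hc hd v
  rw [← h2]
  calc E * U * V * (E * U * V) = E * ((U * V) * E) * (U * V) := by group
    _ = E * E * (U * (V * U) * V) := by rw [← (hE _ (mul_mem hUQ hVQ)).eq]; group
    _ = U * U * (V * V) := by rw [hEE, one_mul, hUV.eq]; group
    _ = 1 := by rw [hU, hV, H.ss]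

section Inverting

variable {r : G} (hr : r ∈ H.L) (hrx : r * H.x * r⁻¹ = H.x⁻¹)

include hr hrx

omit hrx in
theorem rs : r * H.s * r⁻¹ = H.s := by rw [H.mem_L.1 hr, mul_inv_cancel_right]

omit hr in
theorem r_push (y : G) : r * (H.x * y * H.x⁻¹) * r⁻¹ = H.x⁻¹ * (r * y * r⁻¹) * H.x := by
  calc r * (H.x * y * H.x⁻¹) * r⁻¹ = (r * H.x * r⁻¹) * (r * y * r⁻¹) * (r * H.x * r⁻¹)⁻¹ := by group
    _ = _ := by rw [hrx, inv_inv]

theorem x_back {a b : G} (hT : Tri H.s H.x a b) : H.x⁻¹ * a * H.x = a * b ∧ H.x⁻¹ * b * H.x = a ∧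
    H.x⁻¹ * (a * b) * H.x = b := by
  refine ⟨?_, ?_, ?_⟩
  · have h := (hT.rotate H.ss).xb
    rw [hT.rot_val H.ss] at h
    conv_lhs => rw [← h]
    group
  · rw [← hT.xa]; group
  · rw [← hT.xb]; group

theorem fixed_line {a b z : G} (hT : Tri H.s H.x a b) (ha : a ∈ H.Q) (hz : z = 1 ∨ z = H.s)
    (h : r * a * r⁻¹ = z * a) : r * a * r⁻¹ = H.s * a ∧ r * b * r⁻¹ = H.s * (a * b) := by
  have hb : b ∈ H.Q := hT.xa ▸ H.conj_Q H.x_L ha
  have hxz : Commute H.x⁻¹ z := by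
    rcases hz with rfl | rfl
    · exact Commute.one_right _
    · exact (show Commute H.x H.s from H.xs).inv_left
  have hzz : ∀ y ∈ H.Q, y * z = z * y ∧ z * z = 1 := fun y hy => by
    rcases hz with rfl | rfl
    · simp
    · exact ⟨H.s_comm hy, H.ss⟩
  obtain ⟨k1, k2, k3⟩ := H.x_back hr hrx hT
  have hzc : ∀ y, H.x⁻¹ * (z * y) * H.x = z * (H.x⁻¹ * y * H.x) := fun y => by
    rw [← mul_assoc, hxz.eq]; group
  have hrb : r * b * r⁻¹ = z * (a * b) := by rw [← hT.xa, H.r_push hrx, h, hzc, k1, ← hT.xa]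
  have hrab : r * (a * b) * r⁻¹ = z * b := by
    rw [← hT.xb, H.r_push hrx, hrb, hzc, k3]
  have hrab' : r * (a * b) * r⁻¹ = H.s * b := by
    rw [show r * (a * b) * r⁻¹ = (r * a * r⁻¹) * (r * b * r⁻¹) by group, h, hrb, mul_assoc,
      ← mul_assoc a, (hzz a ha).1, mul_assoc z a, ← mul_assoc z z, (hzz a ha).2, one_mul, ← mul_assoc, hT.aa]
  obtain rfl := mul_right_cancel (hrab.symm.trans hrab')
  exact ⟨h, hrb⟩

theorem choose_fixed {a b : G} (hT : Tri H.s H.x a b) (ha : a ∈ H.Q) {e : Bool} {v : Fin 4} (hv : v ≠ 0)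
    (h : r * a * r⁻¹ = H.sgn e * units a b v) :
    ∃ a' b', a' ∈ H.Q ∧ Tri H.s H.x a' b' ∧ (∀ w, a * w = w * a → b * w = w * b → a' * w = w * a' ∧ b' * w = w * b') ∧
      r * a' * r⁻¹ = H.s * a' ∧ r * b' * r⁻¹ = H.s * (a' * b') := by
  have hb : b ∈ H.Q := hT.xa ▸ H.conj_Q H.x_L ha
  obtain ⟨k1, k2, k3⟩ := H.x_back hr hrx hT
  have hz : H.sgn e = 1 ∨ H.sgn e = H.s := by cases e <;> simp [sgn]
  have hzc : ∀ y, H.x⁻¹ * (H.sgn e * y) * H.x = H.sgn e * (H.x⁻¹ * y * H.x) := fun y => by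
    have hc : Commute H.x⁻¹ (H.sgn e) := by
      rcases hz with e1 | e1 <;> rw [e1]
      · exact Commute.one_right _
      · exact (show Commute H.x H.s from H.xs).inv_left
    rw [← mul_assoc, hc.eq]; group
  have hab : ∀ w, a * w = w * a → b * w = w * b → a * b * w = w * (a * b) := fun w h1 h2 => by
    rw [mul_assoc, h2, ← mul_assoc, h1, mul_assoc]
  fin_cases v
  · exact absurd rfl hv
  · exact ⟨a, b, ha, hT, fun w h1 h2 => ⟨h1, h2⟩, H.fixed_line hr hrx hT ha hz h⟩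
  · have h' : r * a * r⁻¹ = H.sgn e * b := h
    have h2 : r * (a * b) * r⁻¹ = H.sgn e * (a * b) := by
      conv_lhs => rw [← hT.xb, H.r_push hrx, ← hT.xa, H.r_push hrx, h', hzc, k2, hzc, k1]
    have hT2 := (hT.rotate H.ss).rotate H.ss
    rw [hT.rot_val H.ss] at hT2
    exact ⟨a * b, a, mul_mem ha hb, hT2, fun w h1 h2 => ⟨hab w h1 h2, h1⟩,
      H.fixed_line hr hrx hT2 (mul_mem ha hb) hz h2⟩
  · have h' : r * a * r⁻¹ = H.sgn e * (a * b) := h
    have h2 : r * b * r⁻¹ = H.sgn e * b := by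
      conv_lhs => rw [← hT.xa, H.r_push hrx, h', hzc, k3]
    exact ⟨b, a * b, hb, hT.rotate H.ss, fun w h1 h2 => ⟨h2, hab w h1 h2⟩,
      H.fixed_line hr hrx (hT.rotate H.ss) hb hz h2⟩

end Inverting

theorem exists_rel : ∃ sw, ∃ R : Rel G sw, R.s = H.s ∧ R.a ∈ H.Q ∧ R.c ∈ H.Q ∧ R.r ∈ H.L ∧ R.x = H.x ∧
    (∀ q ∈ H.Q, ∃ k, R.φQ k = q) ∧ ∀ y ∈ H.L, ∃ p, R.val p = y := by
  obtain ⟨a, b, c, d, ha, hc, hT, hT', hac, had, hbc, hbd⟩ := H.exists_quad
  obtain ⟨r, hr, hrx, hrr, hcov⟩ := H.exists_r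
  have hrs := H.rs hr
  have finish : ∀ sw, ∀ R : Rel G sw, R.s = H.s → R.a ∈ H.Q → R.c ∈ H.Q → R.r = r → R.x = H.x →
      ∃ sw, ∃ R : Rel G sw, R.s = H.s ∧ R.a ∈ H.Q ∧ R.c ∈ H.Q ∧ R.r ∈ H.L ∧ R.x = H.x ∧
        (∀ q ∈ H.Q, ∃ k, R.φQ k = q) ∧ ∀ y ∈ H.L, ∃ p, R.val p = y := by
    intro sw R es ea ec er ex
    have hTa : Tri H.s H.x R.a R.b := ⟨es ▸ R.aa, es ▸ R.bb, ex ▸ R.xa, ex ▸ R.xb⟩
    have hTc : Tri H.s H.x R.c R.d := ⟨es ▸ R.cc, es ▸ R.dd, ex ▸ R.xc, ex ▸ R.xd⟩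
    have hspan : ∀ q ∈ H.Q, ∃ k, R.φQ k = q := fun q hq => by
      obtain ⟨e, u, v, rfl⟩ := H.span ea ec hTa hTc R.ac R.ad R.bc R.bd hq
      obtain ⟨k, k1, k2, k3⟩ := code_exists e u v
      refine ⟨k, ?_⟩
      rw [Rel.φQ, k1, k2, k3, Rel.sg, sgn, es]
      rfl
    refine ⟨sw, R, es, ea, ec, er ▸ hr, ex, hspan, fun y hy => ?_⟩
    obtain ⟨w, hw, hyw⟩ := hcov y hy
    obtain ⟨k, hk⟩ := hspan _ hyw
    obtain ⟨σ, hσ⟩ : ∃ σ, R.φS σ = w := by
      rcases hw with rfl | rfl | rfl | rfl | rfl | rfl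
      exacts [⟨0, rfl⟩, ⟨1, er⟩, ⟨2, ex⟩, ⟨3, by rw [← er, ← ex]; rfl⟩, ⟨4, by rw [← ex]; rfl⟩,
        ⟨5, by rw [← er, ← ex]; rfl⟩]
    exact ⟨(k, σ), by rw [Rel.val, hk, hσ, inv_mul_cancel_right]⟩
  have hr2 : ∀ y ∈ H.Q, r * (r * y * r⁻¹) * r⁻¹ = y := fun y hy => by
    calc r * (r * y * r⁻¹) * r⁻¹ = r * r * y * (r * r)⁻¹ := by group
      _ = y := by
        rcases hrr with e | e <;> rw [e]
        · simp
        · rw [← H.s_comm hy, mul_inv_cancel_right]
  have hra2 : r * a * r⁻¹ * (r * a * r⁻¹) = H.s := by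
    rw [show r * a * r⁻¹ * (r * a * r⁻¹) = r * (a * a) * r⁻¹ by group, hT.aa, hrs]
  obtain ⟨e, v, hv, hline | hline⟩ := H.square_line ha hc hT hT' hac had hbc hbd (H.conj_Q hr ha) hra2
  · obtain ⟨a', b', ha', hTA, hcommA, hrA, hrB⟩ := H.choose_fixed hr hrx hT ha hv hline
    have hb' : b' ∈ H.Q := hTA.xa ▸ H.conj_Q H.x_L ha'
    obtain ⟨hac', hbc'⟩ := hcommA c hac hbc
    obtain ⟨had', hbd'⟩ := hcommA d had hbd
    have hrc2 : r * c * r⁻¹ * (r * c * r⁻¹) = H.s := by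
      rw [show r * c * r⁻¹ * (r * c * r⁻¹) = r * (c * c) * r⁻¹ by group, hT'.aa, hrs]
    obtain ⟨e', v', hv', hl | hl⟩ := H.square_line ha' hc hTA hT' hac' had' hbc' hbd' (H.conj_Q hr hc) hrc2
    · exfalso
      have hmove : ∀ w, Commute w c → Commute (r * w * r⁻¹) (r * c * r⁻¹) := fun w hw =>
        hw.map (MulAut.conj r).toMonoidHom
      have c1 := hmove _ hac'
      have c2 := hmove _ hbc'
      rw [hrA, hl] at c1
      rw [hrB, hl] at c2
      have hcu : ∀ w ∈ H.Q, Commute (H.s * w) (H.sgn e' * units a' b' v') → Commute w (units a' b' v') := by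
        intro w hw h
        have hs1 : ∀ y ∈ H.Q, Commute H.s y := fun y hy => (H.s_comm hy).symm
        have h' : Commute w (H.sgn e' * units a' b' v') := by
          have := (hs1 _ (mul_mem (H.sgn_mem e') (H.units_mem ha' hb' v'))).mul_left h
          rwa [← mul_assoc, H.ss, one_mul] at this
        have h'' : Commute w (H.sgn e') := by
          cases e'
          · exact Commute.one_right _
          · exact (hs1 w hw).symm
        have := h''.inv_right.mul_right h'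
        rwa [inv_mul_cancel_left] at this
      have u1 := hcu a' ha' c1
      have u2 := hcu _ (mul_mem ha' hb') c2
      have u3 : Commute b' (units a' b' v') := by
        have := (u1.inv_left).mul_left u2
        rwa [inv_mul_cancel_left] at this
      exact hv' (H.units_sig hTA ha' (iff_of_true u1.eq (by simp [units])) (iff_of_true u3.eq (by simp [units])))
    · obtain ⟨c', d', hc', hTC, hcommC, hrC, hrD⟩ := H.choose_fixed hr hrx hT' hc hv' hl
      obtain ⟨hca, hda⟩ := hcommC a' hac'.symm had'.symm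
      obtain ⟨hcb, hdb⟩ := hcommC b' hbc'.symm hbd'.symm
      exact finish false
        { s := H.s, a := a', b := b', c := c', d := d', x := H.x, r := r, ss := H.ss, aa := hTA.aa, bb := hTA.bb,
          ba := hTA.ba H.ss, cc := hTC.aa, dd := hTC.bb, dc := hTC.ba H.ss, ac := hca.symm, ad := hda.symm,
          bc := hcb.symm, bd := hdb.symm, xx := H.x3, xa := hTA.xa, xb := hTA.xb, xc := hTC.xa, xd := hTC.xb,
          rr := hrr, rx := hrx, ra := by simpa using hrA, rb := by simpa using hrB, rc := by simpa using hrC,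
          rd := by simpa using hrD } rfl ha' hc' rfl rfl
  · have hb : b ∈ H.Q := hT.xa ▸ H.conj_Q H.x_L ha
    have hd : d ∈ H.Q := hT'.xa ▸ H.conj_Q H.x_L hc
    have hsr : ∀ y ∈ H.Q, r * (H.s * y) * r⁻¹ = H.s * (r * y * r⁻¹) := fun y hy => by
      calc r * (H.s * y) * r⁻¹ = (r * H.s * r⁻¹) * (r * y * r⁻¹) := by group
        _ = _ := by rw [hrs]
    have hsx : ∀ y, H.x * (H.s * y) * H.x⁻¹ = H.s * (H.x * y * H.x⁻¹) := fun y => by
      rw [← mul_assoc, H.xs]; group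
    have hxr : ∀ y, H.x * (r * y * r⁻¹) * H.x⁻¹ = r * (H.x⁻¹ * y * H.x) * r⁻¹ := fun y => by
      calc H.x * (r * y * r⁻¹) * H.x⁻¹ = (H.x⁻¹)⁻¹ * (r * y * r⁻¹) * H.x⁻¹ := by rw [inv_inv]
        _ = _ := by conv_lhs => rw [← hrx]
                    group
    obtain ⟨k1, k2, k3⟩ := H.x_back hr hrx hT
    set c' := H.s * (r * a * r⁻¹) with hc'
    set d' := H.s * (r * (a * b) * r⁻¹) with hd'
    have hcQ : c' ∈ H.Q := mul_mem H.s_mem (H.conj_Q hr ha)
    have hcd : c' * d' = H.s * (r * b * r⁻¹) := by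
      calc c' * d' = H.s * ((r * a * r⁻¹) * H.s) * (r * (a * b) * r⁻¹) := by rw [hc', hd']; group
        _ = (r * a * r⁻¹) * (r * (a * b) * r⁻¹) := by
          rw [H.s_comm (H.conj_Q hr ha), ← mul_assoc H.s H.s, H.ss, one_mul]
        _ = r * (a * (a * b)) * r⁻¹ := by group
        _ = _ := by rw [← mul_assoc a, hT.aa, hsr b hb]
    have hsq : ∀ y ∈ H.Q, y * y = H.s → H.s * (r * y * r⁻¹) * (H.s * (r * y * r⁻¹)) = H.s := fun y hy hy2 => by
      rw [mul_assoc, ← mul_assoc _ H.s, H.s_comm (H.conj_Q hr hy), mul_assoc H.s, ← mul_assoc H.s H.s, H.ss, one_mul,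
        show r * y * r⁻¹ * (r * y * r⁻¹) = r * (y * y) * r⁻¹ by group, hy2, hrs]
    have hTC : Tri H.s H.x c' d' := by
      refine ⟨hsq a ha hT.aa, hsq _ (mul_mem ha hb) (hT.rotate H.ss).bb, ?_, ?_⟩
      · rw [hc', hsx, hxr, k1]
      · rw [hcd, hd', hsx, hxr, k3]
    have hU : ∀ w, Commute w c → Commute w d → Commute w (units c d v) := fun w h1 h2 => by
      fin_cases v
      exacts [Commute.one_right _, h1, h2, h1.mul_right h2]
    have hcomm : ∀ w ∈ H.Q, Commute w c → Commute w d → Commute w c' := fun w hw h1 h2 => by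
      have hs' : Commute w H.s := H.s_comm hw
      have he : Commute w (H.sgn e) := by
        cases e
        · exact Commute.one_right _
        · exact hs'
      rw [hc', hline]
      exact hs'.mul_right (he.mul_right (hU w h1 h2))
    have qa := hcomm a ha hac had
    have qb := hcomm b hb hbc hbd
    have qd : ∀ {w}, Commute (H.x⁻¹ * w * H.x) c' → Commute w d' := fun {w} h => by
      have := h.map (MulAut.conj H.x).toMonoidHom
      rw [show (MulAut.conj H.x).toMonoidHom c' = d' from hTC.xa,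
        show (MulAut.conj H.x).toMonoidHom (H.x⁻¹ * w * H.x) = w by simp [mul_assoc]] at this
      exact this
    exact finish true
      { s := H.s, a := a, b := b, c := c', d := d', x := H.x, r := r, ss := H.ss, aa := hT.aa, bb := hT.bb,
        ba := hT.ba H.ss, cc := hTC.aa, dd := hTC.bb, dc := hTC.ba H.ss, ac := qa.eq,
        ad := (qd (by rw [k1]; exact qa.mul_left qb)).eq,
        bc := qb.eq, bd := (qd (by rw [k2]; exact qa)).eq, xx := H.x3, xa := hT.xa, xb := hT.xb, xc := hTC.xa,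
        xd := hTC.xb, rr := hrr, rx := hrx,
        ra := by simp only [if_true]; rw [hc', ← mul_assoc, H.ss, one_mul],
        rb := by simp only [if_true]; rw [hcd, ← mul_assoc, H.ss, one_mul],
        rc := by simp only [if_true]; rw [hc', hsr _ (H.conj_Q hr ha), hr2 a ha],
        rd := by simp only [if_true]; rw [hd', hsr _ (H.conj_Q hr (mul_mem ha hb)), hr2 _ (mul_mem ha hb)] }
      rfl ha hcQ rfl rfl

section Consequences

variable {sw : Bool} (R : Rel G sw) (es : R.s = H.s) (ea : R.a ∈ H.Q) (ec : R.c ∈ H.Q) (er : R.r ∈ H.L)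
  (ex : R.x = H.x) (hspan : ∀ q ∈ H.Q, ∃ k, R.φQ k = q) (hall : ∀ y ∈ H.L, ∃ p, R.val p = y)

include es ea ec ex hspan

theorem φQ_mem (k : Fin 32) : R.φQ k ∈ H.Q := by
  have hb : R.b ∈ H.Q := R.xa ▸ ex ▸ H.conj_Q H.x_L ea
  have hd : R.d ∈ H.Q := R.xc ▸ ex ▸ H.conj_Q H.x_L ec
  refine mul_mem (mul_mem ?_ (H.units_mem ea hb _)) (H.units_mem ec hd _)
  unfold Rel.sg
  split
  exacts [es ▸ H.s_mem, one_mem _]

theorem φQ_inj : Function.Injective R.φQ := by
  let F : Fin 32 → H.Q := fun k => ⟨R.φQ k, H.φQ_mem R es ea ec ex hspan k⟩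
  have hF : Function.Bijective F := (Nat.bijective_iff_surjective_and_card F).2
    ⟨fun q => by obtain ⟨k, hk⟩ := hspan q q.2; exact ⟨k, Subtype.ext hk⟩, by simp [H.hQcard]⟩
  exact fun i j h => hF.1 (Subtype.ext h)

include er hall

theorem r_sq : R.r * R.r = 1 := by
  rcases R.rr with h | h
  · exact h
  exfalso
  have hinj := H.φQ_inj R es ea ec ex hspan
  have h0 : R.φQ 0 = 1 := by simp [Rel.φQ, Rel.sg, Rel.uA, Rel.uC, eOf, uOf, vOf]
  have h16 : R.φQ 16 = R.s := by simp [Rel.φQ, Rel.sg, Rel.uA, Rel.uC, eOf, uOf, vOf]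
  have hrQ : ∀ k, R.φQ k * R.r * (R.φQ k * R.r) ≠ 1 := fun k e => by
    refine sq_ne sw k (hinj ?_)
    rw [h16, R.φQ_mul, R.φQ_tq]
    have : R.φQ k * (R.r * R.φQ k * R.r⁻¹) * R.s = 1 := by rw [← h, ← e]; group
    rw [eq_inv_of_mul_eq_one_left this, inv_eq_of_mul_eq_one_right R.ss]
  have hinv : ∀ y ∈ H.L, y * y = 1 → y ∈ H.Q := by
    intro y hy hy2
    obtain ⟨⟨k, σ⟩, rfl⟩ := hall y hy
    have hx2 : ∀ j, R.φQ j * (R.x * R.x) * (R.φQ j * (R.x * R.x)) ≠ 1 := fun j e => by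
      refine H.x_Q ?_
      have hx : R.x * R.x * (R.x * R.x) = R.x := by
        have := R.xx
        rw [pow_succ, pow_two] at this
        rw [← mul_assoc, this, one_mul]
      have e' : R.x = (R.φQ j * (R.x * R.x * R.φQ j * (R.x * R.x)⁻¹))⁻¹ := by
        refine eq_inv_of_mul_eq_one_right ?_
        generalize R.x * R.x = A at hx e ⊢
        rw [← hx, ← e]; group
      rw [← ex, e']
      refine inv_mem (mul_mem (H.φQ_mem R es ea ec ex hspan j) ?_)
      rw [ex]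
      exact H.conj_Q (mul_mem H.x_L H.x_L) (H.φQ_mem R es ea ec ex hspan j)
    have hx1 : ∀ j, R.φQ j * R.x * (R.φQ j * R.x) ≠ 1 := fun j e => by
      refine H.x_Q ?_
      have e' : R.x * R.x = (R.φQ j * (R.x * R.φQ j * R.x⁻¹))⁻¹ := by
        refine eq_inv_of_mul_eq_one_right ?_
        rw [← e]; group
      have hm : R.x * R.x ∈ H.Q := by
        rw [e']
        refine inv_mem (mul_mem (H.φQ_mem R es ea ec ex hspan j) ?_)
        rw [ex]
        exact H.conj_Q H.x_L (H.φQ_mem R es ea ec ex hspan j)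
      have : R.x = (R.x * R.x) * (R.x * R.x) := by
        have := R.xx
        rw [pow_succ, pow_two] at this
        rw [← mul_assoc, this, one_mul]
      rw [← ex, this]
      exact mul_mem hm hm
    simp only [Rel.val] at hy hy2 ⊢
    have conjx : ∀ (j : Fin 32) (m : G), R.x * (R.φQ j * m) * R.x⁻¹ = R.φQ (xq j) * (R.x * m * R.x⁻¹) := fun j m => by
      rw [R.φQ_xq]; group
    have hxr : R.x * (R.x * R.r) * R.x⁻¹ = R.r := by
      have hx3 := R.xx
      rw [pow_succ, pow_two] at hx3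
      calc R.x * (R.x * R.r) * R.x⁻¹ = R.x * R.x * (R.r * R.x⁻¹ * R.r⁻¹) * R.r := by group
        _ = R.x * R.x * (R.r * R.x * R.r⁻¹)⁻¹ * R.r := by group
        _ = R.r := by rw [R.rx, inv_inv, hx3, one_mul]
    have hsqc : ∀ z : G, z * z = 1 → R.x * z * R.x⁻¹ * (R.x * z * R.x⁻¹) = 1 := fun z hz => by
      rw [show R.x * z * R.x⁻¹ * (R.x * z * R.x⁻¹) = R.x * (z * z) * R.x⁻¹ by group, hz]; group
    fin_cases σ <;> simp [Rel.φS] at hy2 ⊢
    · exact H.φQ_mem R es ea ec ex hspan k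
    · exact absurd hy2 (hrQ k)
    · exact absurd hy2 (hx1 k)
    · have := hsqc _ hy2
      rw [conjx, hxr] at this
      exact absurd this (hrQ _)
    · exact absurd hy2 (hx2 k)
    · have := hsqc _ (hsqc _ hy2)
      rw [conjx, conjx, show R.x * (R.x * (R.x * R.x * R.r) * R.x⁻¹) * R.x⁻¹ = R.x * (R.x * (R.x * (R.x * R.r) * R.x⁻¹)) * R.x⁻¹ by group,
        hxr, hxr] at this
      exact absurd this (hrQ _)
  obtain ⟨g, hgQ, hgs⟩ := H.hnwc
  obtain ⟨u, hu⟩ := hspan _ hgQ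
  have hs1 := es ▸ h16
  have hu2 : qmul u u = 0 := hinj (by
    rw [R.φQ_mul, hu, h0, show g * H.s * g⁻¹ * (g * H.s * g⁻¹) = g * (H.s * H.s) * g⁻¹ by group, H.ss]; group)
  have hu0 : u ≠ 0 := fun e => H.s_ne (by rw [e, h0, eq_comm, conj_eq_one_iff] at hu; exact hu)
  have hu16 : u ≠ 16 := fun e => hgs (by rw [← hu, e, hs1])
  obtain ⟨y, z, y2, -, z2, -, yu, zu, hyz⟩ := pair_codes u hu2 hu0 hu16
  have hin : ∀ w, qmul w w = 0 → qmul w u = qmul u w → g⁻¹ * R.φQ w * g ∈ H.Q := by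
    intro w w2 wu
    have hc := congrArg R.φQ wu
    rw [R.φQ_mul, R.φQ_mul, hu] at hc
    refine hinv _ (H.mem_L.2 ?_) ?_
    · calc g⁻¹ * R.φQ w * g * H.s = g⁻¹ * (R.φQ w * (g * H.s * g⁻¹)) * g := by group
        _ = _ := by rw [hc]; group
    · rw [show g⁻¹ * R.φQ w * g * (g⁻¹ * R.φQ w * g) = g⁻¹ * (R.φQ w * R.φQ w) * g by group, ← R.φQ_mul, w2, h0]
      group
  obtain ⟨y', hy'⟩ := hspan _ (hin y y2 yu)
  obtain ⟨z', hz'⟩ := hspan _ (hin z z2 zu)
  have e1 : R.φQ (qmul (qmul y' z') (qmul y' z')) = g⁻¹ * H.s * g := by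
    rw [R.φQ_mul, R.φQ_mul, hy', hz', show g⁻¹ * R.φQ y * g * (g⁻¹ * R.φQ z * g) *
      (g⁻¹ * R.φQ y * g * (g⁻¹ * R.φQ z * g)) = g⁻¹ * (R.φQ y * R.φQ z * (R.φQ y * R.φQ z)) * g by group,
      ← R.φQ_mul, ← R.φQ_mul, hyz, hs1]
  rcases sq_codes y' z' with e | e <;> rw [e] at e1
  · rw [h0] at e1
    refine H.s_ne ?_
    calc H.s = g * (g⁻¹ * H.s * g) * g⁻¹ := by group
      _ = 1 := by rw [← e1]; group
  · rw [hs1] at e1
    refine hgs ?_
    conv_lhs => rw [e1]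
    group

end Consequences

end Hyp

end Cfsg.Lib.ExtraEight
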