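import Cfsg.Agent.ExtraEight.LogData

/-! Checks of the logs. -/

set_option autoImplicit false
set_option maxRecDepth 20000
set_option Elab.async false

namespace Cfsg.Lib.ExtraEight

open Cfsg.Lib.M12Cent (Log PT)

theorem logG0_0 : logG0.factsOK 0 400 = true := by decide +kernel
theorem logG0_400 : logG0.factsOK 400 400 = true := by decide +kernel
theorem logG0_800 : logG0.factsOK 800 400 = true := by decide +kernel
theorem logG0_1200 : logG0.factsOK 1200 400 = true := by decide +kernel
theorem logG0_1600 : logG0.factsOK 1600 33 = true := by decide +kernel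
theorem logG0_ok : logG0.factsOK 0 logG0.m = true := by
  rw [show logG0.m = 1633 from rfl]
  have h400 : logG0.factsOK 0 800 = true := Log.factsOK_cat0 logG0 logG0_0 logG0_400 (by norm_num)
  have h800 : logG0.factsOK 0 1200 = true := Log.factsOK_cat0 logG0 h400 logG0_800 (by norm_num)
  have h1200 : logG0.factsOK 0 1600 = true := Log.factsOK_cat0 logG0 h800 logG0_1200 (by norm_num)
  have h1600 : logG0.factsOK 0 1633 = true := Log.factsOK_cat0 logG0 h1200 logG0_1600 (by norm_num)
  exact h1600
theorem logG0_letters : logG0.lettersOK = true := by decide +kernel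
theorem logG0_spec : 1632 < logG0.m ∧ logG0.su 1632 = 0 ∧ logG0.sv 1632 = 0 ∧ logG0.sl 1632 = 6 := by decide +kernel
theorem logG1_0 : logG1.factsOK 0 400 = true := by decide +kernel
theorem logG1_400 : logG1.factsOK 400 400 = true := by decide +kernel
theorem logG1_800 : logG1.factsOK 800 77 = true := by decide +kernel
theorem logG1_ok : logG1.factsOK 0 logG1.m = true := by
  rw [show logG1.m = 877 from rfl]
  have h400 : logG1.factsOK 0 800 = true := Log.factsOK_cat0 logG1 logG1_0 logG1_400 (by norm_num)
  have h800 : logG1.factsOK 0 877 = true := Log.factsOK_cat0 logG1 h400 logG1_800 (by norm_num)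
  exact h800
theorem logG1_letters : logG1.lettersOK = true := by decide +kernel
theorem logG1_spec : 876 < logG1.m ∧ logG1.su 876 = 0 ∧ logG1.sv 876 = 0 ∧ logG1.sl 876 = 6 := by decide +kernel
theorem logG2_0 : logG2.factsOK 0 400 = true := by decide +kernel
theorem logG2_400 : logG2.factsOK 400 400 = true := by decide +kernel
theorem logG2_800 : logG2.factsOK 800 110 = true := by decide +kernel
theorem logG2_ok : logG2.factsOK 0 logG2.m = true := by
  rw [show logG2.m = 910 from rfl]
  have h400 : logG2.factsOK 0 800 = true := Log.factsOK_cat0 logG2 logG2_0 logG2_400 (by norm_num)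
  have h800 : logG2.factsOK 0 910 = true := Log.factsOK_cat0 logG2 h400 logG2_800 (by norm_num)
  exact h800
theorem logG2_letters : logG2.lettersOK = true := by decide +kernel
theorem logG2_spec : 909 < logG2.m ∧ logG2.su 909 = 0 ∧ logG2.sv 909 = 0 ∧ logG2.sl 909 = 6 := by decide +kernel
theorem logG3_0 : logG3.factsOK 0 400 = true := by decide +kernel
theorem logG3_400 : logG3.factsOK 400 400 = true := by decide +kernel
theorem logG3_800 : logG3.factsOK 800 130 = true := by decide +kernel
theorem logG3_ok : logG3.factsOK 0 logG3.m = true := by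
  rw [show logG3.m = 930 from rfl]
  have h400 : logG3.factsOK 0 800 = true := Log.factsOK_cat0 logG3 logG3_0 logG3_400 (by norm_num)
  have h800 : logG3.factsOK 0 930 = true := Log.factsOK_cat0 logG3 h400 logG3_800 (by norm_num)
  exact h800
theorem logG3_letters : logG3.lettersOK = true := by decide +kernel
theorem logG3_spec : 929 < logG3.m ∧ logG3.su 929 = 0 ∧ logG3.sv 929 = 0 ∧ logG3.sl 929 = 6 := by decide +kernel
theorem logH0_0 : logH0.factsOK 0 400 = true := by decide +kernel
theorem logH0_400 : logH0.factsOK 400 307 = true := by decide +kernel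
theorem logH0_ok : logH0.factsOK 0 logH0.m = true := by
  rw [show logH0.m = 707 from rfl]
  have h400 : logH0.factsOK 0 707 = true := Log.factsOK_cat0 logH0 logH0_0 logH0_400 (by norm_num)
  exact h400
theorem logH0_letters : logH0.lettersOK = true := by decide +kernel
theorem logH0_spec : 706 < logH0.m ∧ logH0.su 706 = 0 ∧ logH0.sv 706 = 0 ∧ logH0.sl 706 = 6 := by decide +kernel
theorem logH1_0 : logH1.factsOK 0 400 = true := by decide +kernel
theorem logH1_400 : logH1.factsOK 400 323 = true := by decide +kernel
theorem logH1_ok : logH1.factsOK 0 logH1.m = true := by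
  rw [show logH1.m = 723 from rfl]
  have h400 : logH1.factsOK 0 723 = true := Log.factsOK_cat0 logH1 logH1_0 logH1_400 (by norm_num)
  exact h400
theorem logH1_letters : logH1.lettersOK = true := by decide +kernel
theorem logH1_spec : 722 < logH1.m ∧ logH1.su 722 = 0 ∧ logH1.sv 722 = 0 ∧ logH1.sl 722 = 6 := by decide +kernel
theorem logH2_0 : logH2.factsOK 0 400 = true := by decide +kernel
theorem logH2_400 : logH2.factsOK 400 307 = true := by decide +kernel
theorem logH2_ok : logH2.factsOK 0 logH2.m = true := by
  rw [show logH2.m = 707 from rfl]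
  have h400 : logH2.factsOK 0 707 = true := Log.factsOK_cat0 logH2 logH2_0 logH2_400 (by norm_num)
  exact h400
theorem logH2_letters : logH2.lettersOK = true := by decide +kernel
theorem logH2_spec : 706 < logH2.m ∧ logH2.su 706 = 0 ∧ logH2.sv 706 = 0 ∧ logH2.sl 706 = 6 := by decide +kernel
theorem logH3_0 : logH3.factsOK 0 400 = true := by decide +kernel
theorem logH3_400 : logH3.factsOK 400 298 = true := by decide +kernel
theorem logH3_ok : logH3.factsOK 0 logH3.m = true := by
  rw [show logH3.m = 698 from rfl]
  have h400 : logH3.factsOK 0 698 = true := Log.factsOK_cat0 logH3 logH3_0 logH3_400 (by norm_num)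
  exact h400
theorem logH3_letters : logH3.lettersOK = true := by decide +kernel
theorem logH3_spec : 697 < logH3.m ∧ logH3.su 697 = 0 ∧ logH3.sv 697 = 0 ∧ logH3.sl 697 = 6 := by decide +kernel
theorem logW0_0 : logW0.factsOK 0 400 = true := by decide +kernel
theorem logW0_400 : logW0.factsOK 400 400 = true := by decide +kernel
theorem logW0_800 : logW0.factsOK 800 400 = true := by decide +kernel
theorem logW0_1200 : logW0.factsOK 1200 400 = true := by decide +kernel
theorem logW0_1600 : logW0.factsOK 1600 400 = true := by decide +kernel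
theorem logW0_2000 : logW0.factsOK 2000 400 = true := by decide +kernel
theorem logW0_2400 : logW0.factsOK 2400 400 = true := by decide +kernel
theorem logW0_2800 : logW0.factsOK 2800 177 = true := by decide +kernel
theorem logW0_ok : logW0.factsOK 0 logW0.m = true := by
  rw [show logW0.m = 2977 from rfl]
  have h400 : logW0.factsOK 0 800 = true := Log.factsOK_cat0 logW0 logW0_0 logW0_400 (by norm_num)
  have h800 : logW0.factsOK 0 1200 = true := Log.factsOK_cat0 logW0 h400 logW0_800 (by norm_num)
  have h1200 : logW0.factsOK 0 1600 = true := Log.factsOK_cat0 logW0 h800 logW0_1200 (by norm_num)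
  have h1600 : logW0.factsOK 0 2000 = true := Log.factsOK_cat0 logW0 h1200 logW0_1600 (by norm_num)
  have h2000 : logW0.factsOK 0 2400 = true := Log.factsOK_cat0 logW0 h1600 logW0_2000 (by norm_num)
  have h2400 : logW0.factsOK 0 2800 = true := Log.factsOK_cat0 logW0 h2000 logW0_2400 (by norm_num)
  have h2800 : logW0.factsOK 0 2977 = true := Log.factsOK_cat0 logW0 h2400 logW0_2800 (by norm_num)
  exact h2800
theorem logW0_letters : logW0.lettersOK = true := by decide +kernel
theorem rowsW0_closed : logW0.closedOK rowsW0 = true := Log.closedOK_of_mask (mask := rowsMask) (by decide +kernel)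
theorem rowsW0_len : rowsW0.length = 105 := by decide +kernel
theorem logW1_0 : logW1.factsOK 0 400 = true := by decide +kernel
theorem logW1_400 : logW1.factsOK 400 400 = true := by decide +kernel
theorem logW1_800 : logW1.factsOK 800 80 = true := by decide +kernel
theorem logW1_ok : logW1.factsOK 0 logW1.m = true := by
  rw [show logW1.m = 880 from rfl]
  have h400 : logW1.factsOK 0 800 = true := Log.factsOK_cat0 logW1 logW1_0 logW1_400 (by norm_num)
  have h800 : logW1.factsOK 0 880 = true := Log.factsOK_cat0 logW1 h400 logW1_800 (by norm_num)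
  exact h800
theorem logW1_letters : logW1.lettersOK = true := by decide +kernel
theorem logW1_spec : 879 < logW1.m ∧ logW1.su 879 = 0 ∧ logW1.sv 879 = 0 ∧ logW1.sl 879 = 6 := by decide +kernel
theorem logW2_0 : logW2.factsOK 0 400 = true := by decide +kernel
theorem logW2_400 : logW2.factsOK 400 400 = true := by decide +kernel
theorem logW2_800 : logW2.factsOK 800 36 = true := by decide +kernel
theorem logW2_ok : logW2.factsOK 0 logW2.m = true := by
  rw [show logW2.m = 836 from rfl]
  have h400 : logW2.factsOK 0 800 = true := Log.factsOK_cat0 logW2 logW2_0 logW2_400 (by norm_num)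
  have h800 : logW2.factsOK 0 836 = true := Log.factsOK_cat0 logW2 h400 logW2_800 (by norm_num)
  exact h800
theorem logW2_letters : logW2.lettersOK = true := by decide +kernel
theorem logW2_spec : 835 < logW2.m ∧ logW2.su 835 = 0 ∧ logW2.sv 835 = 0 ∧ logW2.sl 835 = 6 := by decide +kernel
theorem logW3_0 : logW3.factsOK 0 400 = true := by decide +kernel
theorem logW3_400 : logW3.factsOK 400 400 = true := by decide +kernel
theorem logW3_800 : logW3.factsOK 800 26 = true := by decide +kernel
theorem logW3_ok : logW3.factsOK 0 logW3.m = true := by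
  rw [show logW3.m = 826 from rfl]
  have h400 : logW3.factsOK 0 800 = true := Log.factsOK_cat0 logW3 logW3_0 logW3_400 (by norm_num)
  have h800 : logW3.factsOK 0 826 = true := Log.factsOK_cat0 logW3 h400 logW3_800 (by norm_num)
  exact h800
theorem logW3_letters : logW3.lettersOK = true := by decide +kernel
theorem logW3_spec : 825 < logW3.m ∧ logW3.su 825 = 0 ∧ logW3.sv 825 = 0 ∧ logW3.sl 825 = 6 := by decide +kernel

end Cfsg.Lib.ExtraEight
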