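import Cfsg.Agent.ExtraEight.Gens
import Cfsg.Agent.M12Cent.Model

/-!
The two models.
-/

set_option autoImplicit false
set_option linter.unusedSectionVars false
set_option maxRecDepth 10000

namespace Cfsg.Lib.ExtraEight

open Subgroup

/-- the model of alternating type -/
def MA : Type := Fin 192
deriving DecidableEq, Fintype

/-- the code -/
def MA.val (x : MA) : ℕ := Fin.val (n := 192) x

/-- from a code -/
def MA.mk (i : ℕ) : MA := (⟨i % 192, Nat.mod_lt _ (by norm_num)⟩ : Fin 192)

/-- the part in the two-group -/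
def qp (x : MA) : Fin 32 := ⟨x.val / 6, Nat.div_lt_of_lt_mul x.isLt⟩
/-- the part in the complement -/
def sp (x : MA) : Fin 6 := ⟨x.val % 6, Nat.mod_lt _ (by norm_num)⟩
/-- the pair -/
def toP (x : MA) : Fin 32 × Fin 6 := (qp x, sp x)
/-- the code of a pair -/
def pr (p : Fin 32 × Fin 6) : MA := (⟨p.1.val * 6 + p.2.val, by omega⟩ : Fin 192)

theorem toP_pr : ∀ p : Fin 32 × Fin 6, toP (pr p) = p := by decide +kernel

theorem pr_toP : ∀ x : MA, pr (toP x) = x := by decide +kernel

/-- product -/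
def mulA (x y : MA) : MA := pr (Rel.mulP true (toP x) (toP y))

/-- inverse -/
def invA (x : MA) : MA := MA.mk (get invATab 8 x.val)

instance : One MA := ⟨MA.mk 0⟩
instance : Mul MA := ⟨mulA⟩
instance : Inv MA := ⟨invA⟩

theorem qmul_assoc : ∀ a b c : Fin 32, qmul (qmul a b) c = qmul a (qmul b c) := by decide +kernel
theorem smul6_assoc : ∀ a b c : Fin 6, smul6 (smul6 a b) c = smul6 a (smul6 b c) := by decide +kernel
theorem qact_mul : ∀ sw, ∀ s : Fin 6, ∀ a b : Fin 32, qact sw s (qmul a b) = qmul (qact sw s a) (qact sw s b) := by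
  decide +kernel
theorem qact_act : ∀ sw, ∀ s t : Fin 6, ∀ a : Fin 32, qact sw (smul6 s t) a = qact sw s (qact sw t a) := by
  decide +kernel
theorem one_mulA : ∀ x : MA, mulA (MA.mk 0) x = x := by decide +kernel
theorem inv_mulA : ∀ x : MA, mulA (invA x) x = MA.mk 0 := by decide +kernel

instance instGroupMA : Group MA :=
  Group.ofLeftAxioms
    (fun x y z => by
      show mulA (mulA x y) z = mulA x (mulA y z)
      simp only [mulA, Rel.mulP, toP_pr, smul6_assoc, qact_mul, qact_act, qmul_assoc])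
    (fun x => one_mulA x)
    (fun x => inv_mulA x)

theorem card_MA : Nat.card MA = 192 := Nat.card_fin 192

/-- the identification with the model of the Mathieu type -/
def theta (m : M12Cent.M) : Fin 32 × Fin 6 := toP (MA.mk (get thetaTab 8 m.val))

theorem theta_mul : ∀ m n : M12Cent.M, theta (m * n) = Rel.mulP false (theta m) (theta n) := by decide +kernel

theorem theta_surj : ∀ p : Fin 32 × Fin 6, ∃ m, theta m = p := by decide +kernel

variable {G : Type*} [Group G] [Finite G]

namespace Hyp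

variable (H : Hyp G)

theorem exists_model : (∃ φ : M12Cent.M →* G, Function.Injective φ ∧ φ.range = centralizer {H.s}) ∨
    ∃ φ : MA →* G, Function.Injective φ ∧ φ.range = centralizer {H.s} ∧
      φ (MA.mk 96) = H.s ∧ ∀ q ∈ H.Q, ∃ m, m.val % 6 = 0 ∧ φ m = q := by
  obtain ⟨sw, R, es, ea, ec, er, ex, hspan, hall⟩ := H.exists_rel
  have hr := H.r_sq R es ea ec er ex hspan hall
  have hQL : ∀ p, R.val p ∈ H.L := fun p => by
    refine mul_mem (H.Q_le_L (H.φQ_mem R es ea ec ex hspan _)) ?_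
    obtain ⟨-, σ⟩ := p
    have hx : R.x ∈ H.L := ex ▸ H.x_L
    fin_cases σ
    exacts [one_mem _, er, hx, mul_mem hx er, mul_mem hx hx, mul_mem (mul_mem hx hx) er]
  have fin' : ∀ {K : Type} [Group K], Nat.card K = 192 → ∀ θ : K → Fin 32 × Fin 6,
      (∀ m n, θ (m * n) = Rel.mulP sw (θ m) (θ n)) → (∀ p, ∃ m, θ m = p) →
      ∃ φ : K →* G, Function.Injective φ ∧ φ.range = centralizer {H.s} ∧ ∀ m, φ m = R.val (θ m) := by
    intro K _ hK θ hmul hsurj
    haveI : Finite K := Nat.finite_of_card_ne_zero (by omega)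
    let φ : K →* G := MonoidHom.mk' (fun m => R.val (θ m)) fun m n => by rw [hmul, R.val_mul hr]
    have hrange : φ.range = H.L := by
      refine le_antisymm ?_ fun y hy => ?_
      · rintro _ ⟨m, rfl⟩; exact hQL _
      · obtain ⟨p, hp⟩ := hall y hy
        obtain ⟨m, rfl⟩ := hsurj p
        exact ⟨m, hp⟩
    refine ⟨φ, ?_, hrange.trans H.hL, fun m => rfl⟩
    have hb : Function.Bijective φ.rangeRestrict :=
      (Nat.bijective_iff_surjective_and_card _).2 ⟨φ.rangeRestrict_surjective, by rw [hK, hrange, H.card_L]⟩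
    exact fun a b h => hb.1 (Subtype.ext h)
  cases sw
  · obtain ⟨φ, h1, h2, -⟩ := fin' M12Cent.card_M theta theta_mul theta_surj
    exact Or.inl ⟨φ, h1, h2⟩
  · obtain ⟨φ, h1, h2, h3⟩ := fin' card_MA toP (fun m n => toP_pr _) fun p => ⟨_, toP_pr p⟩
    refine Or.inr ⟨φ, h1, h2, ?_, fun q hq => ?_⟩
    swap
    · obtain ⟨k, rfl⟩ := hspan q hq
      refine ⟨pr (k, 0), ?_, ?_⟩
      · have := congrArg (fun p : Fin 32 × Fin 6 => p.2.val) (toP_pr (k, 0))
        exact this
      · rw [h3, toP_pr]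
        simp [Rel.val, Rel.φS]
    rw [h3, ← es]
    have : toP (MA.mk 96) = (16, 0) := by decide +kernel
    rw [this]
    simp [Rel.val, Rel.φQ, Rel.sg, Rel.uA, Rel.uC, Rel.φS, eOf, uOf, vOf]

end Hyp

end Cfsg.Lib.ExtraEight
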