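import Cfsg.Agent.ExtraEight.Swaps
import Cfsg.Agent.ExtraEight.LogFacts

/-!
The relations bound the group they generate.
-/

set_option autoImplicit false
set_option linter.unusedSectionVars false
set_option maxRecDepth 20000

namespace Cfsg.Lib.ExtraEight

open Subgroup
open Cfsg.Lib.M12Cent (Log)

/-- the letters of the model -/
def gsA : List MA := [MA.mk 1, (MA.mk 1)⁻¹, MA.mk 2, (MA.mk 2)⁻¹, MA.mk 6, (MA.mk 6)⁻¹]

/-- letters of the model only -/
def lowA (w : List ℕ) : Bool := w.all fun l => decide (l < 6)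

/-- value in the model -/
def evA (w : List ℕ) : MA := (w.map fun j => gsA.getD j 1).prod

theorem low_rels : ∀ r ∈ lowRels, lowA r = true ∧ evA r = 1 := by decide +kernel

theorem gpair_values : ∀ p ∈ gPairs, lowA p.1 = true ∧ lowA p.2 = true ∧
    evA p.1 * uS false = uS false * evA p.1 ∧ imgS false (evA p.1) * evA p.2 = 1 := by decide +kernel

theorem hpair_values : ∀ p ∈ hPairs, lowA p.1 = true ∧ lowA p.2 = true ∧
    evA p.1 * uS true = uS true * evA p.1 ∧ imgS true (evA p.1) * evA p.2 = 1 := by decide +kernel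

theorem word_values : lowA w34 = true ∧ evA w34 = nS false ∧ lowA w44 = true ∧ evA w44 = nS true ∧
    lowA wA = true ∧ evA wA = mA ∧ lowA v1W = true ∧ evA v1W * vS false = 1 ∧
    lowA v2W = true ∧ evA v2W * vS true = 1 ∧
    ∀ i : Fin 4, lowA (w2W.getD i.val []) = true ∧ evA (w2W.getD i.val []) * MA.mk (w2C.getD i.val 0) = 1 := by
  decide +kernel

/-- the model inside with two swaps -/
structure Gen (X : Type*) [Group X] where
  /-- the model inside -/
  ψ : MA →* X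
  /-- first swap -/
  g : X
  /-- second swap -/
  h : X
  gg : g * g = 1
  hh : h * h = 1
  gk : ∀ x : MA, x * uS false = uS false * x → g * ψ x * g = ψ (imgS false x)
  hk : ∀ x : MA, x * uS true = uS true * x → h * ψ x * h = ψ (imgS true x)

namespace Gen

variable {X : Type*} [Group X] (A : Gen X)

/-- the letters -/
def im (l : ℕ) : X :=
  [A.ψ (MA.mk 1), A.ψ (MA.mk 1)⁻¹, A.ψ (MA.mk 2), A.ψ (MA.mk 2)⁻¹, A.ψ (MA.mk 6), A.ψ (MA.mk 6)⁻¹, A.g, A.h].getD l 1

/-- the subgroup generated by the letters -/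
def L : Subgroup X := closure (A.im '' Set.Iio 8)

variable (C : Log)

theorem wv_append (a b : List ℕ) : C.wv A.im (a ++ b) = C.wv A.im a * C.wv A.im b := by
  simp [Log.wv]

theorem wv_cons (a : ℕ) (b : List ℕ) : C.wv A.im (a :: b) = C.val A.im a * C.wv A.im b := by
  simp [Log.wv]

theorem wv_nil : C.wv A.im [] = 1 := rfl

theorem wv_low (hng : C.ng = 8) : ∀ w : List ℕ, lowA w = true → C.wv A.im w = A.ψ (evA w)
  | [], _ => (map_one A.ψ).symm
  | l :: w, h => by
    simp only [lowA, List.all_cons, Bool.and_eq_true, decide_eq_true_eq] at h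
    rw [wv_cons, wv_low hng w h.2, evA, evA, List.map_cons, List.prod_cons, map_mul, Log.val, if_pos (by omega)]
    congr 1
    obtain ⟨hl, -⟩ := h
    interval_cases l <;> rfl

theorem val6 (hng : C.ng = 8) : C.val A.im 6 = A.g := by rw [Log.val, if_pos (by omega)]; rfl
theorem val7 (hng : C.ng = 8) : C.val A.im 7 = A.h := by rw [Log.val, if_pos (by omega)]; rfl

theorem rel_base (hng : C.ng = 8) : ∀ r ∈ baseR, C.wv A.im r = 1 := by
  have lo := A.wv_low C hng
  have v6 := A.val6 C hng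
  have v7 := A.val7 C hng
  intro r hr
  simp only [baseR, List.mem_append, List.mem_map, List.mem_cons, List.not_mem_nil, or_false] at hr
  rcases hr with ((hr | rfl | rfl) | ⟨p, hp, rfl⟩) | ⟨p, hp, rfl⟩
  · rw [lo r (low_rels r hr).1, (low_rels r hr).2, map_one]
  · rw [wv_cons, wv_cons, wv_nil, v6, mul_one, A.gg]
  · rw [wv_cons, wv_cons, wv_nil, v7, mul_one, A.hh]
  · obtain ⟨q1, q2, q3, q4⟩ := gpair_values p hp
    rw [wv_cons, wv_append, wv_cons, lo _ q1, lo _ q2, v6, ← mul_assoc, ← mul_assoc, A.gk _ q3, ← map_mul, q4, map_one]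
  · obtain ⟨q1, q2, q3, q4⟩ := hpair_values p hp
    rw [wv_cons, wv_append, wv_cons, lo _ q1, lo _ q2, v7, ← mul_assoc, ← mul_assoc, A.hk _ q3, ← map_mul, q4, map_one]

theorem rel_cubeG (hng : C.ng = 8) {v : List ℕ} (hv : lowA v = true)
    (h : (A.g * A.ψ (nS false)) ^ 3 * A.ψ (evA v) = 1) : C.wv A.im (cubeG v) = 1 := by
  obtain ⟨a, b, -⟩ := word_values
  rw [← h, cubeG]
  simp only [wv_append, wv_cons, A.val6 C hng, A.wv_low C hng _ a, A.wv_low C hng _ hv, b]
  simp only [pow_succ, pow_zero, one_mul, mul_assoc]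

theorem rel_cubeH (hng : C.ng = 8) {v : List ℕ} (hv : lowA v = true)
    (h : (A.h * A.ψ (nS true)) ^ 3 * A.ψ (evA v) = 1) : C.wv A.im (cubeH v) = 1 := by
  obtain ⟨-, -, a, b, -⟩ := word_values
  rw [← h, cubeH]
  simp only [wv_append, wv_cons, A.val7 C hng, A.wv_low C hng _ a, A.wv_low C hng _ hv, b]
  simp only [pow_succ, pow_zero, one_mul, mul_assoc]

theorem rel_cubeGH (hng : C.ng = 8) (h : (A.g * A.h) ^ 3 = 1) : C.wv A.im cubeGH = 1 := by
  rw [← h, cubeGH]
  simp only [wv_cons, wv_nil, A.val6 C hng, A.val7 C hng, mul_one]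
  simp only [pow_succ, pow_zero, one_mul, mul_assoc]

theorem rel_squareA (hng : C.ng = 8) (i : Fin 4)
    (h : (A.g * A.ψ mA * A.h) ^ 2 = A.ψ (MA.mk (w2C.getD i.val 0))) : C.wv A.im (squareA i.val) = 1 := by
  obtain ⟨-, -, -, -, a, b, -, -, -, -, hw⟩ := word_values
  obtain ⟨hw1, hw2⟩ := hw i
  rw [squareA]
  simp only [wv_append, wv_cons, wv_nil, A.val6 C hng, A.val7 C hng, A.wv_low C hng _ a,
    A.wv_low C hng _ hw1, b, mul_one, eq_inv_of_mul_eq_one_left hw2, map_inv, ← h]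
  simp only [pow_succ, pow_zero, one_mul, mul_assoc]
  group

theorem sound (hng : C.ng = 8) (hiv : C.iv = [1, 0, 3, 2, 5, 4, 6, 7]) (hsubs : C.subs = [0, 1, 2, 3, 4, 5])
    (hlet : C.lettersOK = true) {K : Subgroup X} (hK : A.ψ.range ≤ K)
    (hrel : ∀ r ∈ C.rels, C.wv A.im r = 1) : C.Sound A.im K := by
  refine ⟨hlet, fun l hl => ?_, hrel, fun l hl => ?_⟩
  · rw [hng] at hl
    rw [Log.inv, if_pos (by omega), hiv]
    interval_cases l <;> simp [im, map_inv, inv_eq_of_mul_eq_one_right A.gg, inv_eq_of_mul_eq_one_right A.hh]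
  · rw [hsubs] at hl
    simp only [List.mem_cons, List.not_mem_nil, or_false] at hl
    rcases hl with rfl | rfl | rfl | rfl | rfl | rfl <;> rw [Log.val, if_pos (by omega)] <;> exact hK ⟨_, rfl⟩

theorem collapse (hng : C.ng = 8) (hiv : C.iv = [1, 0, 3, 2, 5, 4, 6, 7]) (hsubs : C.subs = [0, 1, 2, 3, 4, 5])
    (hlet : C.lettersOK = true) (hok : C.factsOK 0 C.m = true)
    {j : ℕ} (hj : j < C.m ∧ C.su j = 0 ∧ C.sv j = 0 ∧ C.sl j = 6)
    (hrel : ∀ r ∈ C.rels, C.wv A.im r = 1) : A.g ∈ A.ψ.range := by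
  have h := (A.sound C hng hiv hsubs hlet (le_refl A.ψ.range) hrel).all_hold hok _ hj.1
  rw [Log.Holds, hj.2.1, hj.2.2.1, hj.2.2.2, Log.rep_zero, one_mul, inv_one, mul_one, A.val6 C hng] at h
  exact h

theorem closed_case (hgh : (A.g * A.h) ^ 3 = 1)
    (hcg : (A.g * A.ψ (nS false)) ^ 3 = 1 ∨ (A.g * A.ψ (nS false)) ^ 3 = A.ψ (vS false))
    (hch : (A.h * A.ψ (nS true)) ^ 3 = 1 ∨ (A.h * A.ψ (nS true)) ^ 3 = A.ψ (vS true))
    {i : Fin 4} (hsq : (A.g * A.ψ mA * A.h) ^ 2 = A.ψ (MA.mk (w2C.getD i.val 0))) (hout : A.g ∉ A.ψ.range) :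
    (A.g * A.ψ (nS false)) ^ 3 = 1 ∧ (A.h * A.ψ (nS true)) ^ 3 = 1 ∧ i = 0 := by
  obtain ⟨-, -, -, -, -, -, a1, b1, a2, b2, -⟩ := word_values
  have mem3 : ∀ (C : Log) (e1 : List ℕ) (j : ℕ), C.rels = baseR ++ [e1, cubeGH, squareA j] → C.ng = 8 → j = i.val →
      C.wv A.im e1 = 1 → ∀ r ∈ C.rels, C.wv A.im r = 1 := by
    intro C e1 j hC hng hj he r hr
    rw [hC, List.mem_append] at hr
    rcases hr with hr | hr
    · exact A.rel_base C hng r hr
    simp only [List.mem_cons, List.not_mem_nil, or_false] at hr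
    rcases hr with rfl | rfl | rfl
    exacts [he, A.rel_cubeGH C hng hgh, hj ▸ A.rel_squareA C hng i hsq]
  have n1 : (A.g * A.ψ (nS false)) ^ 3 ≠ A.ψ (vS false) := by
    intro e
    have hc : ∀ C : Log, C.ng = 8 → C.wv A.im (cubeG v1W) = 1 := fun C hng => A.rel_cubeG C hng a1 (by
      rw [e, eq_inv_of_mul_eq_one_left b1, map_inv, mul_inv_cancel])
    refine hout ?_
    fin_cases i
    exacts [A.collapse logG0 rfl rfl rfl logG0_letters logG0_ok logG0_spec (mem3 _ _ 0 rfl rfl rfl (hc _ rfl)),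
      A.collapse logG1 rfl rfl rfl logG1_letters logG1_ok logG1_spec (mem3 _ _ 1 rfl rfl rfl (hc _ rfl)),
      A.collapse logG2 rfl rfl rfl logG2_letters logG2_ok logG2_spec (mem3 _ _ 2 rfl rfl rfl (hc _ rfl)),
      A.collapse logG3 rfl rfl rfl logG3_letters logG3_ok logG3_spec (mem3 _ _ 3 rfl rfl rfl (hc _ rfl))]
  have n2 : (A.h * A.ψ (nS true)) ^ 3 ≠ A.ψ (vS true) := by
    intro e
    have hc : ∀ C : Log, C.ng = 8 → C.wv A.im (cubeH v2W) = 1 := fun C hng => A.rel_cubeH C hng a2 (by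
      rw [e, eq_inv_of_mul_eq_one_left b2, map_inv, mul_inv_cancel])
    refine hout ?_
    fin_cases i
    exacts [A.collapse logH0 rfl rfl rfl logH0_letters logH0_ok logH0_spec (mem3 _ _ 0 rfl rfl rfl (hc _ rfl)),
      A.collapse logH1 rfl rfl rfl logH1_letters logH1_ok logH1_spec (mem3 _ _ 1 rfl rfl rfl (hc _ rfl)),
      A.collapse logH2 rfl rfl rfl logH2_letters logH2_ok logH2_spec (mem3 _ _ 2 rfl rfl rfl (hc _ rfl)),
      A.collapse logH3 rfl rfl rfl logH3_letters logH3_ok logH3_spec (mem3 _ _ 3 rfl rfl rfl (hc _ rfl))]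
  have g1 := hcg.resolve_right n1
  have h1 := hch.resolve_right n2
  refine ⟨g1, h1, ?_⟩
  by_contra hi
  have mem4 : ∀ (C : Log) (j : ℕ), C.rels = baseR ++ [cubeG [], cubeH [], cubeGH, squareA j] → C.ng = 8 → j = i.val →
      ∀ r ∈ C.rels, C.wv A.im r = 1 := by
    intro C j hC hng hj r hr
    rw [hC, List.mem_append] at hr
    rcases hr with hr | hr
    · exact A.rel_base C hng r hr
    simp only [List.mem_cons, List.not_mem_nil, or_false] at hr
    rcases hr with rfl | rfl | rfl | rfl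
    exacts [A.rel_cubeG C hng rfl (by rw [g1]; simp [evA]), A.rel_cubeH C hng rfl (by rw [h1]; simp [evA]),
      A.rel_cubeGH C hng hgh, hj ▸ A.rel_squareA C hng i hsq]
  refine hout ?_
  fin_cases i
  exacts [absurd rfl hi,
    A.collapse logW1 rfl rfl rfl logW1_letters logW1_ok logW1_spec (mem4 _ 1 rfl rfl rfl),
    A.collapse logW2 rfl rfl rfl logW2_letters logW2_ok logW2_spec (mem4 _ 2 rfl rfl rfl),
    A.collapse logW3 rfl rfl rfl logW3_letters logW3_ok logW3_spec (mem4 _ 3 rfl rfl rfl)]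

theorem card_L [Finite X] (hgh : (A.g * A.h) ^ 3 = 1) (g1 : (A.g * A.ψ (nS false)) ^ 3 = 1)
    (h1 : (A.h * A.ψ (nS true)) ^ 3 = 1) (hsq : (A.g * A.ψ mA * A.h) ^ 2 = 1) : Nat.card A.L ≤ 20160 := by
  have hsq' : (A.g * A.ψ mA * A.h) ^ 2 = A.ψ (MA.mk (w2C.getD (0 : Fin 4).val 0)) := by
    rw [hsq, show MA.mk (w2C.getD (0 : Fin 4).val 0) = 1 from rfl, map_one]
  have hrel : ∀ r ∈ logW0.rels, logW0.wv A.im r = 1 := by
    intro r hr
    change r ∈ baseR ++ [cubeG [], cubeH [], cubeGH, squareA 0] at hr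
    rw [List.mem_append] at hr
    rcases hr with hr | hr
    · exact A.rel_base logW0 rfl r hr
    simp only [List.mem_cons, List.not_mem_nil, or_false] at hr
    rcases hr with rfl | rfl | rfl | rfl
    exacts [A.rel_cubeG logW0 rfl rfl (by rw [g1]; simp [evA]), A.rel_cubeH logW0 rfl rfl (by rw [h1]; simp [evA]),
      A.rel_cubeGH logW0 rfl hgh, A.rel_squareA logW0 rfl 0 hsq']
  have h := (A.sound logW0 rfl rfl rfl logW0_letters (le_refl A.ψ.range) hrel).card_le logW0_ok rowsW0_closed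
    (L := A.L) (le_of_eq rfl)
  rw [rowsW0_len] at h
  refine h.trans ((Nat.mul_le_mul_left 105 (?_ : Nat.card A.ψ.range ≤ 192)).trans (le_of_eq rfl))
  rw [← card_MA]
  exact Nat.card_le_card_of_surjective A.ψ.rangeRestrict A.ψ.rangeRestrict_surjective

end Gen

end Cfsg.Lib.ExtraEight
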