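/-! Tables for the two extensions of an extraspecial group of order thirty-two (machine generated). -/

set_option autoImplicit false

namespace Cfsg.Lib.ExtraEight

def qTab : Nat := 0x653216d7c654be75cf84443a54c74275b637df88072a90f64e36a6f3ee0c2622d2e6ca17aeb1fe14c1135c95d2f09f3f8d90e01b1e8556d1977d9d9ca30bdab45a9287b9ac18820398a4deb38ffbbca54c700653637dfc654b216d784443e75cf4275b2d2e688072eb1fe4e36aa90f60c2626f3eeca17ab1e8514c1177d9dd2f0935c9590e01f3f8d56d19398a49ca30ffbbc5a928bdab4188207b9acdeb384275be75cf00653a54c7c654b637df84443216d7ca17a6f3ee880722d2e64e36aeb1fe0c262a90f656d19f3f8d14c11b1e85d2f0977d9d90e0135c95deb387b9ac9ca30398a45a928ffbbc18820bdab4e75cfc654ba54c784443637df4275b216d7006536f3ee4e36a2d2e60c262eb1feca17aa90f688072f3f8dd2f09b1e8590e0177d9d56d1935c9514c117b9ac5a928398a418820ffbbcdeb38bdab49ca3084443a54c74275b637df00653216d7c654be75cf0c2622d2e6ca17aeb1fe88072a90f64e36a6f3ee90e01b1e8556d1977d9d14c1135c95d2f09f3f8d18820398a4deb38ffbb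c9ca30bdab45a9287b9ac216d784443e75cf4275ba54c700653637dfc654ba90f60c2626f3eeca17a2d2e688072eb1fe4e36a35c9590e01f3f8d56d19b1e8514c1177d9dd2f09bdab4188207b9acdeb38398a49ca30ffbbc5a928c654b637df84443216d74275be75cf00653a54c74e36aeb1fe0c262a90f6ca17a6f3ee880722d2e6d2f0977d9d90e0135c9556d19f3f8d14c11b1e855a928ffbbc18820bdab4deb387b9ac9ca30398a4637df4275b216d700653e75cfc654ba54c784443eb1feca17aa90f6880726f3ee4e36a2d2e60c26277d9d56d1935c9514c11f3f8dd2f09b1e8590e01ffbbcdeb38bdab49ca307b9ac5a928398a418820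
def unitTab : Nat := 0x95333ace1688
def xTab : Nat := 0xaded4effdccef588ce5029cc46bdcc4ad4808c40
def fixTab : Nat := 0xd6f28f7facb5ea410c3052d3873dbc31cb494e20
def swapTab : Nat := 0xd7ac2dfee3cf6a143090538d25bcf34b4b1c7280
def fixActTab : Nat := 0xadae4ceb68efbec08870298f44a9786b9fc8ca60d6778b56f4f77fc9467052568314e4735ec10460ff7ccbd6c4de748184507b5dc394d45a5589c640aded4effdccef588ce5029cc46bdcc4ad4808c40d6f28f7facb5ea410c3052d3873dbc31cb494e20ffbbcdeb38bdab49ca307b9ac5a928398a418820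
def swapActTab : Nat := 0xae7a1b6bc2befe3221902a5b1329d23adf3a6380d6778b56f4f77fc9467052568314e4735ec10460fdf63ed721f5b426111079d736953171952e5300aded4effdccef588ce5029cc46bdcc4ad4808c40d7ac2dfee3cf6a143090538d25bcf34b4b1c7280ffbbcdeb38bdab49ca307b9ac5a928398a418820
def sixTab : Nat := 0x5395a22c9414c8b1a4e506c688
def invATab : Nat := 0x8380bda09dba9b8c8d9ab5b4b386a5a685ae6b1a75346d4889b0b188a3a2a1bc8182bb9cb9b6998e8b96714a691c73308f98b7b8978aa7a487b2af84bf9e9fbe7f7e77326f4c67187d08ab10911295147b0aa90cad0e9316790665626364616023205d403d5a3b2c2d3a555453264546254e0b7a15940da8295051284342415c21225b3c5956392e2b3611aa097c13902f385758372a474427524f245f3e3f5e1f1e17920fac07781d684b70317235741b6a496c4d6e33761966050203040100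

def thetaTab : Nat := 0x77bd2bbe2c722fa513a6142a175d8b5e8c125f75a376a45aa78dbb8ebca28f457346748a472d5b2e5c42bf15431644ba299f0da00e2411578558860c893f6d406e84a187b588b69cb90f3d103eb471b725b8266c596f9d709e5441275528563c3b214f225036b309370a38ae9b81af82b0962399079a081e6bb11fb220665369976a984e0b517f5280068339673a687ead03310432a8957ba97caa904d63916492487d3361346278351b491c4a301d930194021865ab19ac1a60054b794c7a00

end Cfsg.Lib.ExtraEight
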