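import Mathlib
import Cfsg.Agent.ExtraEight.Tables

/-!
The two extensions `2^{1+4}.Sym₃` by generators and relations.
-/

set_option autoImplicit false
set_option linter.unusedSectionVars false
set_option maxRecDepth 10000

namespace Cfsg.Lib.ExtraEight

/-- field `i` of width `w` -/
def get (tab w i : ℕ) : ℕ := (tab >>> (w * i)) % 2 ^ w

/-- product of the two-group -/
def qmul (a b : Fin 32) : Fin 32 := ⟨get qTab 5 (a.val * 32 + b.val) % 32, Nat.mod_lt _ (by norm_num)⟩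
/-- product of the complement -/
def smul6 (a b : Fin 6) : Fin 6 := ⟨get sixTab 3 (a.val * 6 + b.val) % 6, Nat.mod_lt _ (by norm_num)⟩
/-- the element of order three on the two-group -/
def xq (a : Fin 32) : Fin 32 := ⟨get xTab 5 a.val % 32, Nat.mod_lt _ (by norm_num)⟩
/-- the involution on the two-group -/
def tq (sw : Bool) (a : Fin 32) : Fin 32 :=
  ⟨get (if sw then swapTab else fixTab) 5 a.val % 32, Nat.mod_lt _ (by norm_num)⟩
/-- the complement on the two-group -/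
def qact (sw : Bool) (t : Fin 6) (a : Fin 32) : Fin 32 :=
  ⟨get (if sw then swapActTab else fixActTab) 5 (t.val * 32 + a.val) % 32, Nat.mod_lt _ (by norm_num)⟩

/-- coordinates of the two-group -/
def eOf (a : Fin 32) : Bool := decide (16 ≤ a.val)
/-- first unit -/
def uOf (a : Fin 32) : Fin 4 := ⟨a.val / 4 % 4, Nat.mod_lt _ (by norm_num)⟩
/-- second unit -/
def vOf (a : Fin 32) : Fin 4 := ⟨a.val % 4, Nat.mod_lt _ (by norm_num)⟩
/-- sign of the product of units -/
def sgU (a b : Fin 4) : Bool := (get unitTab 3 (a.val * 4 + b.val)).testBit 2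
/-- product of units -/
def mulU (a b : Fin 4) : Fin 4 := ⟨get unitTab 3 (a.val * 4 + b.val) % 4, Nat.mod_lt _ (by norm_num)⟩
/-- the cycle of units -/
def rot : Fin 4 → Fin 4 := ![0, 2, 3, 1]
/-- the transposition of units -/
def tw : Fin 4 → Fin 4 := ![0, 1, 3, 2]

theorem qmul_coords : ∀ a b : Fin 32,
    eOf (qmul a b) = (eOf a ^^ eOf b ^^ sgU (uOf a) (uOf b) ^^ sgU (vOf a) (vOf b)) ∧
    uOf (qmul a b) = mulU (uOf a) (uOf b) ∧ vOf (qmul a b) = mulU (vOf a) (vOf b) := by decide +kernel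

theorem xq_coords : ∀ a : Fin 32, eOf (xq a) = eOf a ∧ uOf (xq a) = rot (uOf a) ∧ vOf (xq a) = rot (vOf a) := by
  decide +kernel

theorem tq_coords : ∀ a : Fin 32, eOf (tq false a) = (eOf a ^^ (uOf a != 0) ^^ (vOf a != 0)) ∧
    uOf (tq false a) = tw (uOf a) ∧ vOf (tq false a) = tw (vOf a) ∧
    eOf (tq true a) = (eOf a ^^ (uOf a != 0) ^^ (vOf a != 0)) ∧
    uOf (tq true a) = tw (vOf a) ∧ vOf (tq true a) = tw (uOf a) := by decide +kernel

theorem qact_six : ∀ sw : Bool, ∀ a : Fin 32, qact sw 0 a = a ∧ qact sw 1 a = tq sw a ∧ qact sw 2 a = xq a ∧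
    qact sw 3 a = xq (tq sw a) ∧ qact sw 4 a = xq (xq a) ∧ qact sw 5 a = xq (xq (tq sw a)) := by decide +kernel

theorem smul6_table : ∀ a b : Fin 6, ((a, b, smul6 a b) : Fin 6 × Fin 6 × Fin 6) ∈
    [(0, 0, 0), (0, 1, 1), (0, 2, 2), (0, 3, 3), (0, 4, 4), (0, 5, 5), (1, 0, 1), (1, 1, 0), (1, 2, 5), (1, 3, 4),
     (1, 4, 3), (1, 5, 2), (2, 0, 2), (2, 1, 3), (2, 2, 4), (2, 3, 5), (2, 4, 0), (2, 5, 1), (3, 0, 3), (3, 1, 2),
     (3, 2, 1), (3, 3, 0), (3, 4, 5), (3, 5, 4), (4, 0, 4), (4, 1, 5), (4, 2, 0), (4, 3, 1), (4, 4, 2), (4, 5, 3),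
     (5, 0, 5), (5, 1, 4), (5, 2, 3), (5, 3, 2), (5, 4, 1), (5, 5, 0)] := by decide +kernel

variable {G : Type*} [Group G]

/-- two commuting quaternion pairs, an element of order three and an inverting involution -/
structure Rel (G : Type*) [Group G] (sw : Bool) where
  /-- the central involution -/
  s : G
  /-- first pair -/
  a : G
  /-- first pair -/
  b : G
  /-- second pair -/
  c : G
  /-- second pair -/
  d : G
  /-- the element of order three -/
  x : G
  /-- the inverting involution -/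
  r : G
  ss : s * s = 1
  aa : a * a = s
  bb : b * b = s
  ba : b * a = s * (a * b)
  cc : c * c = s
  dd : d * d = s
  dc : d * c = s * (c * d)
  ac : a * c = c * a
  ad : a * d = d * a
  bc : b * c = c * b
  bd : b * d = d * b
  xx : x ^ 3 = 1
  xa : x * a * x⁻¹ = b
  xb : x * b * x⁻¹ = a * b
  xc : x * c * x⁻¹ = d
  xd : x * d * x⁻¹ = c * d
  rr : r * r = 1 ∨ r * r = s
  rx : r * x * r⁻¹ = x⁻¹
  ra : r * a * r⁻¹ = s * if sw then c else a
  rb : r * b * r⁻¹ = s * if sw then c * d else a * b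
  rc : r * c * r⁻¹ = s * if sw then a else c
  rd : r * d * r⁻¹ = s * if sw then a * b else c * d

namespace Rel

variable {sw : Bool} (R : Rel G sw)

/-- power of the central involution -/
def sg (e : Bool) : G := if e then R.s else 1

theorem sg_mul (e f : Bool) : R.sg e * R.sg f = R.sg (e ^^ f) := by
  cases e <;> cases f <;> simp [sg, R.ss]

theorem sa : Commute R.s R.a := by show _ = _; rw [← R.aa, mul_assoc]
theorem sb : Commute R.s R.b := by show _ = _; rw [← R.bb, mul_assoc]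
theorem sc : Commute R.s R.c := by show _ = _; rw [← R.cc, mul_assoc]
theorem sd : Commute R.s R.d := by show _ = _; rw [← R.dd, mul_assoc]

theorem xs : R.x * R.s * R.x⁻¹ = R.s := by
  conv_lhs => rw [← R.aa]
  calc R.x * (R.a * R.a) * R.x⁻¹ = (R.x * R.a * R.x⁻¹) * (R.x * R.a * R.x⁻¹) := by group
    _ = R.s := by rw [R.xa, R.bb]

theorem rs : R.r * R.s * R.r⁻¹ = R.s := by
  conv_lhs => rw [← R.aa]
  calc R.r * (R.a * R.a) * R.r⁻¹ = (R.r * R.a * R.r⁻¹) * (R.r * R.a * R.r⁻¹) := by group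
    _ = R.s := by
      rw [R.ra]
      cases sw
      · simp only [Bool.false_eq_true, if_false]
        rw [mul_assoc, ← mul_assoc R.a, ← R.sa.eq, mul_assoc R.s R.a, R.aa, R.ss, mul_one]
      · simp only [if_true]
        rw [mul_assoc, ← mul_assoc R.c, ← R.sc.eq, mul_assoc R.s R.c, R.cc, R.ss, mul_one]

theorem unit_mul {s a b : G} (ss : s * s = 1) (aa : a * a = s) (bb : b * b = s) (ba : b * a = s * (a * b))
    (p q : Fin 4) : (![1, a, b, a * b] p) * (![1, a, b, a * b] q) =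
      (if sgU p q then s else 1) * ![1, a, b, a * b] (mulU p q) := by
  have t : ∀ p q : Fin 4, ((p, q, sgU p q, mulU p q) : Fin 4 × Fin 4 × Bool × Fin 4) ∈
      [(0, 0, false, 0), (0, 1, false, 1), (0, 2, false, 2), (0, 3, false, 3), (1, 0, false, 1), (1, 1, true, 0),
       (1, 2, false, 3), (1, 3, true, 2), (2, 0, false, 2), (2, 1, true, 3), (2, 2, true, 0), (2, 3, false, 1),
       (3, 0, false, 3), (3, 1, false, 2), (3, 2, true, 1), (3, 3, true, 0)] := by decide +kernel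
  have hsa : s * a = a * s := by rw [← aa, mul_assoc]
  have hsb : s * b = b * s := by rw [← bb, mul_assoc]
  have h13 : a * (a * b) = s * b := by rw [← mul_assoc, aa]
  have h32 : a * b * b = s * a := by rw [mul_assoc, bb, hsa]
  have h23 : b * (a * b) = a := by rw [← mul_assoc, ba, mul_assoc, mul_assoc, bb, ← hsa, ← mul_assoc, ss, one_mul]
  have h31 : a * b * a = b := by rw [mul_assoc, ba, ← mul_assoc, ← hsa, mul_assoc, h13, ← mul_assoc, ss, one_mul]
  have h33 : a * b * (a * b) = s := by rw [← mul_assoc, h31, bb]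
  have t' := t p q
  simp only [List.mem_cons, Prod.mk.injEq, List.not_mem_nil, or_false] at t'
  rcases t' with h | h | h | h | h | h | h | h | h | h | h | h | h | h | h | h <;>
    (obtain ⟨rfl, rfl, e1, e2⟩ := h; rw [e1, e2]; simp <;>
      first
        | rfl | exact aa | exact bb | exact ba | exact h13 | exact h32 | exact h23 | exact h31 | exact h33)

/-- the units of the first pair -/
def uA : Fin 4 → G := ![1, R.a, R.b, R.a * R.b]
/-- the units of the second pair -/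
def uC : Fin 4 → G := ![1, R.c, R.d, R.c * R.d]

theorem uA_mul (p q : Fin 4) : R.uA p * R.uA q = R.sg (sgU p q) * R.uA (mulU p q) :=
  unit_mul R.ss R.aa R.bb R.ba p q

theorem uC_mul (p q : Fin 4) : R.uC p * R.uC q = R.sg (sgU p q) * R.uC (mulU p q) :=
  unit_mul R.ss R.cc R.dd R.dc p q

theorem uA_uC (p q : Fin 4) : Commute (R.uA p) (R.uC q) := by
  have hc : ∀ w, w = R.c ∨ w = R.d → Commute R.a w ∧ Commute R.b w := by
    rintro w (rfl | rfl)
    exacts [⟨R.ac, R.bc⟩, ⟨R.ad, R.bd⟩]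
  have hA : ∀ w, Commute R.a w → Commute R.b w → Commute (R.uA p) w := fun w h1 h2 => by
    fin_cases p
    exacts [Commute.one_left _, h1, h2, h1.mul_left h2]
  fin_cases q
  exacts [Commute.one_right _, hA _ R.ac R.bc, hA _ R.ad R.bd, (hA _ R.ac R.bc).mul_right (hA _ R.ad R.bd)]

theorem sg_comm (e : Bool) (p : Fin 4) : Commute (R.sg e) (R.uA p) ∧ Commute (R.sg e) (R.uC p) := by
  cases e
  · exact ⟨Commute.one_left _, Commute.one_left _⟩
  · refine ⟨?_, ?_⟩ <;> fin_cases p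
    exacts [Commute.one_right _, R.sa, R.sb, R.sa.mul_right R.sb, Commute.one_right _, R.sc, R.sd,
      R.sc.mul_right R.sd]

/-- the two-group -/
def φQ (q : Fin 32) : G := R.sg (eOf q) * R.uA (uOf q) * R.uC (vOf q)

theorem φQ_mul (p q : Fin 32) : R.φQ (qmul p q) = R.φQ p * R.φQ q := by
  obtain ⟨he, hu, hv⟩ := qmul_coords p q
  simp only [φQ, he, hu, hv, ← R.sg_mul]
  set e := R.sg (eOf p)
  set f := R.sg (eOf q)
  have hsp := fun e' => R.sg_comm e' (vOf p)
  calc e * f * R.sg (sgU (uOf p) (uOf q)) * R.sg (sgU (vOf p) (vOf q)) * R.uA (mulU (uOf p) (uOf q)) *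
        R.uC (mulU (vOf p) (vOf q))
      = e * f * (R.sg (sgU (uOf p) (uOf q)) * R.uA (mulU (uOf p) (uOf q))) *
          (R.sg (sgU (vOf p) (vOf q)) * R.uC (mulU (vOf p) (vOf q))) := by
        simp only [mul_assoc]
        congr 3
        rw [← mul_assoc, (R.sg_comm _ _).1.eq, mul_assoc]
    _ = e * (f * R.uA (uOf p)) * R.uA (uOf q) * (R.uC (vOf p) * R.uC (vOf q)) := by
        rw [← R.uA_mul, ← R.uC_mul]; simp only [mul_assoc]
    _ = e * R.uA (uOf p) * (f * (R.uA (uOf q) * R.uC (vOf p))) * R.uC (vOf q) := by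
        rw [(R.sg_comm _ _).1.eq]; simp only [mul_assoc]; rfl
    _ = e * R.uA (uOf p) * (f * (R.uC (vOf p) * R.uA (uOf q))) * R.uC (vOf q) := by rw [(R.uA_uC _ _).eq]
    _ = e * R.uA (uOf p) * (f * R.uC (vOf p)) * R.uA (uOf q) * R.uC (vOf q) := by simp only [mul_assoc]
    _ = _ := by rw [show f * R.uC (vOf p) = R.uC (vOf p) * f from (R.sg_comm _ _).2.eq]; simp only [mul_assoc]

theorem x_uA (p : Fin 4) : R.x * R.uA p * R.x⁻¹ = R.uA (rot p) := by
  fin_cases p
  · simp [uA, rot]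
  · exact R.xa
  · exact R.xb
  · show R.x * (R.a * R.b) * R.x⁻¹ = R.a
    rw [show R.x * (R.a * R.b) * R.x⁻¹ = (R.x * R.a * R.x⁻¹) * (R.x * R.b * R.x⁻¹) by group, R.xa, R.xb,
      ← mul_assoc, R.ba, mul_assoc, mul_assoc, R.bb, ← R.sa.eq, ← mul_assoc, R.ss, one_mul]

theorem x_uC (p : Fin 4) : R.x * R.uC p * R.x⁻¹ = R.uC (rot p) := by
  fin_cases p
  · simp [uC, rot]
  · exact R.xc
  · exact R.xd
  · show R.x * (R.c * R.d) * R.x⁻¹ = R.c
    rw [show R.x * (R.c * R.d) * R.x⁻¹ = (R.x * R.c * R.x⁻¹) * (R.x * R.d * R.x⁻¹) by group, R.xc, R.xd,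
      ← mul_assoc, R.dc, mul_assoc, mul_assoc, R.dd, ← R.sc.eq, ← mul_assoc, R.ss, one_mul]

theorem x_sg (e : Bool) : R.x * R.sg e * R.x⁻¹ = R.sg e := by cases e <;> simp [sg, R.xs]
theorem r_sg (e : Bool) : R.r * R.sg e * R.r⁻¹ = R.sg e := by cases e <;> simp [sg, R.rs]

theorem φQ_xq (q : Fin 32) : R.φQ (xq q) = R.x * R.φQ q * R.x⁻¹ := by
  obtain ⟨he, hu, hv⟩ := xq_coords q
  rw [φQ, he, hu, hv, ← R.x_uA, ← R.x_uC, φQ]
  conv_lhs => rw [← R.x_sg]
  group

theorem r_units (p : Fin 4) :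
    R.r * R.uA p * R.r⁻¹ = R.sg (p != 0) * (if sw then R.uC (tw p) else R.uA (tw p)) ∧
    R.r * R.uC p * R.r⁻¹ = R.sg (p != 0) * (if sw then R.uA (tw p) else R.uC (tw p)) := by
  have h3 : ∀ {u v y z : G}, Commute R.s y → R.r * u * R.r⁻¹ = R.s * y → R.r * v * R.r⁻¹ = R.s * z →
      R.r * (u * v) * R.r⁻¹ = y * z := fun {u v y z} hc h1 h2 => by
    rw [show R.r * (u * v) * R.r⁻¹ = (R.r * u * R.r⁻¹) * (R.r * v * R.r⁻¹) by group, h1, h2,
      mul_assoc, ← mul_assoc y, ← hc.eq, mul_assoc R.s y, ← mul_assoc R.s R.s, R.ss, one_mul]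
  have ha := R.ra
  have hb := R.rb
  have hc := R.rc
  have hd := R.rd
  have h13 : R.a * (R.a * R.b) = R.s * R.b := by rw [← mul_assoc, R.aa]
  have h13' : R.c * (R.c * R.d) = R.s * R.d := by rw [← mul_assoc, R.cc]
  cases sw <;> simp only [Bool.false_eq_true, if_false, if_true] at ha hb hc hd ⊢ <;> fin_cases p
  all_goals first
    | (constructor <;> simp [uA, uC, sg, tw]; done)
    | exact ⟨ha, hc⟩
    | exact ⟨hb, hd⟩
    | exact ⟨(h3 R.sa ha hb).trans h13, (h3 R.sc hc hd).trans h13'⟩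
    | exact ⟨(h3 R.sc ha hb).trans h13', (h3 R.sa hc hd).trans h13⟩

theorem φQ_tq (q : Fin 32) : R.φQ (tq sw q) = R.r * R.φQ q * R.r⁻¹ := by
  have hd : R.r * R.φQ q * R.r⁻¹ = R.sg (eOf q) * (R.r * R.uA (uOf q) * R.r⁻¹) * (R.r * R.uC (vOf q) * R.r⁻¹) := by
    conv_rhs => rw [← R.r_sg]
    rw [φQ]; group
  rw [hd, (R.r_units _).1, (R.r_units _).2]
  obtain ⟨e0, u0, v0, e1, u1, v1⟩ := tq_coords q
  cases sw
  · simp only [Bool.false_eq_true, if_false, φQ, e0, u0, v0, ← R.sg_mul]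
    simp only [mul_assoc]
    congr 2
    rw [← mul_assoc, (R.sg_comm _ _).1.eq, mul_assoc]
  · simp only [if_true, φQ, e1, u1, v1, ← R.sg_mul]
    simp only [mul_assoc]
    congr 2
    rw [← mul_assoc (R.uC _), ← (R.sg_comm _ _).2.eq, mul_assoc, (R.uA_uC _ _).eq]

/-- the complement -/
def φS : Fin 6 → G := ![1, R.r, R.x, R.x * R.r, R.x * R.x, R.x * R.x * R.r]

theorem φS_mul (hr : R.r * R.r = 1) (a b : Fin 6) : R.φS (smul6 a b) = R.φS a * R.φS b := by
  have x3 : R.x * (R.x * R.x) = 1 := by rw [← R.xx, pow_succ, pow_two, mul_assoc]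
  have hrr := hr
  have hrx : R.r * R.x = R.x * (R.x * R.r) := by
    have hxi : R.x⁻¹ = R.x * R.x := inv_eq_of_mul_eq_one_right x3
    rw [← mul_assoc, ← hxi, ← R.rx, inv_mul_cancel_right]
  have hrxm : ∀ z, R.r * (R.x * z) = R.x * (R.x * (R.r * z)) := fun z => by
    rw [← mul_assoc, hrx, mul_assoc, mul_assoc]
  have x3m : ∀ z, R.x * (R.x * (R.x * z)) = z := fun z => by
    rw [← mul_assoc R.x R.x z, ← mul_assoc, x3, one_mul]
  have rrm : ∀ z, R.r * (R.r * z) = z := fun z => by rw [← mul_assoc, hrr, one_mul]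
  have t := smul6_table a b
  simp only [List.mem_cons, Prod.mk.injEq, List.not_mem_nil, or_false] at t
  rcases t with h | h | h | h | h | h | h | h | h | h | h | h | h | h | h | h | h | h | h | h | h | h | h | h | h |
      h | h | h | h | h | h | h | h | h | h | h <;>
    (obtain ⟨rfl, rfl, e⟩ := h; rw [e]; simp [φS, mul_assoc, hrx, hrxm, x3, x3m, hrr, rrm])

theorem φS_conj (t : Fin 6) (q : Fin 32) : R.φS t * R.φQ q * (R.φS t)⁻¹ = R.φQ (qact sw t q) := by
  obtain ⟨h0, h1, h2, h3, h4, h5⟩ := qact_six sw q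
  fin_cases t
  · rw [show (⟨0, by norm_num⟩ : Fin 6) = 0 from rfl, h0]; simp [φS]
  · rw [show (⟨1, by norm_num⟩ : Fin 6) = 1 from rfl, h1, R.φQ_tq]; simp [φS]
  · rw [show (⟨2, by norm_num⟩ : Fin 6) = 2 from rfl, h2, R.φQ_xq]; simp [φS]
  · rw [show (⟨3, by norm_num⟩ : Fin 6) = 3 from rfl, h3, R.φQ_xq, R.φQ_tq]; simp [φS, mul_assoc]
  · rw [show (⟨4, by norm_num⟩ : Fin 6) = 4 from rfl, h4, R.φQ_xq, R.φQ_xq]; simp [φS, mul_assoc]
  · rw [show (⟨5, by norm_num⟩ : Fin 6) = 5 from rfl, h5, R.φQ_xq, R.φQ_xq, R.φQ_tq]; simp [φS, mul_assoc]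

/-- the value on a pair -/
def val (p : Fin 32 × Fin 6) : G := R.φQ p.1 * R.φS p.2

/-- the product of pairs -/
def mulP (sw : Bool) (p q : Fin 32 × Fin 6) : Fin 32 × Fin 6 := (qmul p.1 (qact sw p.2 q.1), smul6 p.2 q.2)

theorem val_mul (hr : R.r * R.r = 1) (p q : Fin 32 × Fin 6) : R.val (mulP sw p q) = R.val p * R.val q := by
  rw [val, mulP, R.φQ_mul, R.φS_mul hr, ← R.φS_conj, val, val]
  group

end Rel

end Cfsg.Lib.ExtraEight
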