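import Cfsg.Agent.ExtraEight.Rel
import Cfsg.Agent.InvolCalc.Dihedral
import Cfsg.Agent.Components.Cores
import Cfsg.Agent.PGroups.Basic
import Cfsg.Prelude.Def_Transfer

/-!
Generators of a centraliser `2^{1+4}.Sym₃`.
-/

set_option autoImplicit false
set_option linter.unusedSectionVars false
set_option linter.style.haveILetI false
set_option maxRecDepth 10000

namespace Cfsg.Lib.ExtraEight

open Subgroup

variable {G : Type*} [Group G]

/-- a cycled quaternion pair -/
structure Tri (s x a b : G) : Prop where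
  aa : a * a = s
  bb : b * b = s
  xa : x * a * x⁻¹ = b
  xb : x * b * x⁻¹ = a * b

theorem Tri.ba {s x a b : G} (h : Tri s x a b) (ss : s * s = 1) : b * a = s * (a * b) := by
  have hsa : s * a = a * s := by rw [← h.aa, mul_assoc]
  have hsb : s * b = b * s := by rw [← h.bb, mul_assoc]
  have h2 : a * b * (a * b) = s := by
    rw [← h.xb, show x * b * x⁻¹ * (x * b * x⁻¹) = x * (b * b) * x⁻¹ by group, h.bb, ← h.aa,
      show x * (a * a) * x⁻¹ = (x * a * x⁻¹) * (x * a * x⁻¹) by group, h.xa, h.bb, h.aa]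
  calc b * a = a⁻¹ * (a * b * (a * b)) * b⁻¹ := by group
    _ = (a * s) * s * (b * s) := by
      rw [h2, inv_eq_of_mul_eq_one_right (show a * (a * s) = 1 by rw [← mul_assoc, h.aa, ss]),
        inv_eq_of_mul_eq_one_right (show b * (b * s) = 1 by rw [← mul_assoc, h.bb, ss])]
    _ = s * (a * b) := by
      rw [mul_assoc a s s, ss, mul_one, ← hsb, ← mul_assoc, ← hsa, mul_assoc]

theorem Tri.rotate {s x a b : G} (h : Tri s x a b) (ss : s * s = 1) : Tri s x b (a * b) := by
  have hsa : s * a = a * s := by rw [← h.aa, mul_assoc]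
  refine ⟨h.bb, ?_, h.xb, ?_⟩
  · rw [← h.xb, show x * b * x⁻¹ * (x * b * x⁻¹) = x * (b * b) * x⁻¹ by group, h.bb, ← h.aa,
      show x * (a * a) * x⁻¹ = (x * a * x⁻¹) * (x * a * x⁻¹) by group, h.xa, h.bb, h.aa]
  · rw [show x * (a * b) * x⁻¹ = (x * a * x⁻¹) * (x * b * x⁻¹) by group, h.xa, h.xb]

theorem Tri.rot_val {s x a b : G} (h : Tri s x a b) (ss : s * s = 1) : b * (a * b) = a := by
  have hsa : s * a = a * s := by rw [← h.aa, mul_assoc]
  rw [← mul_assoc, h.ba ss, mul_assoc, mul_assoc a, h.bb, ← hsa, ← mul_assoc, ss, one_mul]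

/-- the hypotheses of the theorem -/
structure Hyp (G : Type*) [Group G] where
  /-- the involution -/
  s : G
  hs : orderOf s = 2
  /-- the centraliser -/
  L : Subgroup G
  hL : L = centralizer ({s} : Set G)
  /-- the core -/
  Q : Subgroup G
  hQ : Q = (Cfsg.pCore 2 L).map L.subtype
  hQex : Cfsg.IsExtraspecial 2 Q
  hQcard : Nat.card Q = 32
  /-- the quotient -/
  e : L ⧸ Cfsg.pCore 2 L ≃* Equiv.Perm (Fin 3)
  /-- the Sylow subgroup for three -/
  X : Sylow 3 L
  hCQX : Q ⊓ centralizer (((X : Subgroup L).map L.subtype : Subgroup G) : Set G) = zpowers s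
  hnwc : ∃ g : G, g * s * g⁻¹ ∈ Q ∧ g * s * g⁻¹ ≠ s

theorem perm3_rel : ∀ σ τ : Equiv.Perm (Fin 3), Equiv.Perm.sign σ = -1 → τ ^ 3 = 1 → τ ≠ 1 →
    σ * τ ≠ τ * σ ∧ σ * σ = 1 := by decide +kernel

theorem perm3_cover : ∀ σ τ : Equiv.Perm (Fin 3), Equiv.Perm.sign σ = -1 → τ ^ 3 = 1 → τ ≠ 1 →
    ∀ ρ : Equiv.Perm (Fin 3), [1, σ, τ, τ * σ, τ * τ, τ * τ * σ].contains ρ = true := by decide +kernel

theorem perm3_even : ∀ τ : Equiv.Perm (Fin 3), τ ^ 3 = 1 → Equiv.Perm.sign τ = 1 := by decide +kernel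

variable [Finite G]

namespace Hyp

variable (H : Hyp G)

theorem mem_L {y : G} : y ∈ H.L ↔ y * H.s = H.s * y := by rw [H.hL, mem_centralizer_singleton_iff]

theorem Q_le_L {q : G} (hq : q ∈ H.Q) : q ∈ H.L := by
  rw [H.hQ] at hq
  obtain ⟨k, -, rfl⟩ := hq
  exact k.2

theorem s_mem : H.s ∈ H.Q := (H.hCQX.ge (mem_zpowers H.s)).1

theorem s_ne : H.s ≠ 1 := Cfsg.Lib.InvolCalc.ne_one_of_order_two H.hs

theorem ss : H.s * H.s = 1 := Cfsg.Lib.InvolCalc.sq_of_order_two H.hs

theorem s_comm {q : G} (hq : q ∈ H.Q) : q * H.s = H.s * q := H.mem_L.1 (H.Q_le_L hq)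

theorem conj_Q {l q : G} (hl : l ∈ H.L) (hq : q ∈ H.Q) : l * q * l⁻¹ ∈ H.Q := by
  rw [H.hQ] at hq ⊢
  obtain ⟨k, hk, rfl⟩ := hq
  exact ⟨⟨l, hl⟩ * k * ⟨l, hl⟩⁻¹, (Cfsg.Lib.Components.pCore_normal' (G := H.L) 2).conj_mem k hk _, rfl⟩

theorem central {z : G} (hz : z ∈ H.Q) (hc : ∀ q ∈ H.Q, z * q = q * z) : z = 1 ∨ z = H.s := by
  have h2 := H.hQex.2
  obtain ⟨u, v, huv, hset⟩ := (Nat.card_eq_two_iff).1 h2
  have hmem : ∀ {w : G} (hw : w ∈ H.Q), (∀ q ∈ H.Q, w * q = q * w) →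
      (⟨w, hw⟩ : H.Q) ∈ Subgroup.center H.Q := fun hw hc' =>
    mem_center_iff.2 fun q => Subtype.ext (hc' q q.2).symm
  have hall : ∀ w : Subgroup.center H.Q, w = u ∨ w = v := fun w => by
    have := Set.eq_univ_iff_forall.1 hset w
    simpa using this
  let zc : Subgroup.center H.Q := ⟨⟨z, hz⟩, hmem hz hc⟩
  let sc : Subgroup.center H.Q := ⟨⟨H.s, H.s_mem⟩, hmem H.s_mem fun q hq => (H.s_comm hq).symm⟩
  have h1s : (1 : Subgroup.center H.Q) ≠ sc := fun h => H.s_ne (congrArg (fun w : Subgroup.center H.Q => ((w : H.Q) : G)) h).symm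
  by_contra hcon
  push Not at hcon
  have h1z : (1 : Subgroup.center H.Q) ≠ zc := fun h => hcon.1 (congrArg (fun w : Subgroup.center H.Q => ((w : H.Q) : G)) h).symm
  have hsz : sc ≠ zc := fun h => hcon.2 (congrArg (fun w : Subgroup.center H.Q => ((w : H.Q) : G)) h).symm
  rcases hall 1 with e1 | e1 <;> rcases hall sc with e2 | e2 <;> rcases hall zc with e3 | e3 <;>
    first
      | exact h1s (e1.trans e2.symm) | exact h1z (e1.trans e3.symm) | exact hsz (e2.trans e3.symm)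

theorem of_center {z : H.Q} (hz : z ∈ Subgroup.center H.Q) : (z : G) = 1 ∨ (z : G) = H.s :=
  H.central z.2 fun q hq => (congrArg Subtype.val (mem_center_iff.1 hz ⟨q, hq⟩)).symm

theorem sq {q : G} (hq : q ∈ H.Q) : q * q = 1 ∨ q * q = H.s := by
  haveI : Fact (Nat.Prime 2) := ⟨Nat.prime_two⟩
  have h := Cfsg.Lib.PGroups.pow_mem_frattini H.hQex.1.1 (⟨q, hq⟩ : H.Q)
  rw [H.hQex.1.2.1, pow_two] at h
  exact H.of_center h

theorem comm {p q : G} (hp : p ∈ H.Q) (hq : q ∈ H.Q) : p * q = q * p ∨ p * q = H.s * (q * p) := by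
  have h := Subgroup.commutator_mem_commutator (mem_top (⟨p, hp⟩ : H.Q)) (mem_top (⟨q, hq⟩ : H.Q))
  rw [← commutator_def, H.hQex.1.2.2] at h
  rcases H.of_center h with e | e <;>
    have e' : p * q * p⁻¹ * q⁻¹ = _ := e
  · left
    calc p * q = (p * q * p⁻¹ * q⁻¹) * (q * p) := by group
      _ = q * p := by rw [e', one_mul]
  · right
    calc p * q = (p * q * p⁻¹ * q⁻¹) * (q * p) := by group
      _ = _ := by rw [e']

/-- the projection to the symmetric group -/
noncomputable def f : H.L →* Equiv.Perm (Fin 3) := H.e.toMonoidHom.comp (QuotientGroup.mk' (Cfsg.pCore 2 H.L))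

theorem f_eq_one {y : H.L} : H.f y = 1 ↔ (y : G) ∈ H.Q := by
  show H.e (QuotientGroup.mk y) = 1 ↔ _
  rw [MulEquiv.map_eq_one_iff, QuotientGroup.eq_one_iff, H.hQ]
  exact ⟨fun h => ⟨y, h, rfl⟩, fun ⟨k, hk, hke⟩ => (Subtype.ext hke : k = y) ▸ hk⟩

theorem f_surj : Function.Surjective H.f := H.e.surjective.comp (QuotientGroup.mk'_surjective _)

theorem card_L : Nat.card H.L = 192 := by
  have h := Subgroup.card_eq_card_quotient_mul_card_subgroup (Cfsg.pCore 2 H.L)
  have hc : Nat.card (Cfsg.pCore 2 H.L) = 32 := by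
    rw [← H.hQcard, H.hQ, Subgroup.card_map_of_injective H.L.subtype_injective]
  rw [hc, Nat.card_congr H.e.toEquiv, Nat.card_perm, Nat.card_fin] at h
  exact h

theorem exists_x : ∃ x : G, x ∈ H.L ∧ x ^ 3 = 1 ∧ x ∉ H.Q ∧
    (H.X : Subgroup H.L).map H.L.subtype = zpowers x := by
  haveI : Fact (Nat.Prime 3) := ⟨Nat.prime_three⟩
  have hX : Nat.card (H.X : Subgroup H.L) = 3 := by
    rw [H.X.card_eq_multiplicity, H.card_L, show (192 : ℕ) = 2 ^ 6 * 3 by norm_num,
      Nat.factorization_mul (by norm_num) (by norm_num), Nat.Prime.factorization_pow Nat.prime_two,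
      Nat.Prime.factorization Nat.prime_three]
    simp
  set Y := (H.X : Subgroup H.L).map H.L.subtype with hY
  have hYc : Nat.card Y = 3 := by rw [hY, Subgroup.card_map_of_injective H.L.subtype_injective, hX]
  haveI : Nontrivial Y := Finite.one_lt_card_iff_nontrivial.1 (by omega)
  obtain ⟨⟨x, hx⟩, hx1⟩ := exists_ne (1 : Y)
  have ho : orderOf x = 3 := by
    have h := Subgroup.orderOf_dvd_natCard Y hx
    rw [hYc] at h
    exact (Nat.prime_three.eq_one_or_self_of_dvd _ h).resolve_left fun e =>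
      hx1 (Subtype.ext (orderOf_eq_one_iff.1 e))
  refine ⟨x, map_subtype_le _ hx, by rw [← ho, pow_orderOf_eq_one], fun h => ?_, ?_⟩
  · have h' := Subgroup.orderOf_dvd_natCard _ h
    rw [H.hQcard, ho] at h'
    norm_num at h'
  · exact (Subgroup.eq_of_le_of_card_ge (zpowers_le.2 hx) (by rw [hYc, Nat.card_zpowers, ho])).symm

/-- the generator of the Sylow subgroup -/
noncomputable def x : G := H.exists_x.choose

theorem x_L : H.x ∈ H.L := H.exists_x.choose_spec.1
theorem x3 : H.x ^ 3 = 1 := H.exists_x.choose_spec.2.1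
theorem x_Q : H.x ∉ H.Q := H.exists_x.choose_spec.2.2.1
theorem X_eq : (H.X : Subgroup H.L).map H.L.subtype = zpowers H.x := H.exists_x.choose_spec.2.2.2

theorem xs : H.x * H.s = H.s * H.x := H.mem_L.1 H.x_L

theorem fixed {q : G} (hq : q ∈ H.Q) (h : H.x * q = q * H.x) : q = 1 ∨ q = H.s := by
  have hm : q ∈ zpowers H.s := H.hCQX ▸ mem_inf.2 ⟨hq, by
    rw [mem_centralizer_iff, H.X_eq]
    rintro _ ⟨i, rfl⟩
    exact (Commute.zpow_left (show Commute H.x q from h) i).eq⟩
  obtain ⟨i, rfl⟩ := hm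
  rcases Int.even_or_odd i with ⟨k, rfl⟩ | ⟨k, rfl⟩
  · left
    show H.s ^ (k + k) = 1
    rw [← two_mul, zpow_mul, zpow_two, H.ss, one_zpow]
  · right
    show H.s ^ (2 * k + 1) = H.s
    rw [zpow_add, zpow_mul, zpow_two, H.ss, one_zpow, one_mul, zpow_one]

theorem no_shift {q : G} (hq : q ∈ H.Q) : H.x * q * H.x⁻¹ ≠ q * H.s := by
  intro h
  have hsx : H.x * H.s * H.x⁻¹ = H.s := by rw [H.xs, mul_inv_cancel_right]
  have cs : ∀ z : G, H.x * (z * H.s) * H.x⁻¹ = H.x * z * H.x⁻¹ * H.s := fun z => by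
    calc H.x * (z * H.s) * H.x⁻¹ = H.x * z * H.x⁻¹ * (H.x * H.s * H.x⁻¹) := by group
      _ = _ := by rw [hsx]
  have h3 : H.x ^ 3 * q * (H.x ^ 3)⁻¹ = q * H.s * H.s * H.s := by
    calc H.x ^ 3 * q * (H.x ^ 3)⁻¹ = H.x * (H.x * (H.x * q * H.x⁻¹) * H.x⁻¹) * H.x⁻¹ := by
          simp only [pow_succ, pow_zero, one_mul, mul_inv_rev, mul_assoc]
      _ = _ := by rw [h, cs, h, cs, cs, h]
  rw [H.x3, one_mul, inv_one, mul_one, mul_assoc q, H.ss, mul_one] at h3
  exact H.s_ne (mul_eq_left.1 h3.symm)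

theorem key {q : G} (hq : q ∈ H.Q) (h2 : q * q = H.s) :
    ∃ a, a ∈ H.Q ∧ (a = q ∨ a = q * H.s) ∧ Tri H.s H.x a (H.x * a * H.x⁻¹) := by
  set b := H.x * q * H.x⁻¹ with hb
  set c := H.x * b * H.x⁻¹ with hc
  have hbQ : b ∈ H.Q := H.conj_Q H.x_L hq
  have hcQ : c ∈ H.Q := H.conj_Q H.x_L hbQ
  have hsx : H.x * H.s * H.x⁻¹ = H.s := by rw [H.xs, mul_inv_cancel_right]
  have hcx : H.x * c * H.x⁻¹ = q := by
    calc H.x * c * H.x⁻¹ = H.x ^ 3 * q * (H.x ^ 3)⁻¹ := by
          rw [hc, hb]; simp only [pow_succ, pow_zero, one_mul, mul_inv_rev, mul_assoc]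
      _ = q := by rw [H.x3, one_mul, inv_one, mul_one]
  clear_value b c
  set m := q * b * c with hm
  have hmx : H.x * m * H.x⁻¹ = b * c * q := by
    rw [hm, show H.x * (q * b * c) * H.x⁻¹ = (H.x * q * H.x⁻¹) * (H.x * b * H.x⁻¹) * (H.x * c * H.x⁻¹) by group,
      hcx, ← hb, ← hc]
  have hmQ : m ∈ H.Q := mul_mem (mul_mem hq hbQ) hcQ
  have hm1 : m = 1 ∨ m = H.s := by
    rcases H.comm hq (mul_mem hbQ hcQ) with e | e
    · refine H.fixed hmQ (mul_inv_eq_iff_eq_mul.1 ?_)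
      rw [hmx, ← e, hm, mul_assoc]
    · refine absurd ?_ (H.no_shift hmQ)
      rw [hmx, hm, mul_assoc q b c, e, mul_assoc H.s, ← mul_assoc]
      rw [← H.s_comm (mul_mem (mul_mem hbQ hcQ) hq), mul_assoc _ H.s H.s, H.ss, mul_one] 
  have hbb : b * b = H.s := by
    rw [hb, show H.x * q * H.x⁻¹ * (H.x * q * H.x⁻¹) = H.x * (q * q) * H.x⁻¹ by group, h2, hsx]
  have hcc : c = q * b ∨ c = q * b * H.s := by
    have e : c = b⁻¹ * q⁻¹ * m := by rw [hm]; group
    rw [inv_eq_of_mul_eq_one_right (show q * (q * H.s) = 1 by rw [← mul_assoc, h2, H.ss]),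
      inv_eq_of_mul_eq_one_right (show b * (b * H.s) = 1 by rw [← mul_assoc, hbb, H.ss]), mul_assoc b H.s,
      ← mul_assoc H.s q H.s, ← H.s_comm hq, mul_assoc q H.s H.s, H.ss, mul_one] at e
    rcases H.comm hbQ hq with e2 | e2 <;> rcases hm1 with e3 | e3 <;> rw [e2, e3] at e <;>
      try simp only [mul_one] at e
    · exact Or.inl e
    · exact Or.inr e
    · exact Or.inr (e.trans (H.s_comm (mul_mem hq hbQ)).symm)
    · refine Or.inl (e.trans ?_)
      rw [← H.s_comm (mul_mem hq hbQ), mul_assoc _ H.s H.s, H.ss, mul_one]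
  rcases hcc with hcc | hcc
  · exact ⟨q, hq, Or.inl rfl, hb ▸ ⟨h2, hbb, hb.symm, hc ▸ hcc⟩⟩
  · refine ⟨q * H.s, mul_mem hq H.s_mem, Or.inr rfl, ?_⟩
    have hconj : H.x * (q * H.s) * H.x⁻¹ = b * H.s := by
      rw [show H.x * (q * H.s) * H.x⁻¹ = b * (H.x * H.s * H.x⁻¹) by rw [hb]; group, hsx]
    rw [hconj]
    refine ⟨?_, ?_, hconj, ?_⟩
    · rw [mul_assoc, ← mul_assoc H.s, ← H.s_comm hq, mul_assoc q H.s H.s, H.ss, mul_one, h2]
    · rw [mul_assoc, ← mul_assoc H.s, ← H.s_comm hbQ, mul_assoc b H.s H.s, H.ss, mul_one, hbb]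
    · rw [show H.x * (b * H.s) * H.x⁻¹ = c * (H.x * H.s * H.x⁻¹) by rw [hc]; group, hsx, hcc, mul_assoc q H.s,
        ← mul_assoc H.s b, ← H.s_comm hbQ, mul_assoc b, H.ss]
      simp [mul_assoc, H.ss]

theorem adjust {a b : G} (h : Tri H.s H.x a b) (ha : a ∈ H.Q) {p : G} (hp : p ∈ H.Q) :
    ∃ u, (u = 1 ∨ u = a ∨ u = b ∨ u = a * b) ∧ a * (p * u) = (p * u) * a ∧ b * (p * u) = (p * u) * b := by
  have hb : b ∈ H.Q := h.xa ▸ H.conj_Q H.x_L ha
  have hba := h.ba H.ss
  have hab : a * b = H.s * (b * a) := by rw [hba, ← mul_assoc, H.ss, one_mul]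
  have keep : ∀ w v u : G, w * v = v * w → w * u = u * w → w * (v * u) = v * u * w := fun w v u h1 h2 => by
    rw [← mul_assoc, h1, mul_assoc, h2, mul_assoc]
  have flip : ∀ w v u : G, v ∈ H.Q → w * v = H.s * (v * w) → w * u = H.s * (u * w) →
      w * (v * u) = v * u * w := by
    intro w v u hv h1 h2
    calc w * (v * u) = H.s * (v * (w * u)) := by rw [← mul_assoc, h1, mul_assoc, mul_assoc]
      _ = H.s * (v * H.s) * (u * w) := by rw [h2]; simp only [mul_assoc]
      _ = _ := by rw [H.s_comm hv, ← mul_assoc H.s H.s v, H.ss, one_mul, mul_assoc]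
  have haab : a * (a * b) = H.s * (a * b * a) := by
    rw [mul_assoc a b a, hba, ← mul_assoc a H.s, H.s_comm ha, mul_assoc H.s a, ← mul_assoc H.s H.s, H.ss, one_mul]
  have hbab : b * (a * b) = H.s * (a * b * b) := by rw [← mul_assoc, hba, mul_assoc H.s]
  rcases H.comm ha hp with e1 | e1 <;> rcases H.comm hb hp with e2 | e2
  · exact ⟨1, Or.inl rfl, keep _ _ _ e1 (by simp), keep _ _ _ e2 (by simp)⟩
  · exact ⟨a, Or.inr (Or.inl rfl), keep _ _ _ e1 rfl, flip _ _ _ hp e2 hba⟩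
  · exact ⟨b, Or.inr (Or.inr (Or.inl rfl)), flip _ _ _ hp e1 hab, keep _ _ _ e2 rfl⟩
  · exact ⟨a * b, Or.inr (Or.inr (Or.inr rfl)), flip _ _ _ hp e1 haab, flip _ _ _ hp e2 hbab⟩

theorem exists_quad : ∃ a b c d : G, a ∈ H.Q ∧ c ∈ H.Q ∧ Tri H.s H.x a b ∧ Tri H.s H.x c d ∧
    a * c = c * a ∧ a * d = d * a ∧ b * c = c * b ∧ b * d = d * b := by
  classical
  obtain ⟨q, hq, hq2⟩ : ∃ q ∈ H.Q, q * q = H.s := by
    by_contra hno
    push Not at hno
    have hone : ∀ q ∈ H.Q, q * q = 1 := fun q hq => (H.sq hq).resolve_right (hno q hq)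
    have hcomm : ∀ p ∈ H.Q, ∀ q ∈ H.Q, p * q = q * p := fun p hp q hq => by
      have hi : ∀ w ∈ H.Q, w⁻¹ = w := fun w hw => inv_eq_of_mul_eq_one_right (hone w hw)
      calc p * q = (p * q)⁻¹ := (hi _ (mul_mem hp hq)).symm
        _ = q * p := by rw [mul_inv_rev, hi p hp, hi q hq]
    have hsub : (H.Q : Set G) ⊆ {1, H.s} := fun q hq => by
      simpa using H.central hq (hcomm q hq)
    have := Set.ncard_le_ncard hsub (Set.toFinite _)
    rw [← Nat.card_coe_set_eq, Set.ncard_pair H.s_ne.symm] at this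
    simp only [SetLike.coe_sort_coe, H.hQcard] at this
    omega
  obtain ⟨a, ha, -, hT⟩ := H.key hq hq2
  set b := H.x * a * H.x⁻¹ with hbdef
  have hb : b ∈ H.Q := H.conj_Q H.x_L ha
  clear_value b
  obtain ⟨w, hw, hw2, hwa, hwb⟩ : ∃ w ∈ H.Q, w * w = H.s ∧ a * w = w * a ∧ b * w = w * b := by
    by_contra hno
    push Not at hno
    have hone : ∀ w ∈ H.Q, a * w = w * a → b * w = w * b → w * w = 1 := fun w hw h1 h2 =>
      (H.sq hw).resolve_right fun h => hno w hw h h1 h2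
    have hsmall : ∀ w ∈ H.Q, a * w = w * a → b * w = w * b → w = 1 ∨ w = H.s := by
      intro w hw h1 h2
      refine H.central hw fun p hp => ?_
      obtain ⟨u, hu, u1, u2⟩ := H.adjust hT ha hp
      have huQ : u ∈ H.Q := by
        rcases hu with rfl | rfl | rfl | rfl
        exacts [one_mem _, ha, hb, mul_mem ha hb]
      have hwu : w * u = u * w := by
        rcases hu with rfl | rfl | rfl | rfl
        · simp
        · exact h1.symm
        · exact h2.symm
        · rw [← mul_assoc, ← h1, mul_assoc, ← h2, mul_assoc]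
      have hwp : w * (p * u) = p * u * w := by
        have hm : a * (w * (p * u)) = w * (p * u) * a := by
          rw [← mul_assoc, h1, mul_assoc, u1, mul_assoc w (p * u)]
        have hm' : b * (w * (p * u)) = w * (p * u) * b := by
          rw [← mul_assoc, h2, mul_assoc, u2, mul_assoc w (p * u)]
        have e1 := hone _ (mul_mem hw (mul_mem hp huQ)) hm hm'
        have i1 := inv_eq_of_mul_eq_one_right (hone w hw h1 h2)
        have i2 := inv_eq_of_mul_eq_one_right (hone _ (mul_mem hp huQ) u1 u2)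
        calc w * (p * u) = (w * (p * u))⁻¹ := (inv_eq_of_mul_eq_one_right e1).symm
          _ = p * u * w := by rw [mul_inv_rev, i1, i2]
      calc w * p = w * (p * u) * u⁻¹ := by group
        _ = p * u * w * u⁻¹ := by rw [hwp]
        _ = p * (u * w) * u⁻¹ := by group
        _ = p * w := by rw [← hwu]; group
    have hsub : (H.Q : Set G) ⊆
        ↑((({1, H.s} : Finset G) ×ˢ ({1, a, b, a * b} : Finset G)).image fun z => z.1 * z.2⁻¹) := by
      intro p hp
      obtain ⟨u, hu, u1, u2⟩ := H.adjust hT ha hp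
      have huQ : u ∈ H.Q := by
        rcases hu with rfl | rfl | rfl | rfl
        exacts [one_mem _, ha, hb, mul_mem ha hb]
      refine Finset.mem_coe.2 (Finset.mem_image.2 ⟨(p * u, u), ?_, by simp⟩)
      simpa using ⟨hsmall _ (mul_mem hp huQ) u1 u2, hu⟩
    have := Set.ncard_le_ncard hsub (Finset.finite_toSet _)
    rw [Set.ncard_coe_finset, ← Nat.card_coe_set_eq] at this
    have h2 := this.trans (Finset.card_image_le.trans (Finset.card_product _ _).le)
    have h3 : ({1, H.s} : Finset G).card ≤ 2 := Finset.card_le_two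
    have h4 : ({1, a, b, a * b} : Finset G).card ≤ 4 := Finset.card_le_four
    have h5 := h2.trans (Nat.mul_le_mul h3 h4)
    simp only [SetLike.coe_sort_coe, H.hQcard] at h5
    omega
  obtain ⟨c, hc, hcw, hT'⟩ := H.key hw hw2
  have hac : a * c = c * a ∧ b * c = c * b := by
    rcases hcw with rfl | rfl
    · exact ⟨hwa, hwb⟩
    · exact ⟨by rw [← mul_assoc, hwa, mul_assoc, H.s_comm ha, mul_assoc],
        by rw [← mul_assoc, hwb, mul_assoc, H.s_comm hb, mul_assoc]⟩
  set d := H.x * c * H.x⁻¹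
  have hbd : b * d = d * b := by
    rw [← hT.xa, ← hT'.xa, show H.x * a * H.x⁻¹ * (H.x * c * H.x⁻¹) = H.x * (a * c) * H.x⁻¹ by group, hac.1]
    group
  have habd : a * b * d = d * (a * b) := by
    rw [← hT.xb, ← hT'.xa, show H.x * b * H.x⁻¹ * (H.x * c * H.x⁻¹) = H.x * (b * c) * H.x⁻¹ by group, hac.2]
    group
  have had : a * d = d * a := by
    calc a * d = a * b * (b⁻¹ * d) := by group
      _ = a * b * (d * b⁻¹) := by rw [(Commute.inv_left (show Commute b d from hbd)).eq]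
      _ = _ := by rw [← mul_assoc, habd]; group
  exact ⟨a, b, c, d, ha, hc, hT, hT', hac.1, had, hac.2, hbd⟩

/-- the eight units of a pair -/
def units (a b : G) : Fin 4 → G := ![1, a, b, a * b]

/-- the sign -/
def sgn (e : Bool) : G := if e then H.s else 1

theorem sgn_mem (e : Bool) : H.sgn e ∈ H.Q := by cases e <;> simp [sgn, H.s_mem, one_mem]

theorem units_mem {a b : G} (ha : a ∈ H.Q) (hb : b ∈ H.Q) (p : Fin 4) : units a b p ∈ H.Q := by
  fin_cases p
  exacts [one_mem _, ha, hb, mul_mem ha hb]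

theorem noncentral {a b : G} (hT : Tri H.s H.x a b) (ha : a ∈ H.Q) :
    ¬ a * b = b * a := by
  intro h
  have h2 := hT.ba H.ss
  rw [← h] at h2
  exact H.s_ne (mul_eq_right.1 h2.symm)

theorem units_sig {a b : G} (hT : Tri H.s H.x a b) (ha : a ∈ H.Q) {p q : Fin 4}
    (h1 : (a * units a b p = units a b p * a) ↔ (a * units a b q = units a b q * a))
    (h2 : (b * units a b p = units a b p * b) ↔ (b * units a b q = units a b q * b)) : p = q := by
  have hn := H.noncentral hT ha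
  have hn3 : ¬ a * (a * b) = a * b * a := fun h => hn (by rw [mul_assoc] at h; exact mul_left_cancel h)
  have hn4 : ¬ b * (a * b) = a * b * b := fun h => hn (by rw [← mul_assoc] at h; exact (mul_right_cancel h).symm)
  have hn' : ¬ b * a = a * b := fun h => hn h.symm
  fin_cases p <;> fin_cases q <;> simp [units] at h1 h2 <;> first | rfl | tauto

/-- all elements of the two-group -/
theorem span {a b c d : G} (ha : a ∈ H.Q) (hc : c ∈ H.Q) (hT : Tri H.s H.x a b) (hT' : Tri H.s H.x c d)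
    (hac : a * c = c * a) (had : a * d = d * a) (hbc : b * c = c * b) (hbd : b * d = d * b)
    {q : G} (hq : q ∈ H.Q) : ∃ e u v, q = H.sgn e * units a b u * units c d v := by
  classical
  have hb : b ∈ H.Q := hT.xa ▸ H.conj_Q H.x_L ha
  have hd : d ∈ H.Q := hT'.xa ▸ H.conj_Q H.x_L hc
  let F : Bool × Fin 4 × Fin 4 → H.Q := fun z => ⟨H.sgn z.1 * units a b z.2.1 * units c d z.2.2,
    mul_mem (mul_mem (H.sgn_mem _) (H.units_mem ha hb _)) (H.units_mem hc hd _)⟩
  have hcomm : ∀ w, (w = a ∨ w = b) → ∀ e u v,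
      (w * (H.sgn e * units a b u * units c d v) = H.sgn e * units a b u * units c d v * w ↔
        w * units a b u = units a b u * w) := by
    intro w hw e u v
    have hwQ : w ∈ H.Q := by rcases hw with rfl | rfl <;> assumption
    have h1 : Commute w (H.sgn e) := by
      cases e
      · exact Commute.one_right _
      · exact H.s_comm hwQ
    have h2 : Commute w (units c d v) := by
      have hwc : Commute w c ∧ Commute w d := by rcases hw with rfl | rfl <;> exact ⟨by assumption, by assumption⟩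
      fin_cases v
      exacts [Commute.one_right _, hwc.1, hwc.2, hwc.1.mul_right hwc.2]
    constructor
    · intro h
      set E := H.sgn e
      set U := units a b u
      set V := units c d v
      refine mul_left_cancel (a := E) (mul_right_cancel (b := V) ?_)
      calc E * (w * U) * V = (E * w) * U * V := by group
        _ = w * (E * U * V) := by rw [← h1.eq]; group
        _ = E * U * (V * w) := by rw [h]; group
        _ = _ := by rw [← h2.eq]; group
    · intro h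
      exact (h1.mul_right (show Commute w (units a b u) from h)).mul_right h2
  have hcomm' : ∀ w, (w = c ∨ w = d) → ∀ e u v,
      (w * (H.sgn e * units a b u * units c d v) = H.sgn e * units a b u * units c d v * w ↔
        w * units c d v = units c d v * w) := by
    intro w hw e u v
    have hwQ : w ∈ H.Q := by rcases hw with rfl | rfl <;> assumption
    have h1 : Commute w (H.sgn e) := by
      cases e
      · exact Commute.one_right _
      · exact H.s_comm hwQ
    have h2 : Commute w (units a b u) := by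
      have hwc : Commute w a ∧ Commute w b := by
        rcases hw with rfl | rfl <;> exact ⟨Eq.symm (by assumption), Eq.symm (by assumption)⟩
      fin_cases u
      exacts [Commute.one_right _, hwc.1, hwc.2, hwc.1.mul_right hwc.2]
    have h3 : Commute w (H.sgn e * units a b u) := h1.mul_right h2
    constructor
    · intro h
      rw [← mul_assoc, h3.eq, mul_assoc _ w, mul_assoc _ _ w] at h
      exact mul_left_cancel h
    · intro h
      exact h3.mul_right h
  have hinj : Function.Injective F := by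
    rintro ⟨e, u, v⟩ ⟨e', u', v'⟩ h
    have h' : H.sgn e * units a b u * units c d v = H.sgn e' * units a b u' * units c d v' :=
      congrArg Subtype.val h
    obtain rfl : u = u' := H.units_sig hT ha
      (by rw [← hcomm a (Or.inl rfl) e u v, h', hcomm a (Or.inl rfl)])
      (by rw [← hcomm b (Or.inr rfl) e u v, h', hcomm b (Or.inr rfl)])
    obtain rfl : v = v' := H.units_sig hT' hc
      (by rw [← hcomm' c (Or.inl rfl) e u v, h', hcomm' c (Or.inl rfl)])
      (by rw [← hcomm' d (Or.inr rfl) e u v, h', hcomm' d (Or.inr rfl)])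
    have h'' := mul_right_cancel (mul_right_cancel h')
    cases e <;> cases e' <;> simp [sgn] at h'' <;> first | rfl | exact absurd h'' H.s_ne | exact absurd h''.symm H.s_ne
  obtain ⟨⟨e, u, v⟩, hz⟩ := ((Nat.bijective_iff_injective_and_card F).2 ⟨hinj, by simp [H.hQcard]⟩).2 ⟨q, hq⟩
  exact ⟨e, u, v, (congrArg Subtype.val hz).symm⟩

theorem exists_r : ∃ r : G, r ∈ H.L ∧ r * H.x * r⁻¹ = H.x⁻¹ ∧ (r * r = 1 ∨ r * r = H.s) ∧
    ∀ y ∈ H.L, ∃ w, (w = 1 ∨ w = r ∨ w = H.x ∨ w = H.x * r ∨ w = H.x * H.x ∨ w = H.x * H.x * r) ∧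
      y * w⁻¹ ∈ H.Q := by
  haveI : Fact (Nat.Prime 3) := ⟨Nat.prime_three⟩
  set K : Subgroup H.L := (Equiv.Perm.sign.comp H.f).ker with hK
  set xL : H.L := ⟨H.x, H.x_L⟩
  have hx3 : H.f xL ^ 3 = 1 := by rw [← map_pow, show xL ^ 3 = 1 from Subtype.ext H.x3, map_one]
  have hx1 : H.f xL ≠ 1 := fun h => H.x_Q (H.f_eq_one.1 h)
  have hXK : (H.X : Subgroup H.L) ≤ K := fun y hy => by
    obtain ⟨i, hi⟩ : (y : G) ∈ zpowers H.x := H.X_eq ▸ mem_map_of_mem _ hy
    have hy' : y = xL ^ i := Subtype.ext (by rw [SubgroupClass.coe_zpow]; exact hi.symm)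
    rw [hK, MonoidHom.mem_ker, MonoidHom.comp_apply, hy', map_zpow, map_zpow, perm3_even _ hx3, one_zpow]
  haveI : K.Normal := MonoidHom.normal_ker _
  obtain ⟨n, hnN, hnK⟩ : ∃ n ∈ Subgroup.normalizer ((H.X : Subgroup H.L) : Set H.L), n ∉ K := by
    by_contra hno
    push Not at hno
    have htop := Sylow.normalizer_sup_eq_top' H.X hXK
    rw [sup_eq_right.2 hno] at htop
    obtain ⟨y, hy⟩ := H.f_surj (Equiv.swap 0 1)
    have : y ∈ K := htop ▸ mem_top y
    rw [hK, MonoidHom.mem_ker, MonoidHom.comp_apply, hy, Equiv.Perm.sign_swap (by decide)] at this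
    exact absurd this (by decide)
  have hodd : Equiv.Perm.sign (H.f n) = -1 := (Int.units_eq_one_or _).resolve_left fun h =>
    hnK (MonoidHom.mem_ker.2 h)
  obtain ⟨hnc, hnn⟩ := perm3_rel _ _ hodd hx3 hx1
  have hxmem : xL ∈ (H.X : Subgroup H.L) := by
    obtain ⟨y, hy, hye⟩ : H.x ∈ (H.X : Subgroup H.L).map H.L.subtype := H.X_eq ▸ mem_zpowers H.x
    exact (Subtype.ext hye : y = xL) ▸ hy
  have hconj : (n : G) * H.x * (n : G)⁻¹ ∈ zpowers H.x :=
    H.X_eq ▸ (mem_map_of_mem H.L.subtype ((mem_normalizer_iff.1 hnN xL).1 hxmem) :)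
  have hinv : (n : G) * H.x * (n : G)⁻¹ = H.x⁻¹ := by
    obtain ⟨i, hi⟩ := hconj
    have hi' : H.x ^ i = H.x ^ (i % 3) := by
      conv_lhs => rw [← Int.emod_add_mul_ediv i 3, zpow_add, zpow_mul,
        show H.x ^ (3 : ℤ) = 1 from by exact_mod_cast H.x3, one_zpow, mul_one]
    have hi2 : H.x ^ (i % 3) = (n : G) * H.x * (n : G)⁻¹ := hi' ▸ hi
    rcases (show i % 3 = 0 ∨ i % 3 = 1 ∨ i % 3 = 2 by omega) with e | e | e <;> rw [e] at hi2
    · rw [zpow_zero, eq_comm, conj_eq_one_iff] at hi2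
      exact absurd (hi2 ▸ one_mem _) H.x_Q
    · rw [zpow_one] at hi2
      refine absurd ?_ hnc
      rw [← map_mul, ← map_mul]
      exact congrArg _ (Subtype.ext (mul_inv_eq_iff_eq_mul.1 hi2.symm))
    · rw [← hi2, zpow_two]
      refine (inv_eq_of_mul_eq_one_right ?_).symm
      rw [← H.x3, pow_succ, pow_two, mul_assoc]
  have hn2 : H.x * ((n : G) * n) = (n : G) * n * H.x := by
    refine (mul_inv_eq_iff_eq_mul.1 ?_).symm
    calc (n : G) * n * H.x * ((n : G) * n)⁻¹ = (n : G) * ((n : G) * H.x * (n : G)⁻¹) * (n : G)⁻¹ := by group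
      _ = (n : G) * H.x⁻¹ * (n : G)⁻¹ := by rw [hinv]
      _ = ((n : G) * H.x * (n : G)⁻¹)⁻¹ := by group
      _ = H.x := by rw [hinv, inv_inv]
  refine ⟨n, n.2, hinv, H.fixed ?_ hn2, fun y hy => ?_⟩
  · exact H.f_eq_one.1 (show H.f (n * n) = 1 by rw [map_mul, hnn])
  have hrel : ∀ w : H.L, H.f ⟨y, hy⟩ = H.f w → y * (w : G)⁻¹ ∈ H.Q := fun w h =>
    H.f_eq_one.1 (show H.f (⟨y, hy⟩ * w⁻¹) = 1 by rw [map_mul, map_inv, h, mul_inv_cancel])
  rcases (by simpa using perm3_cover _ _ hodd hx3 hx1 (H.f ⟨y, hy⟩)) with e | e | e | e | e | e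
  · exact ⟨1, by simp, by simpa using H.f_eq_one.1 e⟩
  · exact ⟨n, by simp, hrel n e⟩
  · exact ⟨H.x, by simp, hrel xL e⟩
  · exact ⟨H.x * n, by simp, hrel (xL * n) (by rw [map_mul, e])⟩
  · exact ⟨H.x * H.x, by simp, hrel (xL * xL) (by rw [map_mul, e])⟩
  · exact ⟨H.x * H.x * n, by simp, hrel (xL * xL * n) (by rw [map_mul, map_mul, e])⟩

end Hyp

end Cfsg.Lib.ExtraEight
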