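import Cfsg.Agent.ExtraEight.FusionFacts
import Cfsg.Agent.ExtraEight.LogData

/-!
Finite facts for the two swaps.
-/

set_option autoImplicit false
set_option maxRecDepth 20000
set_option maxHeartbeats 2000000

namespace Cfsg.Lib.ExtraEight

/-- action of a swap -/
def actS : Bool → L4
  | false => (8, 4, 2, 1)
  | true => (10, 6, 4, 7)
/-- the fused involution -/
def uS (b : Bool) : MA := el (actS b).1
/-- the fixed involution outside -/
def kS (b : Bool) : MA := MA.mk (if b then 42 else 36)
/-- image of a swap on the centraliser of the pair -/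
def imgS (b : Bool) (x : MA) : MA := MA.mk (get (if b then hImgTab else gImgTab) 8 x.val)
/-- the element giving order three -/
def nS (b : Bool) : MA := MA.mk (if b then 44 else 34)
/-- the obstruction -/
def vS (b : Bool) : MA := MA.mk (if b then v2C else v1C)
/-- the subgroup of order eight of a swap -/
def inVS (b : Bool) (x : MA) : Bool := x == 1 || labA x == 1 || labA x == (if b then 4 else 3)
/-- the map of the element of order three on the subgroup of order eight -/
def sigS (b : Bool) (x : MA) : MA := imgS b (nS b * x * (nS b)⁻¹)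
/-- the middle element -/
def mA : MA := MA.mk 186
/-- its action -/
def actA : L4 := mkL aTuple
/-- product of the two swaps -/
def tauGH : L4 := comp (actS false) (actS true)
/-- product through the middle element -/
def tauGAH : L4 := comp (actS false) (comp actA (actS true))

/-- words reaching the chosen swap -/
def certTarget : Bool → List (List ℕ)
  | false => [[0], [0], [0], [0], [0, 1], [0, 1], [0, 1], [0, 1], [0, 3], [0, 3], [0, 3], [0, 3], [0, 1], [0, 1], [0, 1], [0, 1]]
  | true => [[1], [1, 0], [1, 4], [1, 0], [1], [0, 1], [0, 1], [0, 1], [1], [1, 0], [1, 4], [1, 0], [1], [0, 1], [0, 1], [0, 1]]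

/-- certificate for the chosen swap -/
def targetOK (b : Bool) : Bool :=
  (List.range 4).all fun i => (List.range 4).all fun j =>
    let r := evalW ((cand 1).getD i idL :: (cand 2).getD j idL :: sbar.tail) ((certTarget b).getD (i * 4 + j) [])
    killB r || labV r.1 == 2 || labV r.1 == 5 || r == actS b

theorem target_ok : targetOK false = true ∧ targetOK true = true ∧ (cand 1).length = 4 ∧ (cand 2).length = 4 := by
  decide +kernel

theorem act_invol : ∀ b : Bool, ∀ m : Fin 16, app (actS b) (app (actS b) m) = m := by decide +kernel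

theorem act_zero : ∀ b : Bool, ∀ m : Fin 16, app (actS b) m = 0 → m = 0 := by decide +kernel

theorem act_add : ∀ b : Bool, ∀ a c : Fin 16, app (actS b) (vadd a c) = vadd (app (actS b) a) (app (actS b) c) := by
  decide +kernel

theorem sq_fix : ∀ b : Bool, ∀ w : Fin 16, app (actS b) w = w →
    ∃ c : Fin 16, vadd (vadd (app (actS b) c) w) c = 0 := by decide +kernel

theorem w_self : ∀ l : MA, (∀ m : Fin 16, l * el m = el m * l) → inW l = true := by decide +kernel

theorem k_facts : ∀ b : Bool, kS b * kS b = 1 ∧ kS b * uS b = uS b * kS b ∧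
    (∀ m : Fin 16, ∃ m' : Fin 16, kS b * el m * kS b = el m') ∧ uS b * uS b = 1 ∧ uS b ≠ tA := by decide +kernel

theorem k_fix : ∀ b : Bool, ∀ k : MA, k * k = 1 → k * uS b = uS b * k →
    (∀ m m' : Fin 16, kS b * el m * kS b = el m' → k * el (app (actS b) m) * k = el (app (actS b) m')) →
    (∀ w : Fin 16, k = kS b * el w → app (actS b) w = w) →
    ∃ v : Fin 16, app (actS b) v = v ∧ el v * k * el v = kS b := by decide +kernel

theorem img_spec : ∀ b : Bool, ∀ x : MA, x * uS b = uS b * x → ∃ a : Fin 16, ∃ e : Bool,
    x = el a * (if e then kS b else 1) ∧ imgS b x = el (app (actS b) a) * (if e then kS b else 1) := by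
  decide +kernel

theorem cube_facts : ∀ b : Bool, inVS b tA = true ∧
    (∀ x : MA, inVS b x = true → (nS b * x * (nS b)⁻¹) * uS b = uS b * (nS b * x * (nS b)⁻¹) ∧
      inVS b (sigS b x) = true ∧ sigS b (sigS b (sigS b x)) = x) ∧
    (∀ l : MA, (∀ x : MA, inVS b x = true → l * x = x * l) → inVS b l = true) ∧
    (∀ x : MA, inVS b x = true → sigS b x = x → x = 1 ∨ x = vS b) := by decide +kernel

theorem gh_facts : (∀ m : Fin 16, app tauGH (app tauGH (app tauGH m)) = m) ∧
    (∀ c : Fin 16, app tauGH c = c → app (actS false) c = c → ∃ v : Fin 16, app (actS false) v = v ∧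
      el v * kS false = kS false * el v ∧
      vadd (vadd (vadd c (app tauGH (app tauGH (app (actS true) v)))) (app tauGH (app (actS true) v)))
        (app (actS true) v) = 0) ∧
    (∀ m : Fin 16, app tauGH m = app (actS false) (app (actS true) m)) := by decide +kernel

theorem gah_facts : (∀ m : Fin 16, mA * el m * mA⁻¹ = el (app actA m)) ∧
    (∀ m : Fin 16, app tauGAH (app tauGAH m) = m) ∧
    (∀ m : Fin 16, app tauGAH m = app (actS false) (app actA (app (actS true) m))) ∧
    (∀ w : Fin 16, app tauGAH w = w → ∃ i : Fin 4, el w = MA.mk (w2C.getD i.val 0)) := by decide +kernel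

end Cfsg.Lib.ExtraEight
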