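import Cfsg.Agent.ExtraEight.Fusion
import Cfsg.Agent.ExtraEight.SwapFacts

/-!
The two swaps.
-/

set_option autoImplicit false
set_option linter.unusedSectionVars false
set_option linter.style.haveILetI false
set_option maxRecDepth 10000

namespace Cfsg.Lib.ExtraEight

open Subgroup

variable {G : Type*} [Group G] [Finite G]

namespace ASetting

variable (S : ASetting G)

theorem conj_vadd {n : G} {f : Fin 16 → Fin 16} (h : ∀ m, n * S.φ (el m) * n⁻¹ = S.φ (el (f m))) (a b : Fin 16) :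
    S.φ (el (f (vadd a b))) = S.φ (el (vadd (f a) (f b))) := by
  rw [← h, el_xor, el_xor, map_mul, map_mul, ← h, ← h]; group

theorem el_inv (m : Fin 16) : (S.φ (el m))⁻¹ = S.φ (el m) :=
  inv_eq_of_mul_eq_one_right (by rw [← map_mul, el_sq, map_one])

theorem el_commute (a b : Fin 16) : S.φ (el a) * S.φ (el b) = S.φ (el b) * S.φ (el a) := by
  rw [← map_mul, el_comm, map_mul]

theorem central_W {y : G} (hy : ∀ m, y * S.φ (el m) = S.φ (el m) * y) : ∃ w : Fin 16, y = S.φ (el w) := by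
  have ht := hy 1
  rw [el_zero.2] at ht
  obtain ⟨l, hl⟩ := S.mem_iff.1 (show y * S.t = S.t * y from ht)
  obtain ⟨w, hw⟩ := mem_WA.1 (show l ∈ WA from w_self l fun m => S.inj (by rw [map_mul, map_mul, hl]; exact hy m))
  exact ⟨w, by rw [hw, hl]⟩

theorem exists_target (hP : S.Pattern) (b : Bool) :
    ∃ n : G, ∀ m : Fin 16, n * S.φ (el m) * n⁻¹ = S.φ (el (app (actS b) m)) := by
  obtain ⟨p2, p3, p4, p5, -⟩ := hP
  obtain ⟨g, hg, hgr⟩ := S.exists_cand 1 p3
  obtain ⟨h, hh, hhr⟩ := S.exists_cand 2 p4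
  obtain ⟨i, hi, rfl⟩ := List.getElem_of_mem hg
  obtain ⟨j, hj, rfl⟩ := List.getElem_of_mem hh
  obtain ⟨t1, t2, l1, l2⟩ := target_ok
  have hok : targetOK b = true := by cases b; exacts [t1, t2]
  simp only [targetOK, List.all_eq_true, List.mem_range, Bool.or_eq_true] at hok
  have h1 := hok i (l1 ▸ hi) j (l2 ▸ hj)
  rw [List.getD_eq_getElem _ _ hi, List.getD_eq_getElem _ _ hj] at h1
  set r := evalW ((cand 1)[i] :: (cand 2)[j] :: sbar.tail) ((certTarget b).getD (i * 4 + j) [])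
  have hr : S.Real r := S.real_eval (fun x hx => by
    rcases List.mem_cons.1 hx with rfl | hx
    · exact hgr
    rcases List.mem_cons.1 hx with rfl | hx
    exacts [hhr, S.real_sbar (List.mem_of_mem_tail hx)]) _
  have h0 : r.1 ≠ 0 := fun e => by
    have hz : ∀ x : Fin 16, vadd 0 x = x ∧ vadd x 0 = x := by decide +kernel
    have : app r 1 = 0 := by rw [← e]; simp [app, bitv, Nat.testBit, hz]
    exact absurd (S.real_inj hr this) (by decide)
  rcases h1 with ((h1 | h1) | h1) | h1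
  · rw [S.real_kill hr] at h1; exact absurd h1 Bool.false_ne_true
  · exact absurd (beq_iff_eq.1 h1 ▸ S.real_fused hr h0) p2
  · exact absurd (beq_iff_eq.1 h1 ▸ S.real_fused hr h0) p5
  · exact (beq_iff_eq.1 h1) ▸ hr

/-- a normalised swap -/
def IsSw (b : Bool) (g : G) : Prop :=
  g * g = 1 ∧ ∀ x : MA, x * uS b = uS b * x → g * S.φ x * g = S.φ (imgS b x)

theorem isSw_of {b : Bool} {g : G} (h1 : g * g = 1) (h2 : ∀ m, g * S.φ (el m) * g = S.φ (el (app (actS b) m)))
    (h3 : g * S.φ (kS b) * g = S.φ (kS b)) : S.IsSw b g := by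
  refine ⟨h1, fun x hx => ?_⟩
  obtain ⟨a, e, hxe, hie⟩ := img_spec b x hx
  rw [hie, hxe]
  cases e
  · simp only [Bool.false_eq_true, if_false, mul_one]; exact h2 a
  · simp only [if_true]
    rw [map_mul, map_mul, ← h2]
    conv_rhs => arg 2; rw [← h3]
    calc g * (S.φ (el a) * S.φ (kS b)) * g = g * S.φ (el a) * (g * g) * S.φ (kS b) * g := by rw [h1]; group
      _ = _ := by group

theorem IsSw.el_img {S : ASetting G} {b : Bool} {g : G} (h : S.IsSw b g) (m : Fin 16) :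
    g * S.φ (el m) * g = S.φ (el (app (actS b) m)) := by
  have key : ∀ b : Bool, ∀ m : Fin 16, el m * uS b = uS b * el m ∧ imgS b (el m) = el (app (actS b) m) := by
    decide +kernel
  rw [h.2 _ (key b m).1, (key b m).2]

theorem IsSw.k_img {S : ASetting G} {b : Bool} {g : G} (h : S.IsSw b g) : g * S.φ (kS b) * g = S.φ (kS b) := by
  have key : ∀ b : Bool, imgS b (kS b) = kS b := by decide +kernel
  rw [h.2 _ (k_facts b).2.1, key b]

theorem exists_sw (hP : S.Pattern) (b : Bool) : ∃ g, S.IsSw b g := by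
  obtain ⟨n, hn⟩ := S.exists_target hP b
  obtain ⟨w, hw⟩ := S.central_W (y := n * n) fun m => by
    refine mul_inv_eq_iff_eq_mul.1 ?_
    calc n * n * S.φ (el m) * (n * n)⁻¹ = n * (n * S.φ (el m) * n⁻¹) * n⁻¹ := by group
      _ = _ := by rw [hn, hn, act_invol]
  have hwfix : app (actS b) w = w := el_inj _ _ (S.inj (by rw [← hn, ← hw]; group))
  obtain ⟨c, hc⟩ := sq_fix b w hwfix
  set n1 := n * S.φ (el c) with hn1
  have hn1sq : n1 * n1 = 1 := by
    calc n1 * n1 = (n * S.φ (el c) * n⁻¹) * (n * n) * S.φ (el c) := by rw [hn1]; group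
      _ = _ := by rw [hn, hw, ← map_mul, ← map_mul, ← el_xor, ← el_xor, hc, el_zero.1, map_one]
  have hn1i : n1⁻¹ = n1 := inv_eq_of_mul_eq_one_right hn1sq
  have hn1e : ∀ m, n1 * S.φ (el m) * n1 = S.φ (el (app (actS b) m)) := fun m => by
    conv_lhs => arg 2; rw [← hn1i]
    calc n1 * S.φ (el m) * n1⁻¹ = n * (S.φ (el c) * S.φ (el m) * (S.φ (el c))⁻¹) * n⁻¹ := by rw [hn1]; group
      _ = _ := by rw [S.el_commute c m, mul_inv_cancel_right, hn]
  obtain ⟨kk, ku, kW, -, -⟩ := k_facts b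
  have hu : n1 * S.t * n1 = S.φ (uS b) := by
    have hz : ∀ b : Bool, app (actS b) 1 = (actS b).1 := by decide +kernel
    rw [uS, ← hz, ← hn1e, el_zero.2]; rfl
  have hu' : n1 * S.φ (uS b) * n1 = S.t := by
    rw [← hu, show n1 * (n1 * S.t * n1) * n1 = (n1 * n1) * S.t * (n1 * n1) by group, hn1sq]; group
  have hconj : ∀ {y z : G}, y * z = z * y → n1 * y * n1 * (n1 * z * n1) = n1 * z * n1 * (n1 * y * n1) := by
    intro y z h
    calc n1 * y * n1 * (n1 * z * n1) = n1 * (y * (n1 * n1) * z) * n1 := by group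
      _ = n1 * (z * (n1 * n1) * y) * n1 := by rw [hn1sq, mul_one, mul_one, h]
      _ = _ := by group
  obtain ⟨k', hk'⟩ := S.mem_iff.1 (show n1 * S.φ (kS b) * n1 * S.t = S.t * (n1 * S.φ (kS b) * n1) by
    rw [← hu']; exact hconj (by rw [← map_mul, ku, map_mul]))
  have k1 : k' * k' = 1 := S.inj (by
    rw [map_mul, hk', map_one, show n1 * S.φ (kS b) * n1 * (n1 * S.φ (kS b) * n1) =
      n1 * (S.φ (kS b) * (n1 * n1) * S.φ (kS b)) * n1 by group, hn1sq, mul_one, ← map_mul, kk, map_one, mul_one, hn1sq])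
  have k2 : k' * uS b = uS b * k' := S.inj (by
    rw [map_mul, map_mul, hk', ← hu]; exact hconj (S.φ_comm _))
  have k3 : ∀ m m' : Fin 16, kS b * el m * kS b = el m' →
      k' * el (app (actS b) m) * k' = el (app (actS b) m') := fun m m' h => S.inj (by
    rw [map_mul, map_mul, hk', ← hn1e, ← hn1e, ← h, map_mul, map_mul,
      show n1 * S.φ (kS b) * n1 * (n1 * S.φ (el m) * n1) * (n1 * S.φ (kS b) * n1) =
        n1 * (S.φ (kS b) * (n1 * n1) * S.φ (el m) * (n1 * n1) * S.φ (kS b)) * n1 by group, hn1sq, mul_one, mul_one])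
  have k4 : ∀ w : Fin 16, k' = kS b * el w → app (actS b) w = w := fun w h => by
    have h1 : n1 * S.φ k' * n1 = S.φ (kS b) := by
      rw [hk', show n1 * (n1 * S.φ (kS b) * n1) * n1 = (n1 * n1) * S.φ (kS b) * (n1 * n1) by group, hn1sq]; group
    have e : n1 * S.φ (kS b * el w) * n1 = S.φ k' * S.φ (el (app (actS b) w)) := by
      rw [hk', ← hn1e, map_mul]
      calc n1 * (S.φ (kS b) * S.φ (el w)) * n1 = n1 * S.φ (kS b) * (n1 * n1) * S.φ (el w) * n1 := by
            rw [hn1sq]; group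
        _ = _ := by group
    rw [← h, h1, ← map_mul] at e
    have e' := S.inj e
    rw [h, mul_assoc, ← el_xor, left_eq_mul, ← el_zero.1] at e'
    have hd : ∀ a c : Fin 16, vadd a c = 0 → c = a := by decide +kernel
    exact hd _ _ (el_inj _ _ e')
  obtain ⟨v, hv, hvk⟩ := k_fix b k' k1 k2 k3 k4
  set n2 := S.φ (el v) * n1 with hn2
  have hnv : n1 * S.φ (el v) * n1 = S.φ (el v) := by rw [hn1e, hv]
  have hvn : S.φ (el v) * n1 = n1 * S.φ (el v) := by
    calc S.φ (el v) * n1 = n1 * S.φ (el v) * n1 * n1 := by rw [hnv]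
      _ = _ := by rw [mul_assoc, hn1sq, mul_one]
  have hvv : S.φ (el v) * S.φ (el v) = 1 := by rw [← map_mul, el_sq, map_one]
  refine ⟨n2, S.isSw_of ?_ (fun m => ?_) ?_⟩
  · rw [hn2, show S.φ (el v) * n1 * (S.φ (el v) * n1) = S.φ (el v) * (n1 * S.φ (el v) * n1) by group, hnv, hvv]
  · conv_lhs => arg 2; rw [hn2, hvn]
    rw [hn2, show S.φ (el v) * n1 * S.φ (el m) * (n1 * S.φ (el v)) = S.φ (el v) * (n1 * S.φ (el m) * n1) * S.φ (el v) by
      group, hn1e, S.el_commute, mul_assoc, hvv, mul_one]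
  · conv_lhs => arg 2; rw [hn2, hvn]
    rw [hn2, show S.φ (el v) * n1 * S.φ (kS b) * (n1 * S.φ (el v)) = S.φ (el v) * (n1 * S.φ (kS b) * n1) * S.φ (el v) by
      group, ← hk', ← map_mul, ← map_mul, hvk]

theorem cube_eq {b : Bool} {g : G} (hg : S.IsSw b g) :
    (g * S.φ (nS b)) ^ 3 = 1 ∨ (g * S.φ (nS b)) ^ 3 = S.φ (vS b) := by
  obtain ⟨vt, hV, hself, hfix⟩ := cube_facts b
  set y := g * S.φ (nS b) with hy
  have hgi : g⁻¹ = g := inv_eq_of_mul_eq_one_right hg.1
  have hy1 : ∀ x, inVS b x = true → y * S.φ x * y⁻¹ = S.φ (sigS b x) := fun x hx => by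
    rw [sigS, ← hg.2 _ (hV x hx).1, map_mul, map_mul, map_inv, hy, mul_inv_rev, hgi]
    group
  have hy3 : ∀ x, inVS b x = true → y ^ 3 * S.φ x = S.φ x * y ^ 3 := fun x hx => by
    refine mul_inv_eq_iff_eq_mul.1 ?_
    calc y ^ 3 * S.φ x * (y ^ 3)⁻¹ = y * (y * (y * S.φ x * y⁻¹) * y⁻¹) * y⁻¹ := by
          simp only [pow_succ, pow_zero, one_mul, mul_inv_rev, mul_assoc]
      _ = _ := by rw [hy1 x hx, hy1 _ (hV x hx).2.1, hy1 _ (hV _ (hV x hx).2.1).2.1, (hV x hx).2.2]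
  obtain ⟨l, hl⟩ := S.mem_iff.1 (show y ^ 3 * S.t = S.t * y ^ 3 from hy3 tA vt)
  have hlV : inVS b l = true := hself l fun x hx => S.inj (by rw [map_mul, map_mul, hl]; exact hy3 x hx)
  have hs : sigS b l = l := S.inj (by
    rw [← hy1 l hlV, hl, ← pow_succ', pow_succ y 3, mul_inv_cancel_right])
  rcases hfix l hlV hs with e | e <;> rw [e] at hl
  · exact Or.inl (by rw [← hl, map_one])
  · exact Or.inr hl.symm

theorem exists_pair (hP : S.Pattern) : ∃ g h, S.IsSw false g ∧ S.IsSw true h ∧ (g * h) ^ 3 = 1 := by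
  obtain ⟨g, hg⟩ := S.exists_sw hP false
  obtain ⟨h, hh⟩ := S.exists_sw hP true
  obtain ⟨t3, tfix, tcomp⟩ := gh_facts
  have hgi : g⁻¹ = g := inv_eq_of_mul_eq_one_right hg.1
  have hhi : h⁻¹ = h := inv_eq_of_mul_eq_one_right hh.1
  set y := g * h with hy
  have hy1 : ∀ m, y * S.φ (el m) * y⁻¹ = S.φ (el (app tauGH m)) := fun m => by
    rw [tcomp, ← hg.el_img, ← hh.el_img, hy, mul_inv_rev, hgi, hhi]; group
  obtain ⟨c, hc⟩ := S.central_W (y := y ^ 3) fun m => by
    refine mul_inv_eq_iff_eq_mul.1 ?_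
    calc y ^ 3 * S.φ (el m) * (y ^ 3)⁻¹ = y * (y * (y * S.φ (el m) * y⁻¹) * y⁻¹) * y⁻¹ := by
          simp only [pow_succ, pow_zero, one_mul, mul_inv_rev, mul_assoc]
      _ = _ := by rw [hy1, hy1, hy1, t3]
  have c1 : app tauGH c = c := el_inj _ _ (S.inj (by
    rw [← hy1, ← hc, ← pow_succ', pow_succ y 3, mul_inv_cancel_right]))
  have c2 : app (actS false) c = c := el_inj _ _ (S.inj (by
    have e : g * y ^ 3 * g⁻¹ = (y ^ 3)⁻¹ := by
      rw [← conj_pow, show g * y * g⁻¹ = y⁻¹ by rw [hy, mul_inv_rev, hgi, hhi, ← mul_assoc, hg.1, one_mul], inv_pow]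
    rw [hc, hgi, hg.el_img, S.el_inv] at e
    exact e))
  obtain ⟨v, v1, v2, v3⟩ := tfix c c1 c2
  set V := S.φ (el v) with hV
  have hgv : g * V = V * g := by
    have := hg.el_img v
    rw [v1] at this
    calc g * V = g * V * (g * g) := by rw [hg.1, mul_one]
      _ = g * V * g * g := by group
      _ = _ := by rw [this]
  have hVV : V * V = 1 := by rw [hV, ← map_mul, el_sq, map_one]
  have hg' : S.IsSw false (g * V) := by
    refine S.isSw_of ?_ (fun m => ?_) ?_
    · calc g * V * (g * V) = g * (V * g) * V := by group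
        _ = g * g * (V * V) := by rw [← hgv]; group
        _ = 1 := by rw [hg.1, hVV, mul_one]
    · conv_lhs => arg 2; rw [hgv]
      calc g * V * S.φ (el m) * (V * g) = g * (V * S.φ (el m) * V) * g := by group
        _ = _ := by rw [hV, S.el_commute, ← hV, mul_assoc (S.φ (el m)), hVV, mul_one, hg.el_img]
    · conv_lhs => arg 2; rw [hgv]
      calc g * V * S.φ (kS false) * (V * g) = g * (V * S.φ (kS false) * V) * g := by group
        _ = _ := by rw [hV, ← map_mul, v2, map_mul, ← hV, mul_assoc (S.φ (kS false)), hVV, mul_one, hg.k_img]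
  refine ⟨g * V, h, hg', hh, ?_⟩
  set z := app (actS true) v
  set Z := S.φ (el z) with hZ
  have hz : V * h = h * Z := by
    rw [hZ, ← hh.el_img, ← hV]
    calc V * h = (h * h) * V * h := by rw [hh.1, one_mul]
      _ = _ := by group
  have hmv : ∀ m, S.φ (el m) * y⁻¹ = y⁻¹ * S.φ (el (app tauGH m)) := fun m => by rw [← hy1]; group
  calc (g * V * h) ^ 3 = (y * Z) ^ 3 := by rw [mul_assoc, hz, hy, mul_assoc]
    _ = y ^ 3 * (y⁻¹ * y⁻¹ * Z * y * y) * (y⁻¹ * Z * y) * Z := by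
      simp only [pow_succ, pow_zero, one_mul]; group
    _ = _ := by
      have hinv : ∀ m, y⁻¹ * S.φ (el (app tauGH m)) * y = S.φ (el m) := fun m => by
        rw [← hy1]; group
      have i1 : y⁻¹ * Z * y = S.φ (el (app tauGH (app tauGH z))) := by
        rw [← hinv (app tauGH (app tauGH z)), t3]
      have i2 : y⁻¹ * y⁻¹ * Z * y * y = S.φ (el (app tauGH z)) := by
        rw [← hinv (app tauGH z), ← i1]; group
      rw [hc, i1, i2, hZ, ← map_mul, ← map_mul, ← map_mul, ← el_xor, ← el_xor, ← el_xor]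
      have hd : ∀ a b c d : Fin 16, vadd (vadd (vadd a b) c) d = vadd (vadd (vadd a c) b) d := by decide +kernel
      rw [hd, v3, el_zero.1, map_one]

theorem square_eq {g h : G} (hg : S.IsSw false g) (hh : S.IsSw true h) :
    ∃ i : Fin 4, (g * S.φ mA * h) ^ 2 = S.φ (MA.mk (w2C.getD i.val 0)) := by
  obtain ⟨am, a2, acomp, afix⟩ := gah_facts
  have hgi : g⁻¹ = g := inv_eq_of_mul_eq_one_right hg.1
  have hhi : h⁻¹ = h := inv_eq_of_mul_eq_one_right hh.1
  set y := g * S.φ mA * h with hy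
  have hy1 : ∀ m, y * S.φ (el m) * y⁻¹ = S.φ (el (app tauGAH m)) := fun m => by
    rw [acomp, ← hg.el_img, ← am, map_mul, map_mul, map_inv, ← hh.el_img, hy, mul_inv_rev, mul_inv_rev, hgi, hhi]
    group
  obtain ⟨w, hw⟩ := S.central_W (y := y ^ 2) fun m => by
    refine mul_inv_eq_iff_eq_mul.1 ?_
    calc y ^ 2 * S.φ (el m) * (y ^ 2)⁻¹ = y * (y * S.φ (el m) * y⁻¹) * y⁻¹ := by
          simp only [pow_succ, pow_zero, one_mul, mul_inv_rev, mul_assoc]
      _ = _ := by rw [hy1, hy1, a2]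
  have c1 : app tauGAH w = w := el_inj _ _ (S.inj (by
    rw [← hy1, ← hw, ← pow_succ', pow_succ y 2, mul_inv_cancel_right]))
  obtain ⟨i, hi⟩ := afix w c1
  exact ⟨i, by rw [hw, hi]⟩

end ASetting

end Cfsg.Lib.ExtraEight
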